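import Groth.Agent.NagataLib.Noeth
import Groth.Agent.AlgGlue.Models
import Groth.Agent.S7395
import Groth.Agent.S0591
import Groth.Agent.S9190

/-!
# Compactifications over a quasi-compact quasi-separated base
-/

universe u

set_option autoImplicit false
set_option linter.style.haveILetI false
set_option backward.isDefEq.respectTransparency false
set_option backward.isDefEq.respectTransparency.types false

open CategoryTheory CategoryTheory.Limits AlgebraicGeometry TopologicalSpace Opposite

namespace Groth.Agent.NagataLib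

/-- A separated morphism of finite presentation is a base change from a model. -/
theorem exists_model_sep {X S : Scheme.{u}} (f : X ⟶ S) [CompactSpace S] [QuasiSeparatedSpace S]
    [IsSeparated f] [QuasiCompact f] [LocallyOfFinitePresentation f] :
    ∃ (T X₀ : Scheme.{u}) (f₀ : X₀ ⟶ T) (b : S ⟶ T) (q : X ⟶ X₀), IsNoetherian T ∧
      IsSeparated f₀ ∧ QuasiCompact f₀ ∧ LocallyOfFiniteType f₀ ∧ IsPullback q f f₀ b := by
  obtain ⟨M⟩ := AlgGlue.nonempty_model S
  haveI : ∀ (i j : M.Aᵒᵖ) (h : i ⟶ j), IsAffineHom (M.D.map h) := fun _ _ h => M.affine h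
  obtain ⟨i, Xi, fi, g, h1, h2, h3, hsq⟩ :=
    Groth.Agent.S0591.result M.D M.cone M.isLimit X (show X ⟶ M.cone.pt from f)
  haveI := h1
  haveI := h2
  haveI := h3
  haveI : CompactSpace Xi := QuasiCompact.compactSpace_of_compactSpace fi
  haveI : QuasiSeparatedSpace Xi := quasiSeparatedSpace_of_quasiSeparated fi
  haveI : IsSeparated (show X ⟶ M.cone.pt from f) := ‹IsSeparated f›
  obtain ⟨i', φ, Xj, Yj, fj, gj, pY, pX, hY, hX, hsep⟩ :=
    Groth.Agent.S9190.result M.D M.cone M.isLimit i fi (𝟙 _) (show X ⟶ M.cone.pt from f) (𝟙 _)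
      (M.π i) g (IsPullback.of_vert_isIso ⟨by exact (Category.comp_id _).trans (Category.id_comp _).symm⟩)
      hsq
  haveI := hsep
  haveI : IsIso gj :=
    MorphismProperty.of_isPullback (P := MorphismProperty.isomorphisms Scheme.{u}) hY
      ((MorphismProperty.isomorphisms.iff _).2 inferInstance)
  have hout : IsPullback pX (fj ≫ gj) fi (M.D.map φ) := by
    simpa using hX.paste_vert hY
  let f₀ := fj ≫ gj
  haveI : QuasiCompact f₀ := MorphismProperty.of_isPullback hout h2
  haveI : LocallyOfFiniteType f₀ :=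
    MorphismProperty.of_isPullback hout (inferInstance : LocallyOfFiniteType fi)
  let q : X ⟶ Xj := hout.lift g (f ≫ M.π i') (by
    rw [Category.assoc, M.w φ]; exact hsq.w)
  have hq : IsPullback q f f₀ (M.π i') := by
    refine IsPullback.of_right ?_ (hout.lift_snd _ _ _) hout
    rw [hout.lift_fst, M.w φ]
    exact hsq
  exact ⟨M.D.obj i', Xj, f₀, M.π i', q, (M.ftz i').isNoetherian, inferInstance, inferInstance,
    inferInstance, hq⟩

/-- Nagata compactification. -/
theorem exists_compactification {X S : Scheme.{u}} (f : X ⟶ S) [CompactSpace S]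
    [QuasiSeparatedSpace S] [IsSeparated f] [QuasiCompact f] [LocallyOfFiniteType f] :
    ∃ (Y : Scheme.{u}) (j : X ⟶ Y) (p : Y ⟶ S),
      IsOpenImmersion j ∧ QuasiCompact j ∧ IsProper p ∧ j ≫ p = f := by
  obtain ⟨X', f', jc, hs, hfp, hqc, hjc, rfl⟩ := Groth.Agent.S7395.result f
  haveI := hs
  haveI := hfp
  haveI := hqc
  haveI := hjc
  obtain ⟨T, X₀, f₀, b, q, hT, hs₀, hqc₀, hft₀, hq⟩ := exists_model_sep f'
  haveI := hT
  haveI := hs₀
  haveI := hqc₀
  haveI := hft₀
  obtain ⟨Y₀, j₀, p₀, hj₀, hp₀, rfl⟩ := hasComp f₀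
  haveI := hp₀
  let J : X' ⟶ pullback p₀ b := pullback.lift (q ≫ j₀) f' (by rw [Category.assoc]; exact hq.w)
  have hJ : IsPullback q J j₀ (pullback.fst p₀ b) := by
    refine IsPullback.of_bot ?_ (pullback.lift_fst _ _ _).symm (IsPullback.of_hasPullback p₀ b)
    rw [pullback.lift_snd]
    exact hq
  haveI : IsOpenImmersion J := MorphismProperty.of_isPullback hJ hj₀
  haveI : IsProper (pullback.snd p₀ b) := MorphismProperty.pullback_snd _ _ hp₀
  haveI : QuasiCompact J := by
    haveI : QuasiCompact (J ≫ pullback.snd p₀ b) := by rw [pullback.lift_snd]; infer_instance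
    exact QuasiCompact.of_comp J (pullback.snd p₀ b)
  let c : X ⟶ (J.opensRange : Scheme.{u}) := jc ≫ J.isoOpensRange.hom
  haveI : IsClosedImmersion c := MorphismProperty.comp_mem _ _ _ hjc inferInstance
  haveI : QuasiCompact J.opensRange.ι := by
    rw [← J.isoOpensRange_inv_comp]
    infer_instance
  obtain ⟨h, -⟩ := ModPairLib.isOpenImmersion_toImage J.opensRange c
  refine ⟨_, (c ≫ J.opensRange.ι).toImage, (c ≫ J.opensRange.ι).imageι ≫ pullback.snd p₀ b, h,
    inferInstance, inferInstance, ?_⟩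
  rw [Scheme.Hom.toImage_imageι_assoc]
  simp only [c, J, Category.assoc, Scheme.Hom.isoOpensRange_hom_ι_assoc, pullback.lift_snd]

end Groth.Agent.NagataLib
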