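import Groth.Agent.NagataLib.Pair
import Groth.Agent.FittX.PdOne
import Groth.Agent.FittX.Sheaf
import Groth.Agent.QCoh.ExtendFT
import Groth.Agent.QCoh.Qcqs
import Groth.Agent.QCoh.Devissage

/-!
# Extending finite locally free modules after an admissible blow-up
-/

universe u

set_option autoImplicit false
set_option linter.style.haveILetI false
set_option backward.isDefEq.respectTransparency false
set_option backward.isDefEq.respectTransparency.types false

open CategoryTheory CategoryTheory.Limits AlgebraicGeometry TopologicalSpace Opposite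
open Scheme (IdealSheafData)

namespace Groth.Agent.NagataLib.ExtendFree

variable {Y : Scheme.{u}}

/-- Restriction of a function. -/
abbrev rf {V W : Y.Opens} (h : V ≤ W) (a : Γ(Y, W)) : Γ(Y, V) := Y.presheaf.map (homOfLE h).op a

theorem rf_rf {A B C : Y.Opens} (h : B ≤ C) (h' : A ≤ B) (a : Γ(Y, C)) :
    rf h' (rf h a) = rf (h'.trans h) a := by
  show (Y.presheaf.map _ ≫ Y.presheaf.map _) a = _
  rw [← Functor.map_comp]
  rfl

theorem rf_eq_zero_of_le {A B C : Y.Opens} (h : B ≤ C) (h' : A ≤ B) {a : Γ(Y, C)} (ha : rf h a = 0) :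
    rf (h'.trans h) a = 0 := by
  rw [← rf_rf h h', ha]
  exact map_zero (Y.presheaf.map (homOfLE h').op).hom

theorem ι_app_eq_zero_iff (D : Y.Opens) {W : Y.Opens} (a : Γ(Y, W)) :
    D.ι.app W a = 0 ↔ rf (inf_le_left : W ⊓ D ≤ W) a = 0 := by
  have e : D.ι ''ᵁ (D.ι ⁻¹ᵁ W) = W ⊓ D := by
    rw [Scheme.Hom.image_preimage_eq_opensRange_inf, Scheme.Opens.opensRange_ι, inf_comm]
  rw [Scheme.Opens.ι_app]
  exact ⟨fun h => rf_eq_zero_of_le (D.ι.image_preimage_le W) e.ge h,
    fun h => rf_eq_zero_of_le (inf_le_left : W ⊓ D ≤ W) e.le h⟩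

theorem eq_zero_of_dense (D : Y.Opens) [IsSchemeTheoreticallyDominant D.ι] [QuasiCompact D.ι]
    {W : Y.Opens} (a : Γ(Y, W)) (h : rf (inf_le_left : W ⊓ D ≤ W) a = 0) : a = 0 :=
  D.ι.app_injective W (((ι_app_eq_zero_iff D a).2 h).trans (map_zero _).symm)

/-- The ideal vanishes on the open. -/
def Van (I : Y.IdealSheafData) (D : Y.Opens) : Prop :=
  ∀ (W : Y.affineOpens) (a : Γ(Y, W.1)), a ∈ I.ideal W → rf (inf_le_left : W.1 ⊓ D ≤ W.1) a = 0

theorem comap_eq_bot_iff (I : Y.IdealSheafData) (D : Y.Opens) : I.comap D.ι = ⊥ ↔ Van I D := by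
  rw [← le_bot_iff, ← IdealSheafData.le_map_iff_comap_le, IdealSheafData.map_bot, Scheme.Hom.ker,
    IdealSheafData.le_ofIdeals_iff]
  exact forall_congr' fun W => forall_congr' fun a => imp_congr_right fun _ =>
    RingHom.mem_ker.trans (ι_app_eq_zero_iff D a)

theorem Van.comap {Y' : Scheme.{u}} {I : Y.IdealSheafData} {D : Y.Opens} (h : Van I D) (b : Y' ⟶ Y) :
    Van (I.comap b) (b ⁻¹ᵁ D) := by
  rw [← comap_eq_bot_iff] at h ⊢
  rw [← IdealSheafData.comap_comp, ← morphismRestrict_ι, IdealSheafData.comap_comp, h]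
  exact (IdealSheafData.map_gc (b ∣_ D)).l_bot

theorem van_ker (D : Y.Opens) : Van D.ι.ker D := fun W a ha =>
  (ι_app_eq_zero_iff D a).1 (RingHom.mem_ker.1 (D.ι.ideal_ker_le W ha))

theorem van_sSup (I : Y.IdealSheafData) (S : Set Y.Opens) (h : ∀ D ∈ S, Van I D) : Van I (sSup S) := by
  intro W a ha
  refine Y.IsSheaf.section_ext fun x hx => ?_
  obtain ⟨D, hD, hxD⟩ := Opens.mem_sSup.1 hx.2
  refine ⟨W.1 ⊓ D, inf_le_inf_left _ (le_sSup hD), ⟨hx.1, hxD⟩, ?_⟩
  show rf _ (rf _ a) = rf _ 0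
  rw [rf_rf, h D hD W a ha]
  exact (map_zero _).symm

theorem mem_support_of_van {I : Y.IdealSheafData} {D : Y.Opens} (h : Van I D) {y : Y} (hy : y ∈ D) :
    y ∈ I.support := by
  have h' := congrArg IdealSheafData.support ((comap_eq_bot_iff I D).2 h)
  rw [IdealSheafData.support_comap, IdealSheafData.support_bot] at h'
  have : (⟨y, hy⟩ : D) ∈ (I.support.preimage D.ι.continuous : Set (D : Scheme.{u})) := by
    rw [h']; trivial
  exact this

theorem exists_principal_le {I : Y.IdealSheafData} (hI : ModPairLib.IsLocPrincipal I) {N : Y.Opens}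
    {y : Y} (hy : y ∈ N) :
    ∃ (W : Y.affineOpens), y ∈ W.1 ∧ W.1 ≤ N ∧ ∃ g : Γ(Y, W.1), I.ideal W = Ideal.span {g} := by
  obtain ⟨U, hU, g, hg⟩ := hI y
  obtain ⟨f, hfN, hyf⟩ := U.2.exists_basicOpen_le (V := N) ⟨y, hy⟩ hU
  refine ⟨⟨Y.basicOpen f, U.2.basicOpen f⟩, hyf, hfN, rf (Y.basicOpen_le f) g, ?_⟩
  rw [← I.map_ideal (V := U) (U := ⟨Y.basicOpen f, U.2.basicOpen f⟩) (Y.basicOpen_le f), hg,
    Ideal.map_span, Set.image_singleton]
  rfl

theorem le_basicOpen_of_span {I : Y.IdealSheafData} {W : Y.affineOpens} {g : Γ(Y, W.1)}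
    (hg : I.ideal W = Ideal.span {g}) {D : Y.Opens} (hD : Disjoint (I.support : Set Y) D) :
    W.1 ⊓ D ≤ Y.basicOpen g := by
  rw [← ModPairLib.interior_inter_eq_basicOpen hg]
  exact inf_le_inf_left _ fun z hz => Set.disjoint_right.1 hD hz

theorem isUnit_rf {W V : Y.Opens} {g : Γ(Y, W)} (h : V ≤ W) (hg : V ≤ Y.basicOpen g) :
    IsUnit (rf h g) := by
  have h0 : IsUnit (rf (Y.basicOpen_le g) g) :=
    Y.toRingedSpace.isUnit_res_basicOpen g
  have := h0.map (Y.presheaf.map (homOfLE hg).op).hom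
  rwa [show (Y.presheaf.map (homOfLE hg).op).hom (rf (Y.basicOpen_le g) g) = rf h g from rf_rf _ _ g] at this

theorem basicOpen_inf_eq_bot {W V : Y.Opens} {α : Γ(Y, W)}
    (h : rf (inf_le_left : W ⊓ V ≤ W) α = 0) : Y.basicOpen α ⊓ V = ⊥ := by
  have e : Y.basicOpen α ⊓ V ≤ Y.basicOpen (rf (inf_le_left : W ⊓ V ≤ W) α) := by
    rw [Scheme.basicOpen_res]
    exact le_inf (le_inf (inf_le_left.trans (Y.basicOpen_le α)) inf_le_right) inf_le_left
  rw [h, Scheme.basicOpen_zero] at e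
  exact le_bot_iff.1 e

/-- The dichotomy near a point, from a principal sum of two ideals. -/
theorem exists_dichotomy {J K : Y.IdealSheafData} (U A B : Y.Opens) [IsSchemeTheoreticallyDominant U.ι]
    [QuasiCompact U.ι] (hA : A ≤ U) (hB : B ≤ U) (hJ : Van J A) (hK : Van K B)
    (hloc : ModPairLib.IsLocPrincipal (J ⊔ K)) (hdis : Disjoint ((J ⊔ K).support : Set Y) U) (y : Y) :
    ∃ N : Y.Opens, y ∈ N ∧ (N ⊓ A = ⊥ ∨ N ⊓ B = ⊥) := by
  obtain ⟨W, hyW, -, g, hg⟩ := exists_principal_le hloc (Opens.mem_top y)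
  have hU : W.1 ⊓ U ≤ Y.basicOpen g := le_basicOpen_of_span hg hdis
  rw [IdealSheafData.ideal_sup, Pi.sup_apply] at hg
  obtain ⟨a, ha, c, hc, hac⟩ := Submodule.mem_sup.1 (hg ▸ Ideal.mem_span_singleton_self g)
  obtain ⟨α, hα⟩ := Ideal.mem_span_singleton'.1 (hg ▸ Submodule.mem_sup_left ha : a ∈ Ideal.span {g})
  obtain ⟨β, hβ⟩ := Ideal.mem_span_singleton'.1 (hg ▸ Submodule.mem_sup_right hc : c ∈ Ideal.span {g})
  have hzero : ∀ (x : Γ(Y, W.1)) (D : Y.Opens), D ≤ U →
      rf (inf_le_left : W.1 ⊓ D ≤ W.1) (x * g) = 0 → rf (inf_le_left : W.1 ⊓ D ≤ W.1) x = 0 := by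
    intro x D hD hx
    rw [show rf (inf_le_left : W.1 ⊓ D ≤ W.1) (x * g) = _ * _ from map_mul _ x g] at hx
    exact (isUnit_rf _ ((inf_le_inf_left _ hD).trans hU)).mul_left_eq_zero.1 hx
  have hsum : α + β = 1 := by
    refine sub_eq_zero.1 (eq_zero_of_dense U _ (hzero _ U le_rfl ?_))
    rw [sub_mul, add_mul, hα, hβ, one_mul, hac, sub_self]
    exact map_zero _
  have hα0 := basicOpen_inf_eq_bot (hzero α A hA (hα.symm ▸ hJ W a ha))
  have hβ0 := basicOpen_inf_eq_bot (hzero β B hB (hβ.symm ▸ hK W c hc))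
  have : IsUnit (Y.presheaf.germ W.1 y hyW α) ∨ IsUnit (Y.presheaf.germ W.1 y hyW β) :=
    IsLocalRing.isUnit_or_isUnit_of_add_one (by rw [← map_add, hsum, map_one])
  rcases this with h | h
  · exact ⟨Y.basicOpen α, (Y.mem_basicOpen α y hyW).2 h, .inl hα0⟩
  · exact ⟨Y.basicOpen β, (Y.mem_basicOpen β y hyW).2 h, .inr hβ0⟩

theorem disjoint_support_prod {ι : Type*} (s : Finset ι) (I : ι → Y.IdealSheafData) (A : Set Y)
    (h : ∀ i ∈ s, Disjoint ((I i).support : Set Y) A) :
    Disjoint (((∏ i ∈ s, I i) : Y.IdealSheafData).support : Set Y) A := by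
  classical
  induction s using Finset.induction with
  | empty => simp
  | insert a s ha ih =>
    rw [Finset.prod_insert ha, IdealSheafData.support_mul]
    exact Set.disjoint_union_left.2 ⟨h a (Finset.mem_insert_self a s),
      ih fun i hi => h i (Finset.mem_insert_of_mem hi)⟩

open Groth.Agent.QCoh Groth.Agent.FittX

theorem free_away_of_equiv {R : Type u} [CommRing R] {M N : Type u} [AddCommGroup M] [Module R M]
    [AddCommGroup N] [Module R N] (e : M ≃ₗ[R] N) (c : R)
    (h : Module.Free (Localization.Away c) (LocalizedModule (Submonoid.powers c) M)) :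
    Module.Free (Localization.Away c) (LocalizedModule (Submonoid.powers c) N) := by
  let g := LocalizedModule.mkLinearMap (Submonoid.powers c) N ∘ₗ (e : M →ₗ[R] N)
  haveI : IsLocalizedModule (Submonoid.powers c) g :=
    IsLocalizedModule.of_linearEquiv_right (Submonoid.powers c) _ e
  let e' := IsLocalizedModule.linearEquiv (Submonoid.powers c)
    (LocalizedModule.mkLinearMap (Submonoid.powers c) M) g
  exact Module.Free.of_equiv (e'.extendScalarsOfIsLocalization (Submonoid.powers c) (Localization.Away c))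

/-- If the first non-zero Fitting ideal is locally invertible and trivial on a dense open, the
module has a locally free quotient with the same restriction to the open. -/
theorem exists_finLocFree_quotient_of_data [IsLocallyNoetherian Y] (U : Y.Opens)
    [IsSchemeTheoreticallyDominant U.ι] [QuasiCompact U.ι] (F : Y.Modules) (hF : Coh.IsQCoh F)
    (hft : CohB1.IsFT F)
    (hdata : ∀ y : Y, ∃ (W : Y.affineOpens) (r : ℕ) (f : Γ(Y, W.1)), y ∈ W.1 ∧
      W.1 ⊓ U ≤ Y.basicOpen f ∧ Fitt.ideal Γ(Y, W.1) Γ(F, W.1) r = Ideal.span {f} ∧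
      ∀ k, k < r → Fitt.ideal Γ(Y, W.1) Γ(F, W.1) k = ⊥) :
    ∃ (G : Y.Modules) (π : F ⟶ G), FlatMod.IsFinLocFree G ∧ Epi π ∧
      IsIso ((Scheme.Modules.restrictFunctor U.ι).map π) := by
  let adj := Scheme.Modules.restrictAdjunction U.ι
  let u : F ⟶ (Scheme.Modules.pushforward U.ι).obj (F.restrict U.ι) := adj.unit.app F
  have hP : Coh.IsQCoh ((Scheme.Modules.pushforward U.ι).obj (F.restrict U.ι)) :=
    isQCoh_pushforward U.ι (isQCoh_restrict U.ι hF)
  have hK : Coh.IsQCoh (kernel u) := isQCoh_kernel hF hP u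
  let G := Abelian.coimage u
  let π : F ⟶ G := Abelian.coimage.π u
  let t : G ⟶ _ := Abelian.factorThruCoimage u
  have hπt : π ≫ t = u := Abelian.coimage.fac u
  have hG : Coh.IsQCoh G := isQCoh_cokernel hK hF _
  haveI : Mono t := inferInstance
  haveI : Epi π := inferInstance
  refine ⟨G, π, fun y => ?_, inferInstance, ?_⟩
  · obtain ⟨⟨W, hW⟩, r, f, hyW, hfU, hf, hlow⟩ := hdata y
    change y ∈ W at hyW
    haveI : IsNoetherianRing Γ(Y, W) := IsLocallyNoetherian.component_noetherian ⟨W, hW⟩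
    haveI := finite_of_isFT hF hft hW
    have hu : ∀ m : Γ(F, W), u.app W m = 0 ↔
        F.presheaf.map (homOfLE (inf_le_left : W ⊓ U ≤ W)).op m = 0 := by
      intro m
      have e : U.ι ''ᵁ (U.ι ⁻¹ᵁ W) = W ⊓ U := by
        rw [Scheme.Hom.image_preimage_eq_opensRange_inf, Scheme.Opens.opensRange_ι, inf_comm]
      simp only [u, adj]
      rw [Scheme.Modules.restrictAdjunction_unit_app_app]
      constructor <;> intro h
      · exact ((map_map (homOfLE e.ge) (homOfLE (U.ι.image_preimage_le W)) m).symm.trans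
          ((congrArg _ h).trans (map_zero _)))
      · exact ((map_map (homOfLE e.le) (homOfLE (inf_le_left : W ⊓ U ≤ W)) m).symm.trans
          ((congrArg _ h).trans (map_zero _)))
    have hfu : IsUnit (rf (inf_le_left : W ⊓ U ≤ W) f) := isUnit_rf _ hfU
    have hf0 : f ∈ nonZeroDivisors Γ(Y, W) := mem_nonZeroDivisors_iff_right.2 fun a ha => by
      refine eq_zero_of_dense U a (hfu.mul_left_eq_zero.1 ?_)
      exact (map_mul _ a f).symm.trans ((congrArg _ ha).trans (map_zero _))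
    have hk : r = 0 ∨ Fitt.ideal Γ(Y, W) Γ(F, W) (r - 1) = ⊥ := by
      rcases Nat.eq_zero_or_pos r with h | h
      · exact .inl h
      · exact .inr (hlow _ (by omega))
    obtain ⟨c, hc, ⟨B⟩⟩ := exists_basis_quotient hf0 hf hk (hW.primeIdealOf ⟨y, hyW⟩).asIdeal
    set T := LinearMap.ker (f • (LinearMap.id : Γ(F, W) →ₗ[Γ(Y, W)] Γ(F, W))) with hT
    haveI : Module.Projective Γ(Y, W) (Γ(F, W) ⧸ T) := projective_of_free_away fun p hp => by
      obtain ⟨c', hc', ⟨B'⟩⟩ := exists_basis_quotient hf0 hf hk p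
      exact ⟨c', hc', Module.Free.of_basis B'⟩
    let πW : Γ(F, W) →ₗ[Γ(Y, W)] Γ(G, W) :=
      { toFun := π.app W
        map_add' := map_add _
        map_smul' := fun a m => Scheme.Modules.Hom.app_smul π a m }
    have hsurj : Function.Surjective πW := app_surjective_of_epi hF hG π hW
    have hker : LinearMap.ker πW = T := by
      ext m
      rw [LinearMap.mem_ker]
      have h1 : πW m = 0 ↔ u.app W m = 0 := by
        rw [← hπt]
        show π.app W m = 0 ↔ t.app W (π.app W m) = 0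
        exact ⟨fun h => by rw [h, map_zero], fun h => app_injective t W (h.trans (map_zero _).symm)⟩
      rw [h1, hu, hT, LinearMap.mem_ker, LinearMap.smul_apply, LinearMap.id_apply]
      constructor
      · intro hm
        have hm' : T.mkQ m = 0 := by
          obtain ⟨q, hq⟩ := Module.projective_def'.1 ‹Module.Projective Γ(Y, W) (Γ(F, W) ⧸ T)›
          have hι : Function.Injective q :=
            Function.LeftInverse.injective (g := Finsupp.linearCombination Γ(Y, W) id)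
              (fun z => LinearMap.congr_fun hq z)
          refine hι ((Finsupp.ext fun a => ?_).trans (map_zero q).symm)
          refine eq_zero_of_dense U _ (Y.IsSheaf.section_ext fun x hx => ?_)
          obtain ⟨g, hgU, hxg⟩ := hW.exists_basicOpen_le (V := W ⊓ U) ⟨x, hx⟩ hx.1
          obtain ⟨n, hn⟩ := exists_pow_smul_eq_zero hF hW g m
            ((map_map (homOfLE hgU) (homOfLE (inf_le_left : W ⊓ U ≤ W)) m).symm.trans
              ((congrArg _ hm).trans (map_zero _)))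
          refine ⟨Y.basicOpen g, hgU, hxg, ?_⟩
          show rf _ (rf _ _) = rf _ 0
          rw [rf_rf]
          refine Eq.trans ?_ (map_zero _).symm
          have h0 : g ^ n * q (T.mkQ m) a = 0 := by
            rw [← smul_eq_mul, ← Finsupp.smul_apply, ← map_smul, ← map_smul, hn, map_zero, map_zero,
              Finsupp.zero_apply]
          have hu' : IsUnit (rf (Y.basicOpen_le g) (g ^ n)) := by
            rw [show rf (Y.basicOpen_le g) (g ^ n) = (rf (Y.basicOpen_le g) g) ^ n from map_pow _ g n]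
            exact (isUnit_rf _ le_rfl).pow n
          exact hu'.mul_right_eq_zero.1
            ((map_mul _ _ _).symm.trans ((congrArg _ h0).trans (map_zero _)))
        have := (Submodule.Quotient.mk_eq_zero T).1 hm'
        rwa [hT, LinearMap.mem_ker, LinearMap.smul_apply, LinearMap.id_apply] at this
      · intro hm
        have h := (map_smul' (M := F) (homOfLE (inf_le_left : W ⊓ U ≤ W)) f m).symm.trans
          ((congrArg _ hm).trans (map_zero _))
        exact hfu.smul_eq_zero.1 h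
    let e : (Γ(F, W) ⧸ T) ≃ₗ[Γ(Y, W)] Γ(G, W) :=
      (Submodule.quotEquivOfEq _ _ hker.symm).trans (πW.quotKerEquivOfSurjective hsurj)
    haveI : Module.Finite Γ(Y, W) Γ(G, W) := Module.Finite.of_surjective πW hsurj
    obtain ⟨n, hn⟩ := exists_free_nhd hG hW c (free_away_of_equiv e c (Module.Free.of_basis B))
    exact ⟨_, n, (mem_basicOpen_iff_notMem hW hyW c).2 hc, hn⟩
  · let R := Scheme.Modules.restrictFunctor U.ι
    haveI := restrict_preservesFiniteLimits U.ι
    haveI : IsIso (R.map u) := by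
      haveI : IsIso (R.map u ≫ adj.counit.app (F.restrict U.ι)) := by
        have h := adj.left_triangle_components F
        exact h.symm ▸ (inferInstance : IsIso (𝟙 (R.obj F)))
      exact IsIso.of_isIso_comp_right (R.map u) (adj.counit.app (F.restrict U.ι))
    haveI : Mono (R.map π) := by
      haveI : Mono (R.map π ≫ R.map t) := by
        rw [← R.map_comp, hπt]; infer_instance
      exact mono_of_mono (R.map π) (R.map t)
    haveI : R.PreservesEpimorphisms := Functor.preservesEpimorphisms_of_adjunction adj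
    haveI : Epi (R.map π) := inferInstance
    haveI : IsIso (R.map π) := isIso_of_mono_of_epi _
    infer_instance

/-- `D` is in the locus where the Fitting ideals are those of a free module of rank `r`. -/
def IsRankPiece (F : Y.Modules) (r : ℕ) (D : Y.Opens) : Prop :=
  ∀ k, (k < r → Van (Fitt.sheafIdeal F k) D) ∧
    (r ≤ k → Disjoint ((Fitt.sheafIdeal F k).support : Set Y) D)

theorem exists_pieces (U : Y.Opens) (hU : IsCompact (U : Set Y)) (F : Y.Modules) (hF : Coh.IsQCoh F)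
    (hft : CohB1.IsFT F) (h : FlatMod.IsFinLocFree (F.restrict U.ι)) :
    ∃ (V : ℕ → Y.Opens) (s : Finset ℕ), (∀ r, V r ≤ U ∧ IsRankPiece F r (V r)) ∧
      (∀ x, x ∈ U → ∃ r ∈ s, x ∈ V r) ∧ ∀ r t, r ≠ t → V r ⊓ V t = ⊥ := by
  let V : ℕ → Y.Opens := fun r => sSup {D | D ≤ U ∧ IsRankPiece F r D}
  have hV : ∀ r, V r ≤ U ∧ IsRankPiece F r (V r) := fun r => by
    refine ⟨sSup_le fun D hD => hD.1, fun k => ⟨fun hk => van_sSup _ _ fun D hD => (hD.2 k).1 hk,
      fun hk => ?_⟩⟩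
    rw [Set.disjoint_right]
    intro y hy hys
    obtain ⟨D, hD, hyD⟩ := Opens.mem_sSup.1 hy
    exact Set.disjoint_left.1 ((hD.2 k).2 hk) hys hyD
  have hpt : ∀ x : U, ∃ r, (x : Y) ∈ V r := by
    intro x
    obtain ⟨O, n, hxO, ⟨e⟩⟩ := h x
    refine ⟨n, Opens.mem_sSup.2 ⟨U.ι ''ᵁ O, ⟨?_, fun k => ?_⟩, ⟨x, hxO, rfl⟩⟩⟩
    · exact (U.ι.image_le_opensRange O).trans U.opensRange_ι.le
    let φ : (O : Scheme.{u}) ⟶ Y := O.ι ≫ U.ι
    let M := (Scheme.Modules.pullback φ).obj F
    let eM : M ≅ FlatMod.freeMod (O : Scheme.{u}) n :=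
      ((Scheme.Modules.restrictFunctorIsoPullback φ).app F).symm ≪≫ (restrictRestrict F O.ι U.ι).symm ≪≫ e
    have hM : FlatMod.IsFinLocFreeOfRank n M := fun z =>
      ⟨⊤, trivial, ⟨(Scheme.Modules.restrictFunctor _).mapIso eM ≪≫ freeModRestrict _ n⟩⟩
    have hk := (isFinLocFreeOfRank_iff (isQCoh_pullback φ hF) (isFT_pullback φ hF hft) n).1 hM
    have hcomp : (U.ι ''ᵁ O).ι = (U.ι.isoImage O).inv ≫ φ := by
      rw [Iso.eq_inv_comp, Scheme.Hom.isoImage_hom_ι]
    have hc : (Fitt.sheafIdeal F k).comap (U.ι ''ᵁ O).ι =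
        (Fitt.sheafIdeal M k).comap (U.ι.isoImage O).inv := by
      rw [hcomp, IdealSheafData.comap_comp, sheafIdeal_comap φ hF hft]
    refine ⟨fun hlt => ?_, fun hle => ?_⟩
    · rw [← comap_eq_bot_iff, hc, hk.1 k hlt]
      exact (IdealSheafData.map_gc _).l_bot
    · rw [Set.disjoint_right]
      intro y hy hys
      have h' := congrArg IdealSheafData.support hc
      rw [hk.2 k hle, IdealSheafData.support_comap, IdealSheafData.support_comap,
        IdealSheafData.support_top] at h'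
      have : ((⟨y, hy⟩ : (U.ι ''ᵁ O : Y.Opens)) : ↥(U.ι ''ᵁ O : Y.Opens).toScheme) ∈
          (U.ι ''ᵁ O).ι.base ⁻¹' ((Fitt.sheafIdeal F k).support : Set Y) := hys
      have h'' := congrArg (fun C : Closeds ↥((U.ι ''ᵁ O : Y.Opens)).toScheme => C.carrier) h'
      have : (⟨y, hy⟩ : ↥((U.ι ''ᵁ O : Y.Opens)).toScheme) ∈ (∅ : Set _) := Eq.mp (congrArg (fun S : Set _ => _ ∈ S) (h''.trans (Set.preimage_empty))) this
      exact this
  obtain ⟨s, hs⟩ := hU.elim_finite_subcover (fun r => (V r : Set Y)) (fun r => (V r).2)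
    (fun x hx => Set.mem_iUnion.2 (hpt ⟨x, hx⟩))
  refine ⟨V, s, hV, fun x hx => ?_, fun r t hrt => ?_⟩
  · obtain ⟨r, hr, hxr⟩ := Set.mem_iUnion₂.1 (hs hx)
    exact ⟨r, hr, hxr⟩
  · have key : ∀ a b, a < b → ∀ y, y ∈ V a → y ∈ V b → False := fun a b hab y ha hb =>
      Set.disjoint_left.1 (((hV a).2 a).2 le_rfl) (mem_support_of_van (((hV b).2 a).1 hab) hb) ha
    refine eq_bot_iff.2 fun y ⟨h1, h2⟩ => ?_
    rcases lt_or_gt_of_ne hrt with hlt | hlt
    · exact (key r t hlt y h1 h2).elim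
    · exact (key t r hlt y h2 h1).elim

theorem cartier_of_mem_prod {ι : Type*} (s : Finset ι) (A : ι → Y.IdealSheafData)
    (M : Y.IdealSheafData) {Y' : Scheme.{u}} (b : Y' ⟶ Y)
    (h : BlowUp.IsEffCartierIdeal ((M * ∏ i ∈ s, A i).comap b)) {i : ι} (hi : i ∈ s) :
    BlowUp.IsEffCartierIdeal ((A i).comap b) := by
  classical
  rw [← Finset.mul_prod_erase s A hi, ← mul_assoc, mul_comm M, mul_assoc,
    ModPairLib.ideal_comap_mul] at h
  exact BlowUpX.isEffCartier_left_of_mul h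

/-- A finite locally free module on a dense open extends as a quotient after an admissible blow-up. -/
theorem exists_blowUp_quotient [IsNoetherian Y] (U : Y.Opens) (F : Y.Modules) (hF : Coh.IsQCoh F)
    (hft : CohB1.IsFT F) (h : FlatMod.IsFinLocFree (F.restrict U.ι)) :
    ∃ (K : ZRLim.Adm U) (G : K.obj.Modules) (π : (Scheme.Modules.pullback K.π).obj F ⟶ G),
      FlatMod.IsFinLocFree G ∧ Epi π ∧
      IsIso ((Scheme.Modules.restrictFunctor (K.π ⁻¹ᵁ U).ι).map π) := by
  classical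
  have hUc : IsCompact (U : Set Y) := NoetherianSpace.isCompact _
  obtain ⟨V, s, hV, hcov, hdisj⟩ := exists_pieces U hUc F hF hft h
  let O : ℕ → Y.Opens := fun r => sSup {D | ∃ t, t ≠ r ∧ D = V t}
  have hVO : ∀ r t, t ≠ r → V t ≤ O r := fun r t ht => le_sSup ⟨t, ht, rfl⟩
  have hOU : ∀ r, O r ≤ U := fun r => sSup_le fun D ⟨t, _, hD⟩ => hD ▸ (hV t).1
  have hVdisj : ∀ r, Disjoint (V r : Set Y) (O r) := fun r => Set.disjoint_left.2 fun y hy hy' => by
    obtain ⟨D, ⟨t, ht, rfl⟩, hyD⟩ := Opens.mem_sSup.1 hy'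
    exact (hdisj r t ht.symm).le ⟨hy, hyD⟩
  let J : ℕ → Y.IdealSheafData := fun r => (V r).ι.ker
  let L : ℕ → Y.IdealSheafData := fun r => (O r).ι.ker
  have hker : ∀ (D D' : Y.Opens), Disjoint (D : Set Y) D' → Disjoint (D.ι.ker.support : Set Y) D' := by
    intro D D' hd
    rw [Scheme.Hom.support_ker, Scheme.Opens.range_ι]
    exact hd.closure_left D'.2
  let A : ℕ → Y.IdealSheafData := fun r => (Fitt.sheafIdeal F r ⊔ J r) * (J r ⊔ L r)
  have hd1 : ∀ r, Disjoint ((Fitt.sheafIdeal F r ⊔ J r).support : Set Y) (U : Set Y) := fun r => by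
    rw [IdealSheafData.support_sup, Set.disjoint_left]
    rintro y ⟨hy1, hy2⟩ hyU
    obtain ⟨t, -, ht⟩ := hcov y hyU
    rcases eq_or_ne t r with rfl | hne
    · exact Set.disjoint_left.1 (((hV t).2 t).2 le_rfl) hy1 ht
    · exact Set.disjoint_left.1 (hker _ _ (hVdisj r)) hy2 (hVO r t hne ht)
  have hd2 : ∀ r, Disjoint ((J r ⊔ L r).support : Set Y) (U : Set Y) := fun r => by
    rw [IdealSheafData.support_sup, Set.disjoint_left]
    rintro y ⟨hy1, hy2⟩ hyU
    obtain ⟨t, -, ht⟩ := hcov y hyU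
    rcases eq_or_ne t r with rfl | hne
    · exact Set.disjoint_left.1 (hker _ _ (hVdisj t).symm) hy2 ht
    · exact Set.disjoint_left.1 (hker _ _ (hVdisj r)) hy1 (hVO r t hne ht)
  have hdP : Disjoint ((∏ r ∈ s, A r : Y.IdealSheafData).support : Set Y) (U : Set Y) :=
    disjoint_support_prod s A _ fun r _ => by
      simp only [A, IdealSheafData.support_mul]
      exact Set.disjoint_union_left.2 ⟨hd1 r, hd2 r⟩
  obtain ⟨K₀⟩ := ZRLim.Adm.nonempty (S := Y) (U := U) hUc
  let K : ZRLim.Adm U := ⟨K₀.1 * ∏ r ∈ s, A r, fun W => by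
    haveI : IsNoetherianRing Γ(Y, W.1) := IsLocallyNoetherian.component_noetherian W
    exact IsNoetherian.noetherian _, by
    rw [IdealSheafData.support_mul]
    show (K₀.1.support : Set Y) ∪ _ = _
    rw [K₀.2.2, Set.union_eq_left]
    exact Set.subset_compl_iff_disjoint_right.2 hdP⟩
  have hA : ∀ r ∈ s, BlowUp.IsEffCartierIdeal ((Fitt.sheafIdeal F r ⊔ J r).comap K.π) ∧
      BlowUp.IsEffCartierIdeal ((J r ⊔ L r).comap K.π) := fun r hr => by
    have h1 := cartier_of_mem_prod s A K₀.1 K.π K.isBlowUp.1 hr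
    simp only [A, ModPairLib.ideal_comap_mul] at h1
    exact ⟨BlowUpX.isEffCartier_left_of_mul h1,
      BlowUpX.isEffCartier_left_of_mul (J := (Fitt.sheafIdeal F r ⊔ J r).comap K.π) (by rw [mul_comm]; exact h1)⟩
  haveI : LocallyOfFiniteType K.π := inferInstance
  haveI : IsLocallyNoetherian K.obj := LocallyOfFiniteType.isLocallyNoetherian K.π
  let U' := K.π ⁻¹ᵁ U
  let F' := (Scheme.Modules.pullback K.π).obj F
  have hF' : Coh.IsQCoh F' := isQCoh_pullback K.π hF
  have hft' : CohB1.IsFT F' := isFT_pullback K.π hF hft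
  refine ⟨K, exists_finLocFree_quotient_of_data U' F' hF' hft' fun y => ?_⟩
  have hsup : ∀ I I' : Y.IdealSheafData, (I ⊔ I').comap K.π = I.comap K.π ⊔ I'.comap K.π := fun I I' =>
    (IdealSheafData.map_gc K.π).l_sup
  have hdis' : ∀ I : Y.IdealSheafData, Disjoint (I.support : Set Y) (U : Set Y) →
      Disjoint ((I.comap K.π).support : Set K.obj) (U' : Set K.obj) := fun I hI => by
    rw [IdealSheafData.support_comap]
    exact hI.preimage K.π
  have hN : ∀ r : s, ∃ N : K.obj.Opens, y ∈ N ∧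
      (N ⊓ K.π ⁻¹ᵁ V r = ⊥ ∨ N ⊓ K.π ⁻¹ᵁ O r = ⊥) := fun r => by
    refine exists_dichotomy U' _ _ (K.π.preimage_mono (hV r).1) (K.π.preimage_mono (hOU r))
      ((van_ker _).comap K.π) ((van_ker _).comap K.π) ?_ ?_ y
    · rw [← hsup]
      exact ModPairLib.isLocPrincipal_of_isEffCartier (hA r r.2).2
    · rw [← hsup]
      exact hdis' _ (hd2 r)
  choose N hyN hN using hN
  let N₀ : K.obj.Opens := ⟨⋂ r, (N r : Set K.obj), isOpen_iInter_of_finite fun r => (N r).2⟩
  have hyN₀ : y ∈ N₀ := Set.mem_iInter.2 hyN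
  obtain ⟨x, hxN, hxU⟩ : ∃ x, x ∈ N₀ ∧ x ∈ U' := by
    have hd : DenseRange U'.ι.base := U'.ι.denseRange
    obtain ⟨x, hx⟩ := hd.exists_mem_open N₀.2 ⟨y, hyN₀⟩
    exact ⟨_, hx, x.2⟩
  obtain ⟨r, hr, hxr⟩ := hcov _ hxU
  have hNr : ∀ z, z ∈ N₀ → z ∈ U' → K.π z ∈ V r := by
    intro z hzN hzU
    have hcase := hN ⟨r, hr⟩
    rcases hcase with h0 | h0
    · exact absurd (h0.le ⟨Set.mem_iInter.1 hxN ⟨r, hr⟩, hxr⟩) (Set.notMem_empty x)
    · obtain ⟨t, -, ht⟩ := hcov _ hzU
      rcases eq_or_ne t r with rfl | hne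
      · exact ht
      · exact absurd (h0.le ⟨Set.mem_iInter.1 hzN ⟨r, hr⟩, hVO r t hne ht⟩) (Set.notMem_empty z)
  obtain ⟨W, hyW, hWN, f, hf⟩ :=
    exists_principal_le (ModPairLib.isLocPrincipal_of_isEffCartier (hA r hr).1) hyN₀
  have hfU : W.1 ⊓ U' ≤ K.obj.basicOpen f := le_basicOpen_of_span hf (hdis' _ (hd1 r))
  have hWV : W.1 ⊓ U' ≤ W.1 ⊓ K.π ⁻¹ᵁ V r := fun z hz => ⟨hz.1, hNr z (hWN hz.1) hz.2⟩
  have hzero : ∀ I : Y.IdealSheafData, Van I (V r) → (I.comap K.π).ideal W = ⊥ := fun I hI =>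
    eq_bot_iff.2 fun a ha => eq_zero_of_dense U' a
      (by exact rf_eq_zero_of_le inf_le_left hWV (hI.comap K.π W a ha))
  refine ⟨W, r, f, hyW, hfU, ?_, fun k hk => ?_⟩
  · rw [← sheafIdeal_ideal hF' hft', ← sheafIdeal_comap K.π hF hft]
    rw [hsup, IdealSheafData.ideal_sup, Pi.sup_apply, hzero _ (van_ker _), sup_bot_eq] at hf
    exact hf
  · rw [← sheafIdeal_ideal hF' hft', ← sheafIdeal_comap K.π hF hft]
    exact hzero _ (((hV r).2 k).1 hk)

/-- A finite locally free module on a dense open extends after an admissible blow-up. -/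
theorem exists_blowUp_extension [IsNoetherian Y] (U : Y.Opens) (F : Y.Modules) (hF : Coh.IsQCoh F)
    (hft : CohB1.IsFT F) (h : FlatMod.IsFinLocFree (F.restrict U.ι)) :
    ∃ (K : ZRLim.Adm U) (G : K.obj.Modules), FlatMod.IsFinLocFree G ∧
      Nonempty (G.restrict (K.π ⁻¹ᵁ U).ι ≅
        ((Scheme.Modules.pullback K.π).obj F).restrict (K.π ⁻¹ᵁ U).ι) := by
  obtain ⟨K, G, π, hG, -, hπ⟩ := exists_blowUp_quotient U F hF hft h
  haveI := hπ
  exact ⟨K, G, hG, ⟨(asIso ((Scheme.Modules.restrictFunctor (K.π ⁻¹ᵁ U).ι).map π)).symm⟩⟩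

end Groth.Agent.NagataLib.ExtendFree
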