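import Groth.Agent.NagataLib.Glue
import Groth.Agent.ZRLim.Birational

/-!
# Tools for Nagata compactification over Noetherian bases
-/

universe u

set_option autoImplicit false
set_option linter.style.haveILetI false
set_option backward.isDefEq.respectTransparency false
set_option backward.isDefEq.respectTransparency.types false

open CategoryTheory CategoryTheory.Limits AlgebraicGeometry TopologicalSpace
open Scheme (IdealSheafData)

namespace Groth.Agent.NagataLib

theorem ft_of_noetherian {X : Scheme.{u}} [IsLocallyNoetherian X] (I : X.IdealSheafData) :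
    BlowUp.IsFiniteTypeIdeal I := fun V => by
  haveI := IsLocallyNoetherian.component_noetherian V
  exact IsNoetherian.noetherian _

theorem dense_range_of_dom {A B : Scheme.{u}} (f : A ⟶ B) [QuasiCompact f]
    [IsSchemeTheoreticallyDominant f] : Dense (Set.range f) := by
  have h := f.support_ker
  rw [f.ker_eq_bot, IdealSheafData.support_bot] at h
  intro x
  rw [← h]
  trivial

theorem dense_preimage_adm {S : Scheme.{u}} {U : S.Opens} (K : ZRLim.Adm U) :
    Dense ((K.π ⁻¹ᵁ U : K.obj.Opens) : Set K.obj) := by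
  have := dense_range_of_dom (K.π ⁻¹ᵁ U).ι
  rwa [Scheme.Opens.range_ι] at this

/-- A morphism is an isomorphism over the image of an open immersion equal to the preimage. -/
theorem isIso_restrict_opensRange {A X Y : Scheme.{u}} (j : A ⟶ X) [IsOpenImmersion j] (f : X ⟶ Y)
    [IsOpenImmersion (j ≫ f)] (h : f ⁻¹ᵁ (j ≫ f).opensRange = j.opensRange) :
    IsIso (f ∣_ (j ≫ f).opensRange) := by
  let e := j ≫ f
  have hr : Set.range j ⊆ Set.range (f ⁻¹ᵁ e.opensRange).ι := by
    rw [Scheme.Opens.range_ι, h]; exact le_refl _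
  let j' := IsOpenImmersion.lift (f ⁻¹ᵁ e.opensRange).ι j hr
  have hj' : j' ≫ (f ⁻¹ᵁ e.opensRange).ι = j := IsOpenImmersion.lift_fac _ _ _
  haveI : IsOpenImmersion j' := IsOpenImmersion.of_comp (f := j') (g := (f ⁻¹ᵁ e.opensRange).ι)
  haveI : IsIso j' := by
    have hs : Function.Surjective j' := fun x => by
      obtain ⟨a, ha⟩ := (h.le x.2 : x.1 ∈ j.opensRange)
      refine ⟨a, Subtype.ext ?_⟩
      rw [← ha, ← hj']; rfl
    haveI : Epi j'.base := (TopCat.epi_iff_surjective _).2 hs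
    exact IsOpenImmersion.isIso j'
  have he : j' ≫ (f ∣_ e.opensRange) = e.isoOpensRange.hom := by
    rw [← cancel_mono e.opensRange.ι, Category.assoc, morphismRestrict_ι, reassoc_of% hj',
      Scheme.Hom.isoOpensRange_hom_ι]
  haveI : IsIso (j' ≫ (f ∣_ e.opensRange)) := by rw [he]; infer_instance
  exact IsIso.of_isIso_comp_left j' _

/-- A morphism to a proper scheme on an open extends after an admissible blow-up. -/
theorem exists_extend {S Y Z : Scheme.{u}} (pY : Y ⟶ S) (pZ : Z ⟶ S) [IsProper pZ] [CompactSpace Y]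
    [QuasiSeparatedSpace Y] (O : Y.Opens) (hO : IsCompact (O : Set Y)) (s : (O : Scheme.{u}) ⟶ Z)
    (hs : s ≫ pZ = O.ι ≫ pY) :
    ∃ (K : ZRLim.Adm O) (h : K.obj ⟶ Z), h ≫ pZ = K.π ≫ pY ∧
      (K.π ⁻¹ᵁ O).ι ≫ h = (K.π ∣_ O) ≫ s := by
  haveI : Nonempty (ZRLim.Adm O) := ZRLim.Adm.nonempty hO
  let φ : pullback pY pZ ⟶ ((⊤ : Y.Opens) : Scheme.{u}) := pullback.fst pY pZ ≫ Y.topIso.inv
  have hφ : φ ≫ (⊤ : Y.Opens).ι = pullback.fst pY pZ := by
    simp only [φ, Category.assoc, ← Scheme.topIso_hom, Iso.inv_hom_id, Category.comp_id]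
  let σ : (O : Scheme.{u}) ⟶ pullback pY pZ := pullback.lift O.ι s hs.symm
  have hσ : σ ≫ φ = Y.homOfLE (le_top : O ≤ ⊤) := by
    rw [← cancel_mono (⊤ : Y.Opens).ι, Category.assoc, hφ, Scheme.homOfLE_ι, pullback.lift_fst]
  obtain ⟨K, h, hE⟩ := ZRLim.exists_extension (f := φ) (s := σ) (W := (⊤ : Y.Opens)) isCompact_univ hσ
  let t : K.obj ⟶ pullback pY pZ := K.obj.topIso.inv ≫ h
  have ht : t ≫ pullback.fst pY pZ = K.π := by
    have := hE.comp_eq
    rw [hφ] at this
    refine (Category.assoc _ _ _).trans ((congrArg (fun m => K.obj.topIso.inv ≫ m) this).trans ?_)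
    exact K.obj.topIso.inv_hom_id_assoc K.π
  refine ⟨K, t ≫ pullback.snd pY pZ, ?_, ?_⟩
  · rw [Category.assoc, ← pullback.condition, reassoc_of% ht]
  · have := hE.agree ((K.π ⁻¹ᵁ O).ι ≫ K.obj.topIso.inv) (K.π ∣_ O) (by
      rw [morphismRestrict_ι]
      refine (Category.assoc _ _ _).trans (congrArg (fun m => (K.π ⁻¹ᵁ O).ι ≫ m) ?_)
      exact K.obj.topIso.inv_hom_id_assoc K.π)
    have h2 : (K.π ⁻¹ᵁ O).ι ≫ t = (K.π ∣_ O) ≫ σ :=
      (congrArg (fun m => (K.π ⁻¹ᵁ O).ι ≫ m) rfl).trans ((Category.assoc _ _ _).symm.trans this)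
    rw [reassoc_of% h2, pullback.lift_snd]

/-- An ideal on an open, trivial on the part inside `O`, extends to one trivial on `O`. -/
theorem disjoint_support_map {Y : Scheme.{u}} (B O : Y.Opens) [QuasiCompact B.ι]
    (I : (B : Scheme.{u}).IdealSheafData) (h : ∀ x : B, x.1 ∈ O → x ∉ (I.support : Set B)) :
    Disjoint ((I.map B.ι).support : Set Y) (O : Set Y) := by
  rw [IdealSheafData.support_map, Closeds.coe_closure]
  refine (Disjoint.closure_left ?_ O.2)
  rw [Set.disjoint_left]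
  rintro _ ⟨x, hx, rfl⟩ hxO
  exact h x hxO hx

/-- The blow-up restricted to an open. -/
theorem isBlowUp_restrict {Y Y' : Scheme.{u}} {c : Y' ⟶ Y} {J : Y.IdealSheafData}
    (hc : BlowUp.IsBlowUp c J) (B : Y.Opens) : BlowUp.IsBlowUp (c ∣_ B) (J.comap B.ι) :=
  BlowUpLib.isBlowUp_of_isPullback (isPullback_morphismRestrict c B) hc

/-- Away from the centre a blow-up is an isomorphism. -/
theorem isIso_restrict_of_disjoint {Y Y' : Scheme.{u}} {c : Y' ⟶ Y} {J : Y.IdealSheafData}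
    (hc : BlowUp.IsBlowUp c J) (O : Y.Opens) (h : Disjoint (J.support : Set Y) (O : Set Y)) :
    IsIso (c ∣_ O) :=
  BlowUpLib.isIso_restrict hc O fun z hz hz' => Set.disjoint_left.1 h hz' hz

/-- Density of preimages under a morphism which is an isomorphism over an open. -/
theorem dense_preimage {X Y : Scheme.{u}} (f : X ⟶ Y) (O : Y.Opens) [IsIso (f ∣_ O)]
    (hO : Dense ((f ⁻¹ᵁ O : X.Opens) : Set X)) (D : Y.Opens) (hD : Dense (D : Set Y)) :
    Dense ((f ⁻¹ᵁ D : X.Opens) : Set X) := by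
  rw [dense_iff_inter_open]
  intro G hG hne
  obtain ⟨x, hxG, hxO⟩ := dense_iff_inter_open.1 hO G hG hne
  let G' : (f ⁻¹ᵁ O).toScheme.Opens := (f ⁻¹ᵁ O).ι ⁻¹ᵁ ⟨G, hG⟩
  let G'' : Y.Opens := O.ι ''ᵁ (inv (f ∣_ O) ⁻¹ᵁ G')
  have hne'' : (G'' : Set Y).Nonempty := by
    refine ⟨f x, ⟨(f ∣_ O) ⟨x, hxO⟩, ?_, ?_⟩⟩
    · show inv (f ∣_ O) ((f ∣_ O) ⟨x, hxO⟩) ∈ G'
      rw [← Scheme.Hom.comp_apply, IsIso.hom_inv_id]
      exact hxG
    · exact congrArg (fun φ => φ ⟨x, hxO⟩) (morphismRestrict_ι f O)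
  obtain ⟨_, ⟨o, ho, rfl⟩, hyD⟩ := dense_iff_inter_open.1 hD _ G''.2 hne''
  let x' := inv (f ∣_ O) o
  have e : f x'.1 = o.1 := by
    have e1 := congrArg (fun φ => φ x') (morphismRestrict_ι f O)
    have e2 : (f ∣_ O) x' = o := by
      show (f ∣_ O) (inv (f ∣_ O) o) = o
      rw [← Scheme.Hom.comp_apply, IsIso.inv_hom_id]; rfl
    exact e1.symm.trans (congrArg Subtype.val e2)
  exact ⟨x'.1, ho, show f x'.1 ∈ D by rw [e]; exact hyD⟩

/-- Images of dense sets under dominant open immersions. -/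
theorem dense_image {X Y : Scheme.{u}} (j : X ⟶ Y) (hj : Dense (Set.range j))
    {D : Set X} (hD : Dense D) : Dense (j '' D) := by
  refine Dense.of_closure (hj.mono ?_)
  rw [← Set.image_univ, ← hD.closure_eq]
  exact image_closure_subset_closure_image j.continuous

end Groth.Agent.NagataLib
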