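import Groth.Agent.NagataLib.Basic
import Groth.Agent.ModPairLib.Closure

/-!
# Closures of graphs and admissible blow-ups making them open
-/

universe u

set_option autoImplicit false
set_option linter.style.haveILetI false
set_option backward.isDefEq.respectTransparency false
set_option backward.isDefEq.respectTransparency.types false

open CategoryTheory CategoryTheory.Limits AlgebraicGeometry TopologicalSpace

namespace Groth.Agent.NagataLib

/-- The closure of a graph is isomorphic to the source over its image. -/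
theorem closure_graph {V W Y : Scheme.{u}} (r : W ⟶ Y) [IsSeparated r] (j : V ⟶ Y)
    [IsOpenImmersion j] [QuasiCompact j] (t : V ⟶ W) (ht : t ≫ r = j) :
    IsOpenImmersion t.toImage ∧ IsIso ((t.imageι ≫ r) ∣_ j.opensRange) := by
  let O := j.opensRange
  haveI : QuasiCompact O.ι := by rw [← j.isoOpensRange_inv_comp]; infer_instance
  let U_W : W.Opens := r ⁻¹ᵁ O
  haveI : QuasiCompact U_W.ι :=
    MorphismProperty.of_isPullback (P := @QuasiCompact) (isPullback_morphismRestrict r O) ‹_›
  let c : V ⟶ (U_W : Scheme.{u}) := IsOpenImmersion.lift U_W.ι t (by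
    rintro _ ⟨v, rfl⟩
    rw [Scheme.Opens.range_ι]
    show r (t v) ∈ O
    rw [← Scheme.Hom.comp_apply, ht]
    exact ⟨v, rfl⟩)
  have hc : c ≫ U_W.ι = t := IsOpenImmersion.lift_fac _ _ _
  have hc2 : c ≫ (r ∣_ O) = j.isoOpensRange.hom := by
    rw [← cancel_mono O.ι, Category.assoc, morphismRestrict_ι, reassoc_of% hc, ht,
      Scheme.Hom.isoOpensRange_hom_ι]
  haveI : IsClosedImmersion c := by
    haveI : IsClosedImmersion (c ≫ (r ∣_ O)) := by rw [hc2]; infer_instance
    exact IsClosedImmersion.of_comp c (r ∣_ O)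
  obtain ⟨h1, h2⟩ := ModPairLib.isOpenImmersion_toImage U_W c
  rw [hc] at h1 h2
  refine ⟨h1, ?_⟩
  haveI := h1
  have e : t.toImage ≫ t.imageι ≫ r = j := by
    rw [Scheme.Hom.toImage_imageι_assoc, ht]
  haveI : IsOpenImmersion (t.toImage ≫ t.imageι ≫ r) := by
    rw [e]; infer_instance
  have h3 := isIso_restrict_opensRange t.toImage (t.imageι ≫ r) (by
    refine Opens.ext (Eq.trans ?_ h2.symm)
    show (t.imageι ≫ r) ⁻¹' (Set.range (t.toImage ≫ t.imageι ≫ r)) = _
    rw [e]
    rfl)
  have e' : (t.toImage ≫ t.imageι ≫ r).opensRange = O :=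
    Opens.ext (by show Set.range _ = Set.range j; rw [e])
  rwa [e'] at h3

/-- A birational separated morphism becomes an open immersion, whose image contains the good
locus. -/
theorem exists_adm_openImmersion {A Y : Scheme.{u}} (φ : A ⟶ Y) [IsSeparated φ] [QuasiCompact φ]
    [LocallyOfFiniteType φ] [CompactSpace Y] [QuasiSeparatedSpace Y] (O : Y.Opens)
    (hO : IsCompact (O : Set Y)) [IsIso (φ ∣_ O)] :
    ∃ K : ZRLim.Adm O, IsOpenImmersion (ZRLim.Bir.q φ K) ∧
      ∀ w, K.π w ∈ O → w ∈ Set.range (ZRLim.Bir.q φ K) := by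
  haveI : Nonempty (ZRLim.Adm O) := ZRLim.Adm.nonempty hO
  obtain ⟨K, hK⟩ := ZRLim.Bir.exists_isOpenImmersion φ hO
  exact ⟨K, hK, fun w hw => ZRLim.Bir.preimage_le_range K w hw⟩

end Groth.Agent.NagataLib
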