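import Mathlib

/-!
# Gluing two schemes over a base along a common open
-/

universe u

set_option autoImplicit false
set_option linter.style.haveILetI false
set_option backward.isDefEq.respectTransparency false
set_option backward.isDefEq.respectTransparency.types false

open CategoryTheory CategoryTheory.Limits AlgebraicGeometry TopologicalSpace

namespace Groth.Agent.NagataLib

/-- Two morphisms to a separated scheme agreeing on a set of points agree on its closure. -/
theorem apply_eq_of_closure {T Z S : Scheme.{u}} (g : Z ⟶ S) [IsSeparated g] {a b : T ⟶ Z}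
    (h : a ≫ g = b ≫ g) {U : Scheme.{u}} (w : U ⟶ T) (hw : w ≫ a = w ≫ b) {t : T}
    (ht : t ∈ closure (Set.range w)) : a t = b t := by
  let l := pullback.lift (f := g) (g := g) a b h
  have hl : w ≫ l = (w ≫ a) ≫ pullback.diagonal g := by
    apply pullback.hom_ext <;> simp [l, hw, pullback.lift_fst, pullback.lift_snd]
  have hsub : Set.range w ⊆ l ⁻¹' Set.range (pullback.diagonal g) := by
    rintro _ ⟨p, rfl⟩
    refine ⟨(w ≫ a) p, ?_⟩
    rw [← Scheme.Hom.comp_apply, ← hl, Scheme.Hom.comp_apply]
  obtain ⟨z, hz⟩ := closure_minimal hsub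
    ((pullback.diagonal g).isClosedEmbedding.isClosed_range.preimage l.continuous) ht
  have h1 := congrArg (pullback.fst g g) hz
  have h2 := congrArg (pullback.snd g g) hz
  rw [← Scheme.Hom.comp_apply, ← Scheme.Hom.comp_apply, pullback.diagonal_fst,
    pullback.lift_fst] at h1
  rw [← Scheme.Hom.comp_apply, ← Scheme.Hom.comp_apply, pullback.diagonal_snd,
    pullback.lift_snd] at h2
  exact h1.symm.trans h2

variable {V A B S : Scheme.{u}} (a : V ⟶ A) (b : V ⟶ B) [IsOpenImmersion a] [IsOpenImmersion b]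

/-- The glued scheme. -/
noncomputable abbrev glue : Scheme.{u} := pushout a b

instance isOpenImmersion_inl : IsOpenImmersion (pushout.inl a b) :=
  inferInstanceAs (IsOpenImmersion (colimit.ι (span a b) WalkingSpan.left))

instance isOpenImmersion_inr : IsOpenImmersion (pushout.inr a b) :=
  inferInstanceAs (IsOpenImmersion (colimit.ι (span a b) WalkingSpan.right))

theorem glue_cover (z : ↥(pushout a b)) :
    z ∈ Set.range (pushout.inl a b) ∨ z ∈ Set.range (pushout.inr a b) := by
  obtain ⟨i, x, rfl⟩ := Scheme.IsLocallyDirected.ι_jointly_surjective (span a b) z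
  rcases i with _ | _ | _
  · left
    exact ⟨a x, by
      rw [← Scheme.Hom.comp_apply, ← colimit.w (span a b) WalkingSpan.Hom.fst]; rfl⟩
  · exact .inl ⟨x, rfl⟩
  · exact .inr ⟨x, rfl⟩

theorem glue_inter {x : A} {y : B} (hxy : pushout.inl a b x = pushout.inr a b y) :
    ∃ v, a v = x ∧ b v = y := by
  obtain ⟨k, fi, fj, z, hzx, hzy⟩ :=
    (Scheme.IsLocallyDirected.ι_eq_ι_iff (F := span a b) (i := WalkingSpan.left)
      (j := WalkingSpan.right)).1 hxy
  rcases k with _ | _ | _
  · obtain rfl : fi = WalkingSpan.Hom.fst := Subsingleton.elim _ _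
    obtain rfl : fj = WalkingSpan.Hom.snd := Subsingleton.elim _ _
    exact ⟨z, hzx, hzy⟩
  · change WidePushoutShape.Hom _ _ at fj
    exact nomatch fj
  · change WidePushoutShape.Hom _ _ at fi
    exact nomatch fi

variable {a b} {gA : A ⟶ S} {gB : B ⟶ S} (w : a ≫ gA = b ≫ gB)

/-- The structure map of the glued scheme. -/
noncomputable def glueDesc : glue a b ⟶ S := pushout.desc gA gB w

@[reassoc (attr := simp)]
theorem inl_glueDesc : pushout.inl a b ≫ glueDesc w = gA := pushout.inl_desc _ _ _

@[reassoc (attr := simp)]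
theorem inr_glueDesc : pushout.inr a b ≫ glueDesc w = gB := pushout.inr_desc _ _ _

theorem opensRange_sup : (pushout.inl a b).opensRange ⊔ (pushout.inr a b).opensRange = ⊤ :=
  top_le_iff.1 fun z _ => glue_cover a b z

theorem eq_of_glue {Q : Scheme.{u}} {x : Q ⟶ A} {y : Q ⟶ B}
    (h : x ≫ pushout.inl a b = y ≫ pushout.inr a b) : ∃ r : Q ⟶ V, r ≫ a = x ∧ r ≫ b = y := by
  have hr : Set.range x ⊆ Set.range a := by
    rintro _ ⟨p, rfl⟩
    have e : pushout.inl a b (x p) = pushout.inr a b (y p) := by
      rw [← Scheme.Hom.comp_apply, h, Scheme.Hom.comp_apply]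
    obtain ⟨v, hv, -⟩ := glue_inter a b e
    exact ⟨v, hv⟩
  refine ⟨IsOpenImmersion.lift a x hr, IsOpenImmersion.lift_fac _ _ _, ?_⟩
  rw [← cancel_mono (pushout.inr a b), Category.assoc, ← pushout.condition,
    IsOpenImmersion.lift_fac_assoc, h]

/-- The glued scheme is separated when the common open is closed in the product. -/
theorem isSeparated_glue [IsSeparated gA] [IsSeparated gB]
    (hcl : IsClosed (Set.range (pullback.lift a b w))) : IsSeparated (glueDesc w) := by
  let g := glueDesc w
  let i := pushout.inl a b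
  let j := pushout.inr a b
  refine ⟨IsClosedImmersion.of_isPreimmersion _ ?_⟩
  let Δ := pullback.diagonal g
  show IsClosed (Set.range Δ)
  rw [← isOpen_compl_iff, isOpen_iff_forall_mem_open]
  intro p hp
  have key : ∀ {C D : Scheme.{u}} (ι₁ : C ⟶ glue a b) (ι₂ : D ⟶ glue a b)
      [IsOpenImmersion ι₁] [IsOpenImmersion ι₂] (gC : C ⟶ S) (gD : D ⟶ S)
      (e₁ : gC ≫ 𝟙 S = ι₁ ≫ g) (e₂ : gD ≫ 𝟙 S = ι₂ ≫ g) {P : Scheme.{u}} (d : P ⟶ pullback gC gD),
      IsClosed (Set.range d) →
      (∀ {Q : Scheme.{u}} (z : Q ⟶ pullback gC gD),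
        z ≫ pullback.fst gC gD ≫ ι₁ = z ≫ pullback.snd gC gD ≫ ι₂ → ∃ r, r ≫ d = z) →
      d ≫ pullback.fst gC gD ≫ ι₁ = d ≫ pullback.snd gC gD ≫ ι₂ →
      pullback.fst g g p ∈ Set.range ι₁ → pullback.snd g g p ∈ Set.range ι₂ →
      ∃ t ⊆ (Set.range Δ)ᶜ, IsOpen t ∧ p ∈ t := by
    intro C D ι₁ ι₂ _ _ gC gD e₁ e₂ P d hd hlift hcomm h₁ h₂
    let m := pullback.map gC gD g g ι₁ ι₂ (𝟙 S) e₁ e₂
    haveI : IsOpenImmersion m := inferInstance
    obtain ⟨q, hq⟩ : p ∈ Set.range m := by
      rw [Scheme.Pullback.range_map]; exact ⟨h₁, h₂⟩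
    have hpre : m ⁻¹' Set.range Δ = Set.range d := by
      refine subset_antisymm ?_ ?_
      · rw [← Scheme.Pullback.range_snd]
        obtain ⟨r, hr⟩ := hlift (pullback.snd Δ m) (by
          have c := pullback.condition (f := Δ) (g := m)
          have c1 := congrArg (· ≫ pullback.fst g g) c
          have c2 := congrArg (· ≫ pullback.snd g g) c
          simp only [Category.assoc, Δ, m, pullback.diagonal_fst, pullback.diagonal_snd,
            Category.comp_id, pullback.lift_fst, pullback.lift_snd] at c1 c2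
          exact c1.symm.trans c2)
        rintro _ ⟨x, rfl⟩
        exact ⟨r x, by rw [← Scheme.Hom.comp_apply, hr]⟩
      · rintro _ ⟨v, rfl⟩
        have e : (d ≫ pullback.fst gC gD ≫ ι₁) ≫ Δ = d ≫ m := by
          apply pullback.hom_ext
          · simp [Δ, m, pullback.lift_fst]
          · simp [Δ, m, pullback.lift_snd, hcomm]
        refine ⟨(d ≫ pullback.fst gC gD ≫ ι₁) v, ?_⟩
        rw [← Scheme.Hom.comp_apply, e, Scheme.Hom.comp_apply]
    refine ⟨m '' (Set.range d)ᶜ, ?_, m.isOpenEmbedding.isOpenMap _ hd.isOpen_compl, q, ?_, hq⟩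
    · rintro _ ⟨q', hq', rfl⟩ h
      exact hq' (hpre.le h)
    · intro h
      exact hp (hq ▸ hpre.ge h)
  let d₁ : V ⟶ pullback gA gB := pullback.lift a b w
  rcases glue_cover a b (pullback.fst g g p) with h₁ | h₁ <;>
    rcases glue_cover a b (pullback.snd g g p) with h₂ | h₂
  · refine key i i gA gA (by simp [i, g]) (by simp [i, g]) (pullback.diagonal gA)
      (pullback.diagonal gA).isClosedEmbedding.isClosed_range (fun z hz => ?_) (by simp) h₁ h₂
    simp only [← Category.assoc, cancel_mono i] at hz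
    exact ⟨z ≫ pullback.fst _ _, by apply pullback.hom_ext <;> simp [hz]⟩
  · refine key i j gA gB (by simp [i, g]) (by simp [j, g]) d₁ hcl (fun z hz => ?_)
      (by simp [d₁, i, j, pullback.lift_fst_assoc, pullback.lift_snd_assoc, pushout.condition]) h₁ h₂
    obtain ⟨r, hr₁, hr₂⟩ := eq_of_glue (x := z ≫ pullback.fst _ _) (y := z ≫ pullback.snd _ _)
      (by simpa [i, j] using hz)
    exact ⟨r, by apply pullback.hom_ext <;> simp [d₁, hr₁, hr₂, pullback.lift_fst, pullback.lift_snd]⟩
  · let σ := (pullbackSymmetry gA gB).hom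
    refine key j i gB gA (by simp [j, g]) (by simp [i, g]) (d₁ ≫ σ) ?_ (fun z hz => ?_)
      (by simp [d₁, σ, i, j, pullback.lift_fst_assoc, pullback.lift_snd_assoc, pushout.condition]) h₁ h₂
    · rw [Scheme.Hom.comp_base, TopCat.coe_comp, Set.range_comp]
      exact (Scheme.homeoOfIso (pullbackSymmetry gA gB)).isClosedMap _ hcl
    · obtain ⟨r, hr₁, hr₂⟩ := eq_of_glue (x := z ≫ pullback.snd _ _) (y := z ≫ pullback.fst _ _)
        (by simpa [i, j] using hz.symm)
      exact ⟨r, by apply pullback.hom_ext <;>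
        simp [d₁, σ, hr₁, hr₂, pullback.lift_fst, pullback.lift_snd]⟩
  · refine key j j gB gB (by simp [j, g]) (by simp [j, g]) (pullback.diagonal gB)
      (pullback.diagonal gB).isClosedEmbedding.isClosed_range (fun z hz => ?_) (by simp) h₁ h₂
    simp only [← Category.assoc, cancel_mono j] at hz
    exact ⟨z ≫ pullback.fst _ _, by apply pullback.hom_ext <;> simp [hz]⟩

theorem locallyOfFiniteType_glue [LocallyOfFiniteType gA] [LocallyOfFiniteType gB] :
    LocallyOfFiniteType (glueDesc w) := by
  refine (IsZariskiLocalAtSource.iff_of_iSup_eq_top (P := @LocallyOfFiniteType)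
    (fun i : Bool => if i then (pushout.inl a b).opensRange else (pushout.inr a b).opensRange)
    ?_).2 fun i => ?_
  · rw [iSup_bool_eq]; simpa using opensRange_sup (a := a) (b := b)
  · cases i
    · show LocallyOfFiniteType ((pushout.inr a b).opensRange.ι ≫ glueDesc w)
      rw [← Scheme.Hom.isoOpensRange_inv_comp (pushout.inr a b), Category.assoc, inr_glueDesc]
      infer_instance
    · show LocallyOfFiniteType ((pushout.inl a b).opensRange.ι ≫ glueDesc w)
      rw [← Scheme.Hom.isoOpensRange_inv_comp (pushout.inl a b), Category.assoc, inl_glueDesc]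
      infer_instance

theorem compactSpace_glue [CompactSpace A] [CompactSpace B] : CompactSpace (glue a b) := by
  refine ⟨?_⟩
  rw [show (Set.univ : Set ↥(glue a b)) =
      Set.range (pushout.inl a b) ∪ Set.range (pushout.inr a b) from
    (Set.eq_univ_of_forall (glue_cover a b)).symm]
  exact (isCompact_range (pushout.inl a b).continuous).union
    (isCompact_range (pushout.inr a b).continuous)

end Groth.Agent.NagataLib
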