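import Groth.Agent.NagataLib.Birat
import Groth.Agent.NagataLib.Glue
import Groth.Agent.S17388

/-!
# Two birational morphisms made open immersions at once
-/

universe u

set_option autoImplicit false
set_option linter.style.haveILetI false
set_option backward.isDefEq.respectTransparency false
set_option backward.isDefEq.respectTransparency.types false

open CategoryTheory CategoryTheory.Limits AlgebraicGeometry TopologicalSpace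

namespace Groth.Agent.NagataLib

/-- Two separated morphisms which are isomorphisms over opens with the same preimage become open
immersions after admissible blow-ups. -/
theorem exists_two_openImmersions {A Y₁ Y₂ : Scheme.{u}} [CompactSpace A]
    [CompactSpace Y₁] [QuasiSeparatedSpace Y₁] [CompactSpace Y₂] [QuasiSeparatedSpace Y₂]
    (φ₁ : A ⟶ Y₁) (φ₂ : A ⟶ Y₂)
    [IsSeparated φ₁] [QuasiCompact φ₁] [LocallyOfFiniteType φ₁]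
    [IsSeparated φ₂] [QuasiCompact φ₂] [LocallyOfFiniteType φ₂]
    (V₁ : Y₁.Opens) (V₂ : Y₂.Opens) (hV₁c : IsCompact (V₁ : Set Y₁)) (hV₂c : IsCompact (V₂ : Set Y₂))
    [IsIso (φ₁ ∣_ V₁)] [IsIso (φ₂ ∣_ V₂)] (U : A.Opens) (hV₁ : φ₁ ⁻¹ᵁ V₁ = U) (hV₂ : φ₂ ⁻¹ᵁ V₂ = U) :
    ∃ (I : A.IdealSheafData) (A' : Scheme.{u}) (b : A' ⟶ A) (P₁ : ZRLim.Adm V₁) (P₂ : ZRLim.Adm V₂)
      (o₁ : A' ⟶ P₁.obj) (o₂ : A' ⟶ P₂.obj),
      BlowUp.IsBlowUp b I ∧ BlowUp.IsAdmissibleFor U I ∧ IsProper b ∧ IsOpenImmersion o₁ ∧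
      IsOpenImmersion o₂ ∧ o₁ ≫ P₁.π = b ≫ φ₁ ∧ o₂ ≫ P₂.π = b ≫ φ₂ := by
  haveI : Nonempty (ZRLim.Adm V₁) := ZRLim.Adm.nonempty hV₁c
  haveI : Nonempty (ZRLim.Adm V₂) := ZRLim.Adm.nonempty hV₂c
  obtain ⟨K₁, hK₁⟩ := ZRLim.Bir.exists_all_good φ₁ hV₁c
  obtain ⟨K₂, hK₂⟩ := ZRLim.Bir.exists_all_good φ₂ hV₂c
  have hnot : ∀ {Y : Scheme.{u}} (π : A ⟶ Y) {V : Y.Opens} (K : ZRLim.Adm V), π ⁻¹ᵁ V = U →
      ∀ w ∈ U, w ∉ ((K.1.comap π).support : Set A) := fun {Y} π {V} K hV w hw hw' => by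
    rw [Scheme.IdealSheafData.support_comap] at hw'
    have h : π w ∈ (K.1.support : Set Y) := hw'
    rw [K.2.2] at h
    exact h (hV.ge hw)
  obtain ⟨P₁, hP₁, hc₁⟩ := S17388.exists_side φ₁ U V₁ K₁ hK₁ hV₁ (K₂.1.comap φ₂)
    (MorLib.IdealFG.isFG_comap K₂.2.1 φ₂) (hnot φ₂ K₂ hV₂)
  obtain ⟨P₂, hP₂, hc₂⟩ := S17388.exists_side φ₂ U V₂ K₂ hK₂ hV₂ (K₁.1.comap φ₁)
    (MorLib.IdealFG.isFG_comap K₁.2.1 φ₁) (hnot φ₁ K₁ hV₁)
  let P := ZRLim.Bir.pull φ₁ P₁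
  let Q := ZRLim.Bir.pull φ₂ P₂
  obtain ⟨e, he, -⟩ := Q.isBlowUp.2 P.obj P.π ((hc₂ P.π).2 ((hc₁ P.π).1 P.isBlowUp.1).symm)
  obtain ⟨e', he', -⟩ := P.isBlowUp.2 Q.obj Q.π ((hc₁ Q.π).2 ((hc₂ Q.π).1 Q.isBlowUp.1).symm)
  change e ≫ Q.π = P.π at he
  change e' ≫ P.π = Q.π at he'
  haveI : IsIso e := ⟨e',
    BlowUpLib.isBlowUp_hom_ext P.isBlowUp (by rw [Category.assoc, he', he, Category.id_comp])
      (by rw [Category.id_comp]; exact P.isBlowUp.1),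
    BlowUpLib.isBlowUp_hom_ext Q.isBlowUp (by rw [Category.assoc, he, he', Category.id_comp])
      (by rw [Category.id_comp]; exact Q.isBlowUp.1)⟩
  haveI := hP₁
  haveI := hP₂
  refine ⟨_, P.obj, P.π, P₁, P₂, ZRLim.Bir.q φ₁ P₁, e ≫ ZRLim.Bir.q φ₂ P₂, P.isBlowUp,
    ⟨P.2.1, ?_⟩, inferInstance, hP₁, inferInstance, ZRLim.Bir.q_π φ₁ P₁, ?_⟩
  · exact Set.disjoint_right.2 fun w hw => hnot φ₁ P₁ hV₁ w hw
  · rw [Category.assoc, ZRLim.Bir.q_π, reassoc_of% he]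

end Groth.Agent.NagataLib
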