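import Groth.Agent.NagataLib.StrictTr
import Groth.Agent.S8857
import Groth.Agent.S1279

/-!
# Strict transforms which are isomorphisms near a closure
-/

universe u

set_option autoImplicit false
set_option linter.style.haveILetI false
set_option backward.isDefEq.respectTransparency false
set_option backward.isDefEq.respectTransparency.types false

open CategoryTheory CategoryTheory.Limits AlgebraicGeometry TopologicalSpace
open Scheme (IdealSheafData)

namespace Groth.Agent.NagataLib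

/-- A quasi-compact open between a compact set and an open. -/
theorem exists_qc_between {X : Scheme.{u}} {C : Set X} (hC : IsCompact C) (O : X.Opens)
    (h : C ⊆ (O : Set X)) : ∃ Q : X.Opens, IsCompact (Q : Set X) ∧ C ⊆ (Q : Set X) ∧ Q ≤ O := by
  classical
  obtain ⟨t, ht⟩ := hC.elim_finite_subcover
    (fun V : {V : X.affineOpens // V.1 ≤ O} => (V.1.1 : Set X)) (fun V => V.1.1.2) (fun x hx => by
      obtain ⟨_, ⟨(V : X.Opens), hV, rfl⟩, hxV, hVO⟩ :=
        X.isBasis_affineOpens.exists_subset_of_mem_open (h hx) O.2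
      exact Set.mem_iUnion.2 ⟨⟨⟨V, hV⟩, hVO⟩, hxV⟩)
  refine ⟨⟨⋃ V ∈ t, (V.1.1 : Set X), isOpen_biUnion fun V _ => V.1.1.2⟩,
    t.finite_toSet.isCompact_biUnion fun V _ => V.1.2.isCompact, ht, ?_⟩
  intro x hx
  obtain ⟨V, -, hxV⟩ := Set.mem_iUnion₂.1 hx
  exact V.2 hxV

/-- A closed subset of a quasi-compact open, separated from the rest by an admissible blow-up. -/
theorem exists_separating {Y : Scheme.{u}} [CompactSpace Y] [QuasiSeparatedSpace Y] (V : Y.Opens)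
    (hV : IsCompact (V : Set Y)) (T : Set Y) (hTV : T ⊆ V)
    (hT : IsClosed (Subtype.val ⁻¹' T : Set V)) (W : Y.Opens) (hTW : T ⊆ W) (hWV : W ≤ V) :
    ∃ (W₀ : Y.Opens) (K : ZRLim.Adm V), W₀ ≤ W ∧ IsCompact (W₀ : Set Y) ∧
      Disjoint (closure (K.π ⁻¹' T)) (closure (K.π ⁻¹' ((V : Set Y) \ W₀))) := by
  haveI : CompactSpace V := isCompact_iff_compactSpace.1 hV
  haveI : QuasiSeparatedSpace ↥V :=
    QuasiSeparatedSpace.of_isOpenEmbedding V.2.isOpenEmbedding_subtypeVal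
  have hTc : IsCompact T := by
    have h := hT.isCompact.image continuous_subtype_val
    rwa [Set.image_preimage_eq_inter_range, Subtype.range_coe, Set.inter_eq_left.2 hTV] at h
  obtain ⟨W₀, hW₀c, hTW₀, hW₀⟩ := exists_qc_between hTc W hTW
  let N : Y.Opens := V.ι ''ᵁ ⟨(Subtype.val ⁻¹' T : Set V)ᶜ, hT.isOpen_compl⟩
  have hN : ∀ y, y ∈ V → y ∉ T → y ∈ N := fun y hy hyT => ⟨⟨y, hy⟩, hyT, rfl⟩
  have hVWc : IsCompact ((V : Set Y) \ W₀) := hV.diff W₀.2
  obtain ⟨Q, hQc, hVQ, hQN⟩ := exists_qc_between hVWc N fun y hy =>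
    hN y hy.1 fun h => hy.2 (hTW₀ h)
  have hcon : ∀ O : Y.Opens, IsCompact (O : Set Y) →
      Topology.IsConstructible (Subtype.val ⁻¹' (O : Set Y) : Set V)ᶜ := fun O hO => by
    refine (IsRetrocompact.isConstructible (O.2.preimage continuous_subtype_val) ?_).compl
    intro U' hU'c hU'o
    have hc : IsCompact (Subtype.val ⁻¹' (O : Set Y) : Set V) := by
      rw [Subtype.isCompact_iff, Set.image_preimage_eq_inter_range, Subtype.range_coe]
      exact QuasiSeparatedSpace.inter_isCompact _ _ O.2 hO V.2 hV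
    exact QuasiSeparatedSpace.inter_isCompact _ _ (O.2.preimage continuous_subtype_val) hc hU'o hU'c
  obtain ⟨I, Y', b, hb, hI, hdis⟩ := S1279.result V hV (Subtype.val ⁻¹' (Q : Set Y) : Set V)ᶜ
    (Subtype.val ⁻¹' (W₀ : Set Y) : Set V)ᶜ (Q.2.preimage continuous_subtype_val).isClosed_compl
    (W₀.2.preimage continuous_subtype_val).isClosed_compl (hcon Q hQc) (hcon W₀ hW₀c)
    (Set.disjoint_left.2 fun y hyQ hyW => hyQ (hVQ ⟨y.2, hyW⟩))
  obtain ⟨K₀⟩ := ZRLim.Adm.nonempty hV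
  let K : ZRLim.Adm V := ⟨K₀.1 * I, fun O => by
      rw [IdealSheafData.ideal_mul, Pi.mul_apply]; exact (K₀.2.1 O).mul (hI.1 O), by
      rw [IdealSheafData.support_mul]
      show (K₀.1.support : Set Y) ∪ (I.support : Set Y) = _
      rw [K₀.2.2]
      exact Set.union_eq_left.2 fun y hy hyV => Set.disjoint_left.1 hI.2 hy hyV⟩
  obtain ⟨g, hg, -⟩ := hb.2 K.obj K.π (BlowUpX.isEffCartier_left_of_mul (J := K₀.1.comap K.π) (by
    rw [← ModPairLib.ideal_comap_mul, mul_comm]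
    exact K.isBlowUp.1))
  have hsub : ∀ A : Set Y, closure (K.π ⁻¹' A) ⊆ g ⁻¹' closure (b ⁻¹' A) := fun A => by
    refine closure_minimal (fun z hz => subset_closure ?_) (isClosed_closure.preimage g.continuous)
    show b (g z) ∈ A
    rw [← Scheme.Hom.comp_apply, hg]; exact hz
  refine ⟨W₀, K, hW₀, hW₀c, Set.disjoint_left.2 fun z h1 h2 => ?_⟩
  have hA : T ⊆ Subtype.val '' (Subtype.val ⁻¹' (Q : Set Y) : Set V)ᶜ := fun y hy =>
    ⟨⟨y, hTV hy⟩, fun hq => by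
      obtain ⟨v, hv, hvy⟩ := hQN hq
      exact hv (show v.1 ∈ T by rw [show v.1 = y from hvy]; exact hy), rfl⟩
  have hB : (V : Set Y) \ W₀ ⊆ Subtype.val '' (Subtype.val ⁻¹' (W₀ : Set Y) : Set V)ᶜ :=
    fun y hy => ⟨⟨y, hy.1⟩, hy.2, rfl⟩
  exact Set.disjoint_left.1 hdis
    (closure_mono (Set.preimage_mono hA) (hsub _ h1))
    (closure_mono (Set.preimage_mono hB) (hsub _ h2))

/-- Base change of an isomorphism over an open. -/
theorem isIso_snd_restrict {X Y T : Scheme.{u}} (f : X ⟶ Y) (π : T ⟶ Y) {U : Y.Opens}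
    [IsIso (f ∣_ U)] {D : T.Opens} (hD : D ≤ π ⁻¹ᵁ U) : IsIso ((pullback.snd f π) ∣_ D) := by
  let k : (D : Scheme.{u}) ⟶ U := π.resLE U D hD
  have hk : k ≫ U.ι = D.ι ≫ π := Scheme.Hom.resLE_comp_ι _ _
  have big := (isPullback_morphismRestrict (pullback.snd f π) D).flip.paste_horiz
    (IsPullback.of_hasPullback f π)
  have hr := (isPullback_morphismRestrict f U).flip
  let l : ((pullback.snd f π ⁻¹ᵁ D : (pullback f π).Opens) : Scheme.{u}) ⟶ (f ⁻¹ᵁ U : X.Opens) :=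
    hr.lift ((pullback.snd f π ⁻¹ᵁ D).ι ≫ pullback.fst f π) (pullback.snd f π ∣_ D ≫ k)
      (by rw [Category.assoc _ k, hk, big.w])
  have big' : IsPullback (l ≫ (f ⁻¹ᵁ U).ι) (pullback.snd f π ∣_ D) f (k ≫ U.ι) := by
    rw [hk, hr.lift_fst]; exact big
  have left := IsPullback.of_right big' (hr.lift_snd _ _ _) hr
  exact MorphismProperty.of_isPullback (P := MorphismProperty.isomorphisms Scheme) left
    (inferInstance : IsIso (f ∣_ U))

/-- A proper morphism which is an isomorphism over a quasi-compact open gets a section after an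
admissible blow-up. -/
theorem exists_section_blowUp {X Y : Scheme.{u}} [CompactSpace Y] [QuasiSeparatedSpace Y]
    (φ : X ⟶ Y) [IsProper φ] (O : Y.Opens) (hO : IsCompact (O : Set Y)) [IsIso (φ ∣_ O)] :
    ∃ (K : ZRLim.Adm O) (t : K.obj ⟶ X), t ≫ φ = K.π := by
  obtain ⟨K, hK, hr⟩ := exists_adm_openImmersion φ O hO
  haveI := hK
  let q := ZRLim.Bir.q φ K
  haveI : IsProper q := by
    haveI : IsProper (q ≫ K.π) := by rw [ZRLim.Bir.q_π]; infer_instance
    exact IsProper.of_comp q K.π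
  haveI : IsIso q := by
    haveI : Surjective q := ⟨fun z => by
      have hd : z ∈ closure (Set.range q) :=
        closure_mono (fun w hw => hr w hw) (dense_preimage_adm K z)
      rwa [q.isClosedMap.isClosed_range.closure_eq] at hd⟩
    exact isIso_iff_isOpenImmersion_and_epi_base q |>.2 ⟨inferInstance,
      (TopCat.epi_iff_surjective _).2 q.surjective⟩
  refine ⟨K, inv q ≫ (ZRLim.Bir.pull φ K).π, ?_⟩
  rw [Category.assoc, ← ZRLim.Bir.q_π, IsIso.inv_hom_id_assoc]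

/-- A morphism from a blow-up with a partial section is an isomorphism there. -/
theorem isIso_restrict_of_section {X Y X'' : Scheme.{u}} (f : X ⟶ Y) [IsSeparated f] (V W : Y.Opens)
    (P : ZRLim.Adm V) {p : X'' ⟶ X} (hp : BlowUp.IsBlowUp p (P.1.comap f)) (r : X'' ⟶ P.obj)
    (hr : r ≫ P.π = p ≫ f) (W' : P.obj.Opens) (hW' : ∀ z ∈ W', P.π z ∈ V → P.π z ∈ W)
    [IsIso (f ∣_ W)] (s : (W' : Scheme.{u}) ⟶ X) (hs : s ≫ f = W'.ι ≫ P.π) : IsIso (r ∣_ W') := by
  have hg : BlowUp.IsEffCartierIdeal ((P.1.comap f).comap s) := by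
    rw [← IdealSheafData.comap_comp, hs, IdealSheafData.comap_comp]
    exact BlowUpLib.isEffCartier_comap_flat W'.ι P.isBlowUp.1
  obtain ⟨s', hs', -⟩ := hp.2 _ s hg
  change s' ≫ p = s at hs'
  have e : s' ≫ r = W'.ι := by
    refine BlowUpLib.isBlowUp_hom_ext P.isBlowUp ?_ ?_
    · rw [Category.assoc, hr, reassoc_of% hs', hs]
    · rw [IdealSheafData.comap_comp]
      exact BlowUpLib.isEffCartier_comap_flat W'.ι P.isBlowUp.1
  let A := r ⁻¹ᵁ W'
  let u : (W' : Scheme.{u}) ⟶ (A : Scheme.{u}) := IsOpenImmersion.lift A.ι s' (by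
    rintro _ ⟨z, rfl⟩
    rw [Scheme.Opens.range_ι]
    show r (s' z) ∈ W'
    rw [← Scheme.Hom.comp_apply, e]; exact z.2)
  have hu : u ≫ A.ι = s' := IsOpenImmersion.lift_fac _ _ _
  refine ⟨u, ?_, by rw [← cancel_mono W'.ι, Category.assoc, morphismRestrict_ι, reassoc_of% hu, e,
    Category.id_comp]⟩
  rw [← cancel_mono A.ι, Category.id_comp, Category.assoc, hu]
  have hA : BlowUp.IsEffCartierIdeal ((P.1.comap f).comap (A.ι ≫ p)) := by
    rw [IdealSheafData.comap_comp]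
    exact BlowUpLib.isEffCartier_comap_flat A.ι hp.1
  refine BlowUpLib.isBlowUp_hom_ext hp ?_ hA
  rw [Category.assoc, hs']
  let Z := ModPair.interior ((P.1.comap f).comap (A.ι ≫ p))
  haveI := ModPairLib.isSchemeTheoreticallyDominant_interior hA
  have hover : ((r ∣_ W') ≫ s) ≫ f = (A.ι ≫ p) ≫ f := by
    rw [Category.assoc, hs, morphismRestrict_ι_assoc, hr, Category.assoc]
  refine ZRLim.hom_ext_dense Z.ι f hover ?_
  have hr₀ : Set.range ((Z.ι ≫ A.ι ≫ p) ≫ f) ⊆ (W : Set Y) := by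
    rintro _ ⟨z, rfl⟩
    have e2 : ((Z.ι ≫ A.ι ≫ p) ≫ f) z = P.π (r (A.ι (Z.ι z))) := by
      show f (p (A.ι (Z.ι z))) = _
      rw [← Scheme.Hom.comp_apply p f, ← hr]
      rfl
    rw [e2]
    refine hW' _ (Z.ι z).2 ?_
    have hz : f (p (A.ι (Z.ι z))) ∉ (P.1.support : Set Y) := fun h => z.2 (by
      rw [IdealSheafData.support_comap, IdealSheafData.support_comap]; exact h)
    rw [P.2.2, Set.notMem_compl_iff] at hz
    rw [← e2]
    exact hz
  let v : (Z : Scheme.{u}) ⟶ (W : Scheme.{u}) :=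
    IsOpenImmersion.lift W.ι ((Z.ι ≫ A.ι ≫ p) ≫ f) (by rwa [Scheme.Opens.range_ι])
  have hv : v ≫ W.ι = (Z.ι ≫ A.ι ≫ p) ≫ f := IsOpenImmersion.lift_fac _ _ _
  exact (ZRLim.Bir.eq_comp_sec' f _ v (by rw [Category.assoc, hover, hv]; simp only [Category.assoc])).trans
    (ZRLim.Bir.eq_comp_sec' f (Z.ι ≫ A.ι ≫ p) v hv.symm).symm

/-- Pulling a neighbourhood of a closure back along a transition map. -/
theorem closure_subset_preimage {A B : Scheme.{u}} (g : A ⟶ B) (Q : B.Opens) {S₁ : Set A} {S₂ : Set B}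
    (h : ∀ z ∈ S₁, g z ∈ S₂) (hQ : closure S₂ ⊆ (Q : Set B)) :
    closure S₁ ⊆ ((g ⁻¹ᵁ Q : A.Opens) : Set A) := fun w hw =>
  hQ (closure_minimal (t := g ⁻¹' closure S₂) (fun z hz => subset_closure (h z hz))
    (isClosed_closure.preimage g.continuous) hw)

/-- The preimage of a set at a higher stage. -/
theorem mem_preimage_tr_π {Y : Scheme.{u}} {V : Y.Opens} {K P : ZRLim.Adm V} (h : K ≤ P) (T : Set Y)
    (z : P.obj) (hz : z ∈ P.π ⁻¹' T) : ZRLim.Adm.tr h z ∈ K.π ⁻¹' T := by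
  rw [Set.mem_preimage, ZRLim.Adm.π_tr_apply]; exact hz

/-- A blow-up of an open is dominated by one of the whole. -/
theorem exists_dominating {Y : Scheme.{u}} [CompactSpace Y] [QuasiSeparatedSpace Y] {V : Y.Opens}
    (hV : IsCompact (V : Set Y)) (K₁ : ZRLim.Adm V) (Q : K₁.obj.Opens)
    (hQc : IsCompact (Q : Set K₁.obj)) (K₂ : ZRLim.Adm (Q.ι ⁻¹ᵁ (K₁.π ⁻¹ᵁ V))) :
    ∃ (P : ZRLim.Adm V) (hle : K₁ ≤ P)
      (v : ((ZRLim.Adm.tr hle ⁻¹ᵁ Q : P.obj.Opens) : Scheme.{u}) ⟶ K₂.obj),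
      v ≫ K₂.π = ZRLim.Adm.tr hle ∣_ Q := by
  haveI : Nonempty (ZRLim.Adm V) := ZRLim.Adm.nonempty hV
  obtain ⟨M, hM, hMQ, -⟩ := S8857.result K₁.obj (K₁.π ⁻¹ᵁ V) Q (K₁.π.isCompact_preimage hV) hQc
    K₂.1 K₂.isAdmissible
  obtain ⟨P, hle, hcar⟩ :=
    K₁.exists_isEffCartier M hM.1 fun y hy hy' => Set.disjoint_left.1 hM.2 hy' hy
  obtain ⟨v, hv, -⟩ := K₂.isBlowUp.2 _ (ZRLim.Adm.tr hle ∣_ Q) (by
    rw [← hMQ, ← IdealSheafData.comap_comp, morphismRestrict_ι, IdealSheafData.comap_comp]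
    exact BlowUpLib.isEffCartier_comap_flat (ZRLim.Adm.tr hle ⁻¹ᵁ Q).ι hcar)
  exact ⟨P, hle, v, hv⟩

/-- The strict transform becomes an isomorphism near the closure of a closed subset. -/
theorem exists_iso_near {X Y : Scheme.{u}} [CompactSpace Y] [QuasiSeparatedSpace Y]
    (f : X ⟶ Y) [IsProper f] (V : Y.Opens) (hV : IsCompact (V : Set Y)) (T : Set Y) (hTV : T ⊆ V)
    (hT : IsClosed (Subtype.val ⁻¹' T : Set V)) (W : Y.Opens) (hTW : T ⊆ W) (hWV : W ≤ V)
    [IsIso (f ∣_ W)] :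
    ∃ (P : ZRLim.Adm V) (W' : P.obj.Opens), closure (P.π ⁻¹' T) ⊆ (W' : Set P.obj) ∧
      ∀ {X'' : Scheme.{u}} (p : X'' ⟶ X) (r : X'' ⟶ P.obj), BlowUp.IsBlowUp p (P.1.comap f) →
        r ≫ P.π = p ≫ f → IsIso (r ∣_ W') := by
  obtain ⟨W₀, K₁, hW₀, hW₀c, hdis⟩ := exists_separating V hV T hTV hT W hTW hWV
  let Ω : K₁.obj.Opens := ⟨(closure (K₁.π ⁻¹' ((V : Set Y) \ W₀)))ᶜ, isClosed_closure.isOpen_compl⟩
  obtain ⟨Q, hQc, hTQ, hQΩ⟩ := exists_qc_between (isClosed_closure (s := K₁.π ⁻¹' T)).isCompact Ω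
    fun z hz => Set.disjoint_left.1 hdis hz
  haveI : CompactSpace (Q : Scheme.{u}) := isCompact_iff_compactSpace.1 hQc
  haveI : QuasiSeparatedSpace (Q : Scheme.{u}) :=
    QuasiSeparatedSpace.of_isOpenEmbedding Q.ι.isOpenEmbedding
  haveI : QuasiCompact Q.ι := quasiCompact_of_compactSpace _
  let π₁ : (Q : Scheme.{u}) ⟶ Y := Q.ι ≫ K₁.π
  let O : (Q : Scheme.{u}).Opens := Q.ι ⁻¹ᵁ (K₁.π ⁻¹ᵁ V)
  have hOc : IsCompact (O : Set Q) := Q.ι.isCompact_preimage (K₁.π.isCompact_preimage hV)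
  have hmem : ∀ z ∈ Q, K₁.π z ∈ V → K₁.π z ∈ W := fun z hz hzV => by
    by_contra h
    exact hQΩ hz (subset_closure ⟨hzV, fun h' => h (hW₀ h')⟩)
  let φ := pullback.snd f π₁
  haveI : IsProper φ := MorphismProperty.pullback_snd _ _ inferInstance
  haveI : IsIso (φ ∣_ O) := isIso_snd_restrict f π₁ (U := W) fun z hz => hmem z.1 z.2 hz
  obtain ⟨K₂, t, ht⟩ := exists_section_blowUp φ O hOc
  obtain ⟨P, hle, v, hv⟩ := exists_dominating hV K₁ Q hQc K₂
  refine ⟨P, ZRLim.Adm.tr hle ⁻¹ᵁ Q, ?_, fun {X''} p r hp hr => ?_⟩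
  · exact closure_subset_preimage (ZRLim.Adm.tr hle) Q (mem_preimage_tr_π hle T) hTQ
  · refine isIso_restrict_of_section f V W P hp r hr _ (fun z hz hzV => ?_)
      (v ≫ t ≫ pullback.fst f π₁) ?_
    · have := hmem _ hz (by rw [ZRLim.Adm.π_tr_apply]; exact hzV)
      rwa [ZRLim.Adm.π_tr_apply] at this
    · rw [Category.assoc, Category.assoc, pullback.condition, reassoc_of% ht, reassoc_of% hv,
        morphismRestrict_ι_assoc, ZRLim.Adm.tr_π]

end Groth.Agent.NagataLib
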