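import Groth.Agent.NagataLib.ExtendFamily
import Groth.Agent.NagataLib.IsoNear
import Groth.Agent.NagataLib.Birat

/-!
# Compactifications with prescribed boundary behaviour
-/

universe u v

set_option autoImplicit false
set_option linter.style.haveILetI false
set_option backward.isDefEq.respectTransparency false
set_option backward.isDefEq.respectTransparency.types false

open CategoryTheory CategoryTheory.Limits AlgebraicGeometry TopologicalSpace Opposite
open Scheme (IdealSheafData)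

namespace Groth.Agent.NagataLib.ExtendFree

variable {S X : Scheme.{u}} {f : X ⟶ S}

/-- Blow up a dense compactification away from the scheme. -/
theorem exists_dComp_blowUp (C : DComp f) (K : ZRLim.Adm C.j.opensRange) :
    ∃ (j : X ⟶ K.obj) (C' : DComp f), IsOpenImmersion j ∧ j ≫ K.π = C.j ∧
      Set.range j = K.π ⁻¹' Set.range C.j ∧ j ≫ K.π ≫ C.g = f ∧
      C'.pt = K.obj := by
  let v := C.j.isoOpensRange.hom ≫ inv (K.π ∣_ C.j.opensRange) ≫ (K.π ⁻¹ᵁ C.j.opensRange).ι
  have hv : v ≫ K.π = C.j := by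
    simp only [v, Category.assoc, ← morphismRestrict_ι, IsIso.inv_hom_id_assoc,
      Scheme.Hom.isoOpensRange_hom_ι]
  haveI : IsOpenImmersion v := inferInstance
  haveI : QuasiCompact v := inferInstance
  haveI : IsSchemeTheoreticallyDominant v := inferInstance
  have hr : v.opensRange = K.π ⁻¹ᵁ C.j.opensRange := by
    simp only [v]
    rw [Scheme.Hom.opensRange_comp_of_isIso, Scheme.Hom.opensRange_comp_of_isIso, Scheme.Opens.opensRange_ι]
  exact ⟨v, { pt := K.obj, j := v, g := K.π ≫ C.g, fac := by rw [reassoc_of% hv, C.fac] },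
    inferInstance, hv, congrArg (fun O : K.obj.Opens => (O : Set K.obj)) hr,
    by rw [reassoc_of% hv, C.fac], rfl⟩

/-- A compactification whose boundary is an effective Cartier divisor. -/
theorem exists_cartier_boundary [IsNoetherian S] (C : DComp f) :
    ∃ (Xb : Scheme.{u}) (j : X ⟶ Xb) (b : Xb ⟶ C.pt) (E : Xb.IdealSheafData),
      IsOpenImmersion j ∧ IsProper b ∧ j ≫ b = C.j ∧
      BlowUp.IsEffCartierIdeal E ∧ (E.support : Set Xb) = (Set.range j.base)ᶜ := by
  haveI : IsLocallyNoetherian C.pt := LocallyOfFiniteType.isLocallyNoetherian C.g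
  haveI : CompactSpace C.pt := QuasiCompact.compactSpace_of_compactSpace C.g
  haveI : IsNoetherian C.pt := {}
  obtain ⟨K⟩ := ZRLim.Adm.nonempty (U := C.j.opensRange) (NoetherianSpace.isCompact _)
  obtain ⟨j, -, hj, hjπ, hr, -, -⟩ := exists_dComp_blowUp C K
  refine ⟨K.obj, j, K.π, K.1.comap K.π, hj, inferInstance, hjπ, K.isBlowUp.1, ?_⟩
  rw [IdealSheafData.support_comap, Closeds.coe_preimage, K.2.2]
  show _ = (Set.range j)ᶜ
  rw [hr]
  rfl

/-- Compatible dense compactifications with Cartier boundary. -/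
theorem exists_proper_extension [IsNoetherian S] {X' : Scheme.{u}} (f : X ⟶ S) [IsSeparated f]
    [QuasiCompact f] [LocallyOfFiniteType f] (f' : X' ⟶ S) [IsSeparated f'] [QuasiCompact f']
    [LocallyOfFiniteType f'] (φ : X' ⟶ X) (hφ : φ ≫ f = f') :
    ∃ (Xb Xb' : Scheme.{u}) (j : X ⟶ Xb) (j' : X' ⟶ Xb') (g : Xb ⟶ S)
      (g' : Xb' ⟶ S) (ψ : Xb' ⟶ Xb) (E : Xb.IdealSheafData) (E' : Xb'.IdealSheafData),
      IsOpenImmersion j ∧ IsOpenImmersion j' ∧ IsProper g ∧ IsProper g' ∧ j ≫ g = f ∧ j' ≫ g' = f' ∧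
      IsProper ψ ∧ ψ ≫ g = g' ∧ j' ≫ ψ = φ ≫ j ∧
      BlowUp.IsEffCartierIdeal E ∧ (E.support : Set Xb) = (Set.range j.base)ᶜ ∧
      BlowUp.IsEffCartierIdeal E' ∧ (E'.support : Set Xb') = (Set.range j'.base)ᶜ := by
  obtain ⟨C⟩ := nonempty_dComp f
  obtain ⟨Xb, j, b, E, hj, hb, hjb, hE, hEs⟩ := exists_cartier_boundary C
  haveI := hj
  haveI := hb
  let g := b ≫ C.g
  obtain ⟨C₁⟩ := nonempty_dComp f'
  haveI : IsLocallyNoetherian C₁.pt := LocallyOfFiniteType.isLocallyNoetherian C₁.g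
  haveI : CompactSpace C₁.pt := QuasiCompact.compactSpace_of_compactSpace C₁.g
  haveI : IsNoetherian C₁.pt := {}
  let t : X' ⟶ pullback C₁.g g := pullback.lift C₁.j (φ ≫ j)
    (by simp only [g, Category.assoc, reassoc_of% hjb, C.fac, hφ, C₁.fac])
  obtain ⟨hto, -⟩ := closure_graph (pullback.fst C₁.g g) C₁.j t (pullback.lift_fst _ _ _)
  haveI := hto
  haveI : QuasiCompact t := by
    haveI : QuasiCompact (t ≫ pullback.fst C₁.g g) := by rw [pullback.lift_fst]; infer_instance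
    exact QuasiCompact.of_comp t (pullback.fst C₁.g g)
  haveI := Groth.Agent.Triage.SchDense.isSchemeTheoreticallyDominant_toImage t
  haveI : QuasiCompact t.toImage := by
    haveI : QuasiCompact (t.toImage ≫ t.imageι) := by rwa [t.toImage_imageι]
    exact QuasiCompact.of_comp t.toImage t.imageι
  let C₂ : DComp f' :=
    { pt := t.image, j := t.toImage, g := t.imageι ≫ pullback.fst C₁.g g ≫ C₁.g,
      fac := by rw [Scheme.Hom.toImage_imageι_assoc, pullback.lift_fst_assoc, C₁.fac] }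
  obtain ⟨Xb', j', b', E', hj', hb', hjb', hE', hEs'⟩ := exists_cartier_boundary C₂
  haveI := hb'
  let ψ : Xb' ⟶ Xb := b' ≫ t.imageι ≫ pullback.snd C₁.g g
  have hψg : ψ ≫ g = b' ≫ C₂.g := by
    simp only [ψ, C₂, Category.assoc, ← pullback.condition]
  haveI : IsProper (ψ ≫ g) := by rw [hψg]; infer_instance
  refine ⟨Xb, Xb', j, j', g, b' ≫ C₂.g, ψ, E, E', hj, hj', inferInstance, inferInstance, ?_, ?_,
    IsProper.of_comp ψ g, hψg, ?_, hE, hEs, hE', hEs'⟩
  · simp only [g, reassoc_of% hjb, C.fac]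
  · rw [reassoc_of% hjb', C₂.fac]
  · simp only [ψ, reassoc_of% hjb', C₂, Scheme.Hom.toImage_imageι_assoc, t, pullback.lift_snd]

/-- Closed subsets which are disjoint get disjoint closures after blowing up the boundary. -/
theorem exists_adm_separating {Y : Scheme.{u}} [IsNoetherian Y] (U : Y.Opens) {ι : Type v} [Finite ι]
    (T₁ T₂ : ι → Set U) (h₁ : ∀ i, IsClosed (T₁ i)) (h₂ : ∀ i, IsClosed (T₂ i))
    (hd : ∀ i, Disjoint (T₁ i) (T₂ i)) :
    ∃ K : ZRLim.Adm U, ∀ i, Disjoint (closure (K.π ⁻¹' (Subtype.val '' T₁ i)))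
      (closure (K.π ⁻¹' (Subtype.val '' T₂ i))) := by
  classical
  have hUc : IsCompact (U : Set Y) := NoetherianSpace.isCompact _
  haveI : Nonempty (ZRLim.Adm U) := ZRLim.Adm.nonempty hUc
  have hN : NoetherianSpace U := (U.2.isOpenEmbedding_subtypeVal).isInducing.noetherianSpace
  have hcon : ∀ T : Set U, IsClosed T → Topology.IsConstructible T := fun T hT => by
    rw [← Topology.isConstructible_compl]
    exact IsRetrocompact.isConstructible hT.isOpen_compl fun W _ _ => hN.isCompact _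
  have mono : ∀ {K P : ZRLim.Adm U} (h : K ≤ P) (A B : Set Y),
      Disjoint (closure (K.π ⁻¹' A)) (closure (K.π ⁻¹' B)) →
      Disjoint (closure (P.π ⁻¹' A)) (closure (P.π ⁻¹' B)) := by
    intro K P h A B hAB
    have hsub : ∀ A : Set Y, closure (P.π ⁻¹' A) ⊆ ZRLim.Adm.tr h ⁻¹' closure (K.π ⁻¹' A) := fun A =>
      closure_minimal (fun z hz => subset_closure (mem_preimage_tr_π h A z hz))
        (isClosed_closure.preimage (ZRLim.Adm.tr h).continuous)
    exact (hAB.preimage _).mono (hsub A) (hsub B)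
  have hone : ∀ i, ∃ K : ZRLim.Adm U, Disjoint (closure (K.π ⁻¹' (Subtype.val '' T₁ i)))
      (closure (K.π ⁻¹' (Subtype.val '' T₂ i))) := by
    intro i
    obtain ⟨I, Y', b, hb, hI, hdis⟩ := Groth.Agent.S1279.result U hUc (T₁ i) (T₂ i) (h₁ i) (h₂ i)
      (hcon _ (h₁ i)) (hcon _ (h₂ i)) (hd i)
    obtain ⟨K₀⟩ := ZRLim.Adm.nonempty hUc
    let K : ZRLim.Adm U := ⟨K₀.1 * I, fun O => by
        rw [IdealSheafData.ideal_mul, Pi.mul_apply]; exact (K₀.2.1 O).mul (hI.1 O), by
        rw [IdealSheafData.support_mul]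
        show (K₀.1.support : Set Y) ∪ (I.support : Set Y) = _
        rw [K₀.2.2]
        exact Set.union_eq_left.2 fun y hy hyV => Set.disjoint_left.1 hI.2 hy hyV⟩
    obtain ⟨g, hg, -⟩ := hb.2 K.obj K.π (BlowUpX.isEffCartier_left_of_mul (J := K₀.1.comap K.π) (by
      rw [← ModPairLib.ideal_comap_mul, mul_comm]
      exact K.isBlowUp.1))
    have hsub : ∀ A : Set Y, closure (K.π ⁻¹' A) ⊆ g ⁻¹' closure (b ⁻¹' A) := fun A => by
      refine closure_minimal (fun z hz => subset_closure ?_) (isClosed_closure.preimage g.continuous)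
      show b (g z) ∈ A
      rw [← Scheme.Hom.comp_apply, hg]; exact hz
    exact ⟨K, (hdis.preimage _).mono (hsub _) (hsub _)⟩
  choose K hK using hone
  haveI := Fintype.ofFinite ι
  obtain ⟨P, hP⟩ := Finset.exists_le (Finset.univ.image K)
  exact ⟨P, fun i => mono (hP _ (Finset.mem_image_of_mem K (Finset.mem_univ i))) _ _ (hK i)⟩

/-- A compactification separating finitely many pairs of disjoint closed subsets. -/
theorem exists_compactification_separating [IsNoetherian S] (f : X ⟶ S) [IsSeparated f]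
    [QuasiCompact f] [LocallyOfFiniteType f] {ι : Type v} [Finite ι] (C₁ C₂ : ι → Set X)
    (h₁ : ∀ i, IsClosed (C₁ i)) (h₂ : ∀ i, IsClosed (C₂ i)) (hd : ∀ i, C₁ i ∩ C₂ i = ∅) :
    ∃ (Xb : Scheme.{u}) (j : X ⟶ Xb) (p : Xb ⟶ S), IsProper p ∧ IsOpenImmersion j ∧
      DenseRange j.base ∧ j ≫ p = f ∧
      ∀ i, closure (j.base '' C₁ i) ∩ closure (j.base '' C₂ i) = ∅ := by
  obtain ⟨C⟩ := nonempty_dComp f
  haveI : IsLocallyNoetherian C.pt := LocallyOfFiniteType.isLocallyNoetherian C.g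
  haveI : CompactSpace C.pt := QuasiCompact.compactSpace_of_compactSpace C.g
  haveI : IsNoetherian C.pt := {}
  let U := C.j.opensRange
  let h : X → U := fun x => ⟨C.j x, x, rfl⟩
  have hemb := C.j.isOpenEmbedding
  have hclosed : ∀ A : Set X, IsClosed A → IsClosed (h '' A) := fun A hA => by
    refine ⟨?_⟩
    have : (h '' A)ᶜ = Subtype.val ⁻¹' (C.j '' Aᶜ) := by
      ext ⟨y, x, rfl⟩
      constructor
      · exact fun hy => ⟨x, fun hx => hy ⟨x, hx, rfl⟩, rfl⟩
      · rintro ⟨x', hx', he⟩ ⟨x'', hx'', he'⟩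
        exact hx' (hemb.injective (he.trans (congrArg Subtype.val he').symm) ▸ hx'')
    rw [this]
    exact (hemb.isOpenMap _ hA.isOpen_compl).preimage continuous_subtype_val
  obtain ⟨K, hK⟩ := exists_adm_separating U (fun i => h '' C₁ i) (fun i => h '' C₂ i)
    (fun i => hclosed _ (h₁ i)) (fun i => hclosed _ (h₂ i)) fun i => by
      rw [Set.disjoint_left]
      rintro _ ⟨x, hx, rfl⟩ ⟨x', hx', he⟩
      exact (hd i).le ⟨hx, hemb.injective (congrArg Subtype.val he) ▸ hx'⟩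
  obtain ⟨j, -, hj, hjπ, hr, hjg, -⟩ := exists_dComp_blowUp C K
  haveI := hj
  haveI : IsSchemeTheoreticallyDominant j := by
    obtain ⟨hj', hd'⟩ := lift_adm C.j K j hjπ
    exact hd'
  haveI : QuasiCompact j := by
    haveI : QuasiCompact (j ≫ K.π) := by rw [hjπ]; infer_instance
    exact QuasiCompact.of_comp j K.π
  refine ⟨K.obj, j, K.π ≫ C.g, inferInstance, hj, j.denseRange, hjg,
    fun i => Set.disjoint_iff_inter_eq_empty.1 ((hK i).mono ?_ ?_)⟩
  all_goals
    refine closure_mono ?_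
    rintro _ ⟨x, hx, rfl⟩
    refine ⟨h x, ⟨x, hx, rfl⟩, ?_⟩
    show C.j x = K.π (j x)
    rw [← Scheme.Hom.comp_apply, hjπ]

/-- A compactification of a correspondence. -/
theorem exists_correspondence {C Xb₁ Xb₂ : Scheme.{u}} [CompactSpace S] [QuasiSeparatedSpace S]
    (pC : C ⟶ S) [IsSeparated pC] [QuasiCompact pC] [LocallyOfFiniteType pC]
    (p₁ : Xb₁ ⟶ S) (p₂ : Xb₂ ⟶ S) [IsProper p₁] [IsProper p₂]
    (a₁ : C ⟶ Xb₁) (a₂ : C ⟶ Xb₂) (h₁ : a₁ ≫ p₁ = pC) (h₂ : a₂ ≫ p₂ = pC) :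
    ∃ (Cb : Scheme.{u}) (pCb : Cb ⟶ S) (j : C ⟶ Cb) (cb₁ : Cb ⟶ Xb₁) (cb₂ : Cb ⟶ Xb₂),
      IsProper pCb ∧ IsOpenImmersion j ∧ DenseRange j.base ∧ j ≫ pCb = pC ∧
      cb₁ ≫ p₁ = pCb ∧ cb₂ ≫ p₂ = pCb ∧ j ≫ cb₁ = a₁ ∧ j ≫ cb₂ = a₂ := by
  obtain ⟨Y, i, g, hi, hiqc, hg, e⟩ := exists_compactification pC
  let P := pullback p₁ p₂
  let q : P ⟶ S := pullback.fst p₁ p₂ ≫ p₁
  let t : C ⟶ pullback g q := pullback.lift i (pullback.lift a₁ a₂ (h₁.trans h₂.symm))
    (by simp only [q]; rw [pullback.lift_fst_assoc, e, h₁])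
  obtain ⟨hto, -⟩ := closure_graph (pullback.fst g q) i t (pullback.lift_fst _ _ _)
  haveI := hto
  haveI : QuasiCompact t := by
    haveI : QuasiCompact (t ≫ pullback.fst g q) := by rw [pullback.lift_fst]; infer_instance
    exact QuasiCompact.of_comp t (pullback.fst g q)
  haveI := Groth.Agent.Triage.SchDense.isSchemeTheoreticallyDominant_toImage t
  haveI : QuasiCompact t.toImage := by
    haveI : QuasiCompact (t.toImage ≫ t.imageι) := by rwa [t.toImage_imageι]
    exact QuasiCompact.of_comp t.toImage t.imageι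
  refine ⟨t.image, t.imageι ≫ pullback.fst g q ≫ g, t.toImage,
    t.imageι ≫ pullback.snd g q ≫ pullback.fst p₁ p₂, t.imageι ≫ pullback.snd g q ≫ pullback.snd p₁ p₂,
    inferInstance, hto, t.toImage.denseRange, ?_, ?_, ?_, ?_, ?_⟩
  · rw [Scheme.Hom.toImage_imageι_assoc, pullback.lift_fst_assoc, e]
  · simp only [q, Category.assoc, pullback.condition]
  · simp only [q, Category.assoc, pullback.condition]
  · rw [Scheme.Hom.toImage_imageι_assoc, pullback.lift_snd_assoc, pullback.lift_fst]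
  · rw [Scheme.Hom.toImage_imageι_assoc, pullback.lift_snd_assoc, pullback.lift_snd]

end Groth.Agent.NagataLib.ExtendFree
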