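import Groth.Agent.NagataLib.ExtendProjective
import Groth.Agent.NagataLib.Birat
import Groth.Agent.NagataLib.IsoNear
import Groth.Agent.S1694

/-!
# Chow's lemma by an admissible blow-up
-/

universe u

set_option autoImplicit false
set_option linter.style.haveILetI false
set_option backward.isDefEq.respectTransparency false
set_option backward.isDefEq.respectTransparency.types false

open CategoryTheory CategoryTheory.Limits AlgebraicGeometry TopologicalSpace Opposite
open Scheme (IdealSheafData)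

namespace Groth.Agent.NagataLib.ExtendFree

theorem preimage_eq_range {U Z X : Scheme.{u}} (t : U ⟶ Z) [IsOpenImmersion t] (r : Z ⟶ X) (j : U ⟶ X)
    [IsOpenImmersion j] (h : t ≫ r = j) (O : X.Opens) (hO : j.opensRange = O) [IsIso (r ∣_ O)] :
    r ⁻¹ᵁ O = t.opensRange := by
  refine le_antisymm (fun z hz => ?_) ?_
  · obtain ⟨x, hx⟩ : r z ∈ Set.range j := by
      have h' : r z ∈ O := hz
      rw [← hO] at h'; exact h'
    have h2 : r (t x) = r z := by rw [← Scheme.Hom.comp_apply, h, hx]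
    have htx : t x ∈ r ⁻¹ᵁ O := by show r (t x) ∈ O; rw [h2]; exact hz
    have hinj := (r ∣_ O).isOpenEmbedding.injective (a₁ := ⟨t x, htx⟩) (a₂ := ⟨z, hz⟩)
      (Subtype.ext (by
        rw [morphismRestrict_base]
        exact h2))
    exact ⟨x, congrArg Subtype.val hinj⟩
  · rintro _ ⟨x, rfl⟩
    show r (t x) ∈ O
    rw [← Scheme.Hom.comp_apply, h, ← hO]
    exact ⟨x, rfl⟩

/-- A finite type separated scheme with a quasi-projective open becomes, after blowing up away from
the open, open in a projective scheme. -/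
theorem exists_chow_blowUp {X S : Scheme.{u}} [CompactSpace S] [QuasiSeparatedSpace S]
    (f : X ⟶ S) [IsSeparated f] [QuasiCompact f] [LocallyOfFiniteType f]
    (U : X.Opens) (hU : IsCompact (U : Set X))
    (hq : RelProj.IsQuasiProjective (U.ι ≫ f)) :
    ∃ (𝓘 : X.IdealSheafData) (X' P : Scheme.{u}) (q : X' ⟶ X) (j : X' ⟶ P) (g : P ⟶ S),
      BlowUp.IsBlowUp q 𝓘 ∧ BlowUp.IsAdmissibleFor U 𝓘 ∧ RelProj.IsProjective g ∧
      IsOpenImmersion j ∧ IsDominant j ∧ j ≫ g = q ≫ f := by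
  haveI : CompactSpace X := QuasiCompact.compactSpace_of_compactSpace f
  haveI : QuasiSeparatedSpace X := quasiSeparatedSpace_of_quasiSeparated f
  haveI : CompactSpace U := isCompact_iff_compactSpace.1 hU
  haveI : QuasiCompact U.ι := quasiCompact_of_compactSpace _
  obtain ⟨C₀, hg₀⟩ := exists_dComp_projective (U.ι ≫ f) hq
  let t : (U : Scheme.{u}) ⟶ pullback f C₀.g := pullback.lift U.ι C₀.j C₀.fac.symm
  obtain ⟨hto, hr⟩ := closure_graph (pullback.fst f C₀.g) U.ι t (pullback.lift_fst _ _ _)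
  obtain ⟨-, hr₂⟩ := closure_graph (pullback.snd f C₀.g) C₀.j t (pullback.lift_snd _ _ _)
  haveI := hto
  haveI := hr₂
  let r : t.image ⟶ X := t.imageι ≫ pullback.fst f C₀.g
  let r₂ : t.image ⟶ C₀.pt := t.imageι ≫ pullback.snd f C₀.g
  haveI : IsIso (r ∣_ U) := by
    have := hr
    rwa [Scheme.Opens.opensRange_ι] at this
  haveI : IsIso (r₂ ∣_ C₀.j.opensRange) := hr₂
  have e₁ : t.toImage ≫ r = U.ι := by
    simp only [r, Scheme.Hom.toImage_imageι_assoc, t, pullback.lift_fst]
  have e₂ : t.toImage ≫ r₂ = C₀.j := by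
    simp only [r₂, Scheme.Hom.toImage_imageι_assoc, t, pullback.lift_snd]
  have hpre : r₂ ⁻¹ᵁ C₀.j.opensRange = r ⁻¹ᵁ U := by
    rw [preimage_eq_range t.toImage r₂ C₀.j e₂ _ rfl,
      preimage_eq_range t.toImage r U.ι e₁ _ U.opensRange_ι]
  obtain ⟨K, s, hs⟩ := exists_section_blowUp r U hU
  let m : K.obj ⟶ C₀.pt := s ≫ r₂
  have hm : m ≫ C₀.g = K.π ≫ f := by
    simp only [m, r₂, Category.assoc, ← pullback.condition]
    rw [← hs]
    simp only [r, Category.assoc]
  haveI : IsSeparated (m ≫ C₀.g) := by rw [hm]; infer_instance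
  haveI : LocallyOfFiniteType (m ≫ C₀.g) := by rw [hm]; infer_instance
  haveI : QuasiCompact (m ≫ C₀.g) := by rw [hm]; infer_instance
  haveI : IsSeparated m := IsSeparated.of_comp m C₀.g
  haveI : LocallyOfFiniteType m := locallyOfFiniteType_of_comp m C₀.g
  haveI : QuasiCompact m := QuasiCompact.of_comp m C₀.g
  haveI : CompactSpace C₀.pt := QuasiCompact.compactSpace_of_compactSpace C₀.g
  haveI : QuasiSeparatedSpace C₀.pt := quasiSeparatedSpace_of_quasiSeparated C₀.g
  have hsU : IsIso (s ∣_ (r ⁻¹ᵁ U)) := by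
    have : IsIso ((s ≫ r) ∣_ U) := by rw [hs]; infer_instance
    rw [morphismRestrict_comp] at this
    exact IsIso.of_isIso_comp_right _ (r ∣_ U)
  haveI : IsIso (s ∣_ (r₂ ⁻¹ᵁ C₀.j.opensRange)) := by rw [hpre]; exact hsU
  haveI : IsIso (m ∣_ C₀.j.opensRange) := by
    simp only [m]
    rw [morphismRestrict_comp]
    infer_instance
  have hOc : IsCompact (C₀.j.opensRange : Set C₀.pt) := by
    rw [Scheme.Hom.coe_opensRange]
    exact isCompact_range C₀.j.continuous
  obtain ⟨K', hK', hrange⟩ := exists_adm_openImmersion m C₀.j.opensRange hOc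
  let A := ZRLim.Bir.pull m K'
  obtain ⟨𝓚, hft, hsupp, hblow⟩ := Groth.Agent.S1694.result X K.1 K.2.1 K.π K.isBlowUp A.1 A.2.1 A.π
    A.isBlowUp
  refine ⟨𝓚, A.obj, K'.obj, A.π ≫ K.π, ZRLim.Bir.q m K', K'.π ≫ C₀.g, hblow, ⟨hft, ?_⟩, ?_, hK', ⟨?_⟩, ?_⟩
  · rw [hsupp, Set.disjoint_union_left]
    refine ⟨by rw [K.2.2]; exact disjoint_compl_left, Set.disjoint_left.2 ?_⟩
    rintro _ ⟨z, hz, rfl⟩ hzU
    rw [A.2.2] at hz
    refine hz (show m z ∈ C₀.j.opensRange from ?_)
    show r₂ (s z) ∈ C₀.j.opensRange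
    have : s z ∈ r ⁻¹ᵁ U := by
      show r (s z) ∈ U
      rw [← Scheme.Hom.comp_apply, hs]; exact hzU
    rw [← hpre] at this; exact this
  · exact Groth.Agent.S9708.result K'.π C₀.g (BlowUpX.isProjective_of_isBlowUp K'.isBlowUp K'.2.1) hg₀
  · exact fun z => closure_mono (fun w hw => hrange w hw) (dense_preimage_adm K' z)
  · rw [← Category.assoc, ZRLim.Bir.q_π, Category.assoc, hm, Category.assoc]

end Groth.Agent.NagataLib.ExtendFree
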