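import Groth.Agent.NagataLib.Stage

/-!
# Contracting the modification of the second piece
-/

universe u

set_option autoImplicit false
set_option linter.style.haveILetI false
set_option backward.isDefEq.respectTransparency false
set_option backward.isDefEq.respectTransparency.types false

open CategoryTheory CategoryTheory.Limits AlgebraicGeometry TopologicalSpace
open Scheme (IdealSheafData)

namespace Groth.Agent.NagataLib

variable {S U : Scheme.{u}} {g : U ⟶ S} {U₁ U₂ : U.Opens} {Y₂ : Scheme.{u}}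
  (j₂ : (U₂ : Scheme.{u}) ⟶ Y₂) [IsOpenImmersion j₂]

namespace Pre.Sep

/-- An auxiliary modification of `Y` resolving the map to the compactification of `U₂`. -/
structure Res (D : Pre g U₁ U₂) (sp : D.Sep) (p₂ : Y₂ ⟶ S) (φ : (sp.B : Scheme.{u}) ⟶ Y₂) where
  K : ZRLim.Adm sp.B
  h : K.obj ⟶ Y₂
  h_over : h ≫ p₂ = K.π ≫ D.gY
  h_eq : (K.π ⁻¹ᵁ sp.B).ι ≫ h = (K.π ∣_ sp.B) ≫ φ
  mem : ∀ t, h t ∈ j₂.opensRange → K.π t ∈ D.P

theorem exists_res [IsNoetherian S] [IsSeparated g] (D : Pre g U₁ U₂) (sp : D.Sep) (p₂ : Y₂ ⟶ S)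
    [IsProper p₂] (h₂ : j₂ ≫ p₂ = U₂.ι ≫ g) (φ : (sp.B : Scheme.{u}) ⟶ Y₂)
    (hφ : φ ≫ p₂ = sp.B.ι ≫ D.gY) (hφP : D.Y.homOfLE sp.le_B ≫ φ = D.πP ≫ j₂) :
    Nonempty (Res j₂ D sp p₂ φ) := by
  haveI := D.isNoetherian
  obtain ⟨K, h, hK, hKs⟩ := exists_extend D.gY p₂ sp.B (NoetherianSpace.isCompact _) φ hφ
  refine ⟨⟨K, h, hK, hKs, fun t ht => ?_⟩⟩
  haveI := K.isIso_restrict
  let R₂ := j₂.opensRange
  let O : K.obj.Opens := h ⁻¹ᵁ R₂
  let P' : K.obj.Opens := K.π ⁻¹ᵁ D.P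
  let a : (P' : Scheme.{u}) ⟶ ((K.π ⁻¹ᵁ sp.B : K.obj.Opens) : Scheme.{u}) :=
    K.obj.homOfLE (fun _ hx => sp.le_B hx)
  have ha : a ≫ (K.π ∣_ sp.B) = (K.π ∣_ D.P) ≫ D.Y.homOfLE sp.le_B := by
    rw [← cancel_mono sp.B.ι]
    simp only [a, Category.assoc, morphismRestrict_ι, Scheme.homOfLE_ι, Scheme.homOfLE_ι_assoc]
    rfl
  have e : P'.ι ≫ h = (K.π ∣_ D.P) ≫ D.πP ≫ j₂ := by
    rw [← Scheme.homOfLE_ι K.obj (show P' ≤ K.π ⁻¹ᵁ sp.B from fun _ hx => sp.le_B hx), Category.assoc, hKs,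
      ← Category.assoc]
    erw [ha]
    rw [Category.assoc, hφP]
  have hPO : P' ≤ O := fun x hx => by
    refine ⟨D.πP ((K.π ∣_ D.P) ⟨x, hx⟩), ?_⟩
    exact (congrArg (fun φ => φ ⟨x, hx⟩) e).symm
  let i : (P' : Scheme.{u}) ⟶ (O : Scheme.{u}) := K.obj.homOfLE hPO
  have hi : i ≫ (h ∣_ R₂) = ((K.π ∣_ D.P) ≫ D.πP) ≫ j₂.isoOpensRange.hom := by
    rw [← cancel_mono R₂.ι, Category.assoc, morphismRestrict_ι, Scheme.homOfLE_ι_assoc]
    simp only [R₂, Category.assoc, Scheme.Hom.isoOpensRange_hom_ι]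
    exact e
  haveI : IsIso (K.π ∣_ D.P) := isIso_restrict_of_disjoint K.isBlowUp D.P (by
    rw [K.2.2]
    exact Set.disjoint_left.2 fun x hx hx' => hx (sp.le_B hx'))
  haveI : IsSeparated h := by
    haveI := BlowUpLib.isProper_of_isBlowUp K.1 K.isBlowUp K.2.1
    haveI : IsSeparated (h ≫ p₂) := by rw [hK]; infer_instance
    exact IsSeparated.of_comp h p₂
  haveI : IsProper i := by
    haveI : IsProper (i ≫ (h ∣_ R₂)) := by rw [hi]; infer_instance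
    haveI : IsSeparated (h ∣_ R₂) := inferInstance
    exact IsProper.of_comp i (h ∣_ R₂)
  have hd : Dense (P' : Set K.obj) :=
    (dense_preimage K.π sp.B (dense_preimage_adm K) (D.A ⊓ D.P) D.dense).mono fun x hx => hx.2
  have hrange : Dense (Set.range i) := by
    have e2 : Set.range i = O.ι ⁻¹' (P' : Set K.obj) := by
      refine subset_antisymm ?_ fun q hq => ⟨⟨q.1, hq⟩, Subtype.ext (Scheme.homOfLE_apply _ _)⟩
      rintro _ ⟨q, rfl⟩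
      show (i q).1 ∈ P'
      rw [show (i q).1 = q.1 from Scheme.homOfLE_apply _ _]
      exact q.2
    rw [e2]
    exact hd.preimage O.ι.isOpenEmbedding.isOpenMap
  have h1 : (⟨t, ht⟩ : O) ∈ Set.range i := by
    rw [← i.isClosedMap.isClosed_range.closure_eq]
    exact hrange _
  obtain ⟨q, hq⟩ := h1
  have : q.1 = t := (Scheme.homOfLE_apply _ _).symm.trans (congrArg Subtype.val hq)
  exact this ▸ q.2

/-- The data needed for the final gluing. -/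
structure Target (g : U ⟶ S) (U₁ U₂ : U.Opens) where
  D : Pre g U₁ U₂
  sp : D.Sep
  Z : Scheme.{u}
  pZ : Z ⟶ S
  properZ : IsProper pZ
  k : (U₂ : Scheme.{u}) ⟶ Z
  openK : IsOpenImmersion k
  k_over : k ≫ pZ = U₂.ι ≫ g
  denseK : Dense (Set.range k)
  ψ : (sp.B : Scheme.{u}) ⟶ Z
  ψ_over : ψ ≫ pZ = sp.B.ι ≫ D.gY
  ψ_P : D.Y.homOfLE sp.le_B ≫ ψ = D.πP ≫ k
  openN : IsOpenImmersion (D.Y.homOfLE (inf_le_right : sp.Ω ⊓ sp.B ≤ sp.B) ≫ ψ)
  O₂ : Z.Opens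
  k_le : Set.range k ⊆ (O₂ : Set Z)
  boundary : ∀ z : sp.B, z.1 ∉ sp.Ω → ψ z ∈ O₂
  limit : ∀ (h : (sp.Ω ⊓ sp.B : D.Y.Opens).ι ≫ D.gY =
      (D.Y.homOfLE (inf_le_right : sp.Ω ⊓ sp.B ≤ sp.B) ≫ ψ) ≫ pZ) (ζ : ↥(pullback D.gY pZ)),
      ζ ∈ closure (Set.range (pullback.lift _ _ h)) → pullback.fst D.gY pZ ζ ∈ sp.Ω →
      pullback.fst D.gY pZ ζ ∉ sp.B → pullback.snd D.gY pZ ζ ∉ O₂

/-- The Zariski-Riemann modification of the glued target. -/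
structure Lifted {D : Pre g U₁ U₂} {sp : D.Sep} {p₂ : Y₂ ⟶ S} {φ : (sp.B : Scheme.{u}) ⟶ Y₂}
    (r : Res j₂ D sp p₂ φ) where
  X : Scheme.{u}
  f : X ⟶ Y₂
  inl : ((r.K.π ⁻¹ᵁ sp.Ω : r.K.obj.Opens) : Scheme.{u}) ⟶ X
  inr : (U₂ : Scheme.{u}) ⟶ X
  open_inl : IsOpenImmersion inl
  open_inr : IsOpenImmersion inr
  f_inl : inl ≫ f = (r.K.π ⁻¹ᵁ sp.Ω).ι ≫ r.h
  f_inr : inr ≫ f = j₂
  pre : f ⁻¹ᵁ j₂.opensRange = inr.opensRange
  inter : ∀ t, inl t ∈ inr.opensRange → r.K.π t.1 ∈ D.P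
  isoR : IsIso (f ∣_ j₂.opensRange)
  ft : LocallyOfFiniteType f
  K₂ : ZRLim.Adm j₂.opensRange
  openQ : IsOpenImmersion (ZRLim.Bir.q f K₂)

theorem exists_lifted [IsNoetherian S] [IsSeparated g] {D : Pre g U₁ U₂} {sp : D.Sep} {p₂ : Y₂ ⟶ S}
    [IsProper p₂] {φ : (sp.B : Scheme.{u}) ⟶ Y₂}
    (hφP : D.Y.homOfLE sp.le_B ≫ φ = D.πP ≫ j₂) (r : Res j₂ D sp p₂ φ) : Nonempty (Lifted j₂ r) := by
  haveI := D.isNoetherian
  haveI : IsLocallyNoetherian Y₂ := LocallyOfFiniteType.isLocallyNoetherian p₂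
  haveI : CompactSpace Y₂ := QuasiCompact.compactSpace_of_compactSpace p₂
  haveI : IsNoetherian Y₂ := by constructor
  haveI : IsProper r.K.π := BlowUpLib.isProper_of_isBlowUp _ r.K.isBlowUp r.K.2.1
  haveI : IsSeparated r.h := by
    haveI : IsSeparated (r.h ≫ p₂) := by rw [r.h_over]; infer_instance
    exact IsSeparated.of_comp r.h p₂
  haveI : LocallyOfFiniteType r.h := by
    haveI : LocallyOfFiniteType (r.h ≫ p₂) := by rw [r.h_over]; infer_instance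
    exact locallyOfFiniteType_of_comp r.h p₂
  have hiso : ∀ O : D.Y.Opens, O ≤ sp.B → IsIso (r.K.π ∣_ O) := fun O hO =>
    isIso_restrict_of_disjoint r.K.isBlowUp O (by
      rw [r.K.2.2]
      exact Set.disjoint_left.2 fun x hx hx' => hx (hO hx'))
  haveI := hiso D.P sp.le_B
  let TΩ : r.K.obj.Opens := r.K.π ⁻¹ᵁ sp.Ω
  let hT : (TΩ : Scheme.{u}) ⟶ Y₂ := TΩ.ι ≫ r.h
  let N : (TΩ : Scheme.{u}).Opens := TΩ.ι ⁻¹ᵁ (r.K.π ⁻¹ᵁ (sp.Ω ⊓ D.P))
  let nP : (N : Scheme.{u}) ⟶ ((r.K.π ⁻¹ᵁ D.P : r.K.obj.Opens) : Scheme.{u}) :=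
    TΩ.ι.resLE (r.K.π ⁻¹ᵁ D.P) N fun _ hx => hx.2
  let b : (N : Scheme.{u}) ⟶ (U₂ : Scheme.{u}) := nP ≫ (r.K.π ∣_ D.P) ≫ D.πP
  have hnP : nP ≫ (r.K.π ⁻¹ᵁ D.P).ι = N.ι ≫ TΩ.ι := Scheme.Hom.resLE_comp_ι _ _
  haveI : IsOpenImmersion b := by
    let nAP : (N : Scheme.{u}) ⟶ ((D.A ⊓ D.P : D.Y.Opens) : Scheme.{u}) :=
      IsOpenImmersion.lift (D.A ⊓ D.P).ι (nP ≫ (r.K.π ∣_ D.P) ≫ D.P.ι) (by
        rintro _ ⟨x, rfl⟩
        rw [Scheme.Opens.range_ι]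
        have e : (nP ≫ (r.K.π ∣_ D.P) ≫ D.P.ι) x = r.K.π (TΩ.ι (N.ι x)) := by
          rw [morphismRestrict_ι, reassoc_of% hnP]; rfl
        rw [e]
        exact ⟨sp.inf_Ω ⟨x.2.1, x.2.2⟩, x.2.2⟩)
    have hn : nAP ≫ (D.A ⊓ D.P).ι = nP ≫ (r.K.π ∣_ D.P) ≫ D.P.ι := IsOpenImmersion.lift_fac _ _ _
    have hn2 : nAP ≫ D.Y.homOfLE inf_le_right = nP ≫ (r.K.π ∣_ D.P) := by
      rw [← cancel_mono D.P.ι, Category.assoc, Scheme.homOfLE_ι, hn, Category.assoc]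
    haveI : IsOpenImmersion nP := by
      haveI : IsOpenImmersion (nP ≫ (r.K.π ⁻¹ᵁ D.P).ι) := by rw [hnP]; infer_instance
      exact IsOpenImmersion.of_comp (f := nP) (g := (r.K.π ⁻¹ᵁ D.P).ι)
    haveI : IsOpenImmersion nAP := by
      haveI : IsOpenImmersion (nAP ≫ D.Y.homOfLE (inf_le_right : D.A ⊓ D.P ≤ D.P)) := by
        rw [hn2]; infer_instance
      exact IsOpenImmersion.of_comp (f := nAP) (g := D.Y.homOfLE (inf_le_right : D.A ⊓ D.P ≤ D.P))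
    haveI : IsOpenImmersion (b ≫ U₂.ι) := by
      rw [show b ≫ U₂.ι = nAP ≫ D.Y.homOfLE inf_le_left ≫ D.πA ≫ U₁.ι by
        rw [D.agree, reassoc_of% hn2]; simp only [b, Category.assoc]]
      infer_instance
    exact IsOpenImmersion.of_comp (f := b) (g := U₂.ι)
  have hw : N.ι ≫ hT = b ≫ j₂ := by
    let a : ((r.K.π ⁻¹ᵁ D.P : r.K.obj.Opens) : Scheme.{u}) ⟶
        ((r.K.π ⁻¹ᵁ sp.B : r.K.obj.Opens) : Scheme.{u}) :=
      r.K.obj.homOfLE (fun _ hx => sp.le_B hx)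
    have ha : a ≫ (r.K.π ∣_ sp.B) = (r.K.π ∣_ D.P) ≫ D.Y.homOfLE sp.le_B := by
      rw [← cancel_mono sp.B.ι]
      simp only [a, Category.assoc, morphismRestrict_ι, Scheme.homOfLE_ι, Scheme.homOfLE_ι_assoc]
    have e : (r.K.π ⁻¹ᵁ D.P).ι = a ≫ (r.K.π ⁻¹ᵁ sp.B).ι := (Scheme.homOfLE_ι _ _).symm
    simp only [hT, b, ← reassoc_of% hnP, e, Category.assoc, r.h_eq, reassoc_of% ha, hφP]
  have hMN : ∀ t : TΩ, hT t ∈ j₂.opensRange → t ∈ N := fun t ht => ⟨t.2, r.mem _ ht⟩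
  let Xp := glue N.ι b
  let f : Xp ⟶ Y₂ := glueDesc hw
  haveI : IsSeparated f := isSeparated_glue hw (by
    have hsur : Set.range (pullback.lift N.ι b hw) = Set.univ := Set.eq_univ_of_forall fun z => by
      let i := pullback.fst hT j₂
      have hz : i z ∈ N := hMN _ ⟨pullback.snd hT j₂ z, by
        rw [← Scheme.Hom.comp_apply, ← pullback.condition]; rfl⟩
      refine ⟨⟨i z, hz⟩, i.isOpenEmbedding.injective ?_⟩
      rw [← Scheme.Hom.comp_apply, pullback.lift_fst]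
      rfl
    rw [hsur]
    exact isClosed_univ)
  haveI : LocallyOfFiniteType f := locallyOfFiniteType_glue hw
  haveI : CompactSpace (TΩ : Scheme.{u}) := by
    haveI : IsLocallyNoetherian r.K.obj := LocallyOfFiniteType.isLocallyNoetherian r.K.π
    haveI : IsNoetherian r.K.obj := by constructor
    exact isCompact_iff_compactSpace.mp (NoetherianSpace.isCompact _)
  haveI : CompactSpace (U₂ : Scheme.{u}) := by
    haveI : IsLocallyNoetherian (U₂ : Scheme.{u}) := LocallyOfFiniteType.isLocallyNoetherian (j₂ ≫ p₂)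
    exact isCompact_univ_iff.1 (by
      rw [j₂.isOpenEmbedding.isEmbedding.isCompact_iff, Set.image_univ]
      exact NoetherianSpace.isCompact _)
  haveI : CompactSpace Xp := compactSpace_glue
  haveI : QuasiCompact f := quasiCompact_of_compactSpace f
  have hinr : pushout.inr N.ι b ≫ f = j₂ := inr_glueDesc hw
  haveI : IsOpenImmersion (pushout.inr N.ι b ≫ f) := by rw [hinr]; infer_instance
  let R₂ := (pushout.inr N.ι b ≫ f).opensRange
  have hR₂ : R₂ = j₂.opensRange := by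
    refine TopologicalSpace.Opens.ext ?_
    show Set.range (pushout.inr N.ι b ≫ f) = Set.range j₂
    rw [hinr]
  have hfl : ∀ t, f (pushout.inl N.ι b t) = hT t := fun t => by
    rw [← Scheme.Hom.comp_apply, inl_glueDesc]
  have hpre : f ⁻¹ᵁ R₂ = (pushout.inr N.ι b).opensRange := by
    refine le_antisymm (fun x hx => ?_) ?_
    · rcases glue_cover N.ι b x with ⟨t, rfl⟩ | h
      · have ht : hT t ∈ j₂.opensRange := by
          rw [← hR₂, ← hfl t]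
          exact hx
        refine ⟨b ⟨t, hMN t ht⟩, ?_⟩
        rw [← Scheme.Hom.comp_apply, ← pushout.condition]
        rfl
      · exact h
    · rintro _ ⟨a, rfl⟩
      exact ⟨a, Scheme.Hom.comp_apply _ _ _⟩
  haveI : IsIso (f ∣_ R₂) := isIso_restrict_opensRange (pushout.inr N.ι b) f hpre
  have hR₂' : j₂.opensRange = R₂ := hR₂.symm
  haveI : IsIso (f ∣_ j₂.opensRange) := by rw [hR₂']; infer_instance
  obtain ⟨K₂, hK₂⟩ := ZRLim.Bir.exists_isOpenImmersion f (U := j₂.opensRange)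
    (NoetherianSpace.isCompact _)
  refine ⟨⟨Xp, f, pushout.inl N.ι b, pushout.inr N.ι b, inferInstance, inferInstance,
    inl_glueDesc hw, hinr, by rw [hR₂']; exact hpre, fun t ht => ?_, inferInstance, inferInstance,
    K₂, hK₂⟩⟩
  obtain ⟨y, hy⟩ := ht
  obtain ⟨n, hn, -⟩ := glue_inter N.ι b hy.symm
  rw [← hn]
  exact n.2.2

end Pre.Sep

end Groth.Agent.NagataLib
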