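import Groth.Agent.NagataLib.ExtendFamily
import Groth.Agent.NagataLib.Birat

/-!
# Quasi-dominations extending a finite locally free module
-/

universe u

set_option autoImplicit false
set_option linter.style.haveILetI false
set_option backward.isDefEq.respectTransparency false
set_option backward.isDefEq.respectTransparency.types false

open CategoryTheory CategoryTheory.Limits AlgebraicGeometry TopologicalSpace Opposite

namespace Groth.Agent.NagataLib.ExtendFree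

open Groth.Agent.QCoh

/-- A finite locally free module on an open extends after a proper modification over that open. -/
theorem exists_modification {X : Scheme.{u}} [IsNoetherian X] (U : X.Opens) (G₀ : (U : Scheme.{u}).Modules)
    (hG₀ : FlatMod.IsFinLocFree G₀) :
    ∃ (X' : Scheme.{u}) (π : X' ⟶ X) (E' : X'.Modules), IsProper π ∧ IsIso (π ∣_ U) ∧
      IsSchemeTheoreticallyDominant (π ⁻¹ᵁ U).ι ∧ FlatMod.IsFinLocFree E' ∧
      Nonempty ((Scheme.Modules.pullback (π ⁻¹ᵁ U).ι).obj E' ≅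
        (Scheme.Modules.pullback (π ∣_ U)).obj G₀) := by
  obtain ⟨F, hF, hft, ⟨eF⟩⟩ := exists_extension_abs (extStep_qcqs (U := U) (NoetherianSpace.isCompact _))
    G₀ (isQCoh_of_isFinLocFree hG₀) (isFT_of_isFP (isFP_of_isFinLocFree hG₀))
  obtain ⟨K, G, hG, ⟨eG⟩⟩ := exists_blowUp_extension U F hF hft (isFinLocFree_of_iso' eF.symm hG₀)
  exact ⟨K.obj, K.π, G, inferInstance, inferInstance, inferInstance, hG,
    ⟨((Scheme.Modules.restrictFunctorIsoPullback _).app G).symm ≪≫ eG ≪≫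
      (Scheme.Modules.restrictFunctorIsoPullback _).app _ ≪≫
      (Scheme.Modules.pullbackComp (K.π ⁻¹ᵁ U).ι K.π).app F ≪≫
      (Scheme.Modules.pullbackCongr (morphismRestrict_ι K.π U).symm).app F ≪≫
      (Scheme.Modules.pullbackComp (K.π ∣_ U) U.ι).symm.app F ≪≫
      (Scheme.Modules.pullback (K.π ∣_ U)).mapIso
        (((Scheme.Modules.restrictFunctorIsoPullback U.ι).app F).symm ≪≫ eF)⟩⟩

/-- The graph of a morphism to a separated compactification, over the preimage of an open, is closed. -/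
theorem isClosed_graph {S Z Y V : Scheme.{u}} (p : Z ⟶ S) (g : Y ⟶ S) [IsSeparated g] (m : Z ⟶ Y)
    (hm : m ≫ g = p) (a : V ⟶ Y) [IsOpenImmersion a] (W : Z.Opens) (hW : m ⁻¹ᵁ a.opensRange ≤ W)
    (φ : (W : Scheme.{u}) ⟶ V) (hφ : φ ≫ a = W.ι ≫ m) (h : W.ι ≫ p = φ ≫ a ≫ g) :
    IsClosed (Set.range (pullback.lift (f := p) (g := a ≫ g) W.ι φ h)) := by
  let P := pullback p (a ≫ g)
  let δ : P ⟶ pullback g g := pullback.lift (pullback.fst p (a ≫ g) ≫ m) (pullback.snd p (a ≫ g) ≫ a)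
    (by rw [Category.assoc, hm, pullback.condition, Category.assoc])
  let e := pullback.snd (pullback.diagonal g) δ
  let G := pullback.lift (f := p) (g := a ≫ g) W.ι φ h
  suffices Set.range G = Set.range e by rw [this]; exact e.isClosedMap.isClosed_range
  have hδ : ∀ {T : Scheme.{u}} (c : T ⟶ pullback (pullback.diagonal g) δ),
      c ≫ e ≫ pullback.fst p (a ≫ g) ≫ m = c ≫ e ≫ pullback.snd p (a ≫ g) ≫ a := by
    intro T c
    have h1 := congrArg (fun z => c ≫ z ≫ pullback.fst g g) (pullback.condition (f := pullback.diagonal g) (g := δ))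
    have h2 := congrArg (fun z => c ≫ z ≫ pullback.snd g g) (pullback.condition (f := pullback.diagonal g) (g := δ))
    simp only [Category.assoc, pullback.diagonal_fst, pullback.diagonal_snd, Category.comp_id, δ,
      pullback.lift_fst, pullback.lift_snd] at h1 h2
    exact h1.symm.trans h2
  have hG : ∃ c, c ≫ e = G := ⟨pullback.lift (W.ι ≫ m) G (by
    refine pullback.hom_ext ?_ ?_
    · simp [δ, G, pullback.lift_fst, pullback.lift_fst_assoc]
    · simp [δ, G, pullback.lift_snd, pullback.lift_snd_assoc, hφ]), pullback.lift_snd _ _ _⟩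
  have he : ∃ w, w ≫ G = e := by
    have hr : Set.range (e ≫ pullback.fst p (a ≫ g)) ⊆ Set.range W.ι := by
      rintro _ ⟨q, rfl⟩
      rw [Scheme.Opens.range_ι]
      refine hW (show m ((e ≫ pullback.fst p (a ≫ g)) q) ∈ Set.range a from ⟨(e ≫ pullback.snd p (a ≫ g)) q, ?_⟩)
      have := hδ (𝟙 _)
      simp only [Category.id_comp] at this
      rw [← Scheme.Hom.comp_apply, ← Scheme.Hom.comp_apply, Category.assoc, Category.assoc, this]
    refine ⟨IsOpenImmersion.lift W.ι _ hr, pullback.hom_ext ?_ ?_⟩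
    · simp [G, pullback.lift_fst]
    · rw [Category.assoc, pullback.lift_snd, ← cancel_mono a, Category.assoc, hφ,
        IsOpenImmersion.lift_fac_assoc]
      have := hδ (𝟙 _)
      simp only [Category.id_comp, Category.assoc] at this ⊢
      exact this
  obtain ⟨c, hc⟩ := hG
  obtain ⟨w, hw⟩ := he
  refine subset_antisymm ?_ ?_
  · rintro _ ⟨x, rfl⟩
    exact ⟨c x, by rw [← Scheme.Hom.comp_apply, hc]⟩
  · rintro _ ⟨x, rfl⟩
    exact ⟨w x, by rw [← Scheme.Hom.comp_apply, hw]⟩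

/-- A common target of two quasi-dominations over which a module extends. -/
theorem exists_quasiDominations {S X₁ X₂ U : Scheme.{u}}
    [IsNoetherian S] (p₁ : X₁ ⟶ S) (p₂ : X₂ ⟶ S)
    [IsSeparated p₁] [QuasiCompact p₁] [LocallyOfFiniteType p₁]
    [IsSeparated p₂] [QuasiCompact p₂] [LocallyOfFiniteType p₂]
    (j₁ : U ⟶ X₁) (j₂ : U ⟶ X₂) [IsOpenImmersion j₁] [IsOpenImmersion j₂]
    (hj : j₁ ≫ p₁ = j₂ ≫ p₂) (E : U.Modules) (hE : FlatMod.IsFinLocFree E) :
    ∃ (X : Scheme.{u}) (p : X ⟶ S) (k : U ⟶ X) (E' : X.Modules),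
      IsSeparated p ∧ QuasiCompact p ∧ LocallyOfFiniteType p ∧ IsOpenImmersion k ∧ QuasiCompact k ∧
      IsSchemeTheoreticallyDominant k ∧ k ≫ p = j₁ ≫ p₁ ∧ FlatMod.IsFinLocFree E' ∧
      Nonempty ((Scheme.Modules.pullback k).obj E' ≅ E) ∧
      (∃ (W₁ : X.Opens) (φ₁ : (↑W₁ : Scheme.{u}) ⟶ X₁) (hφ₁ : W₁.ι ≫ p = φ₁ ≫ p₁) (l₁ : U ⟶ ↑W₁),
        IsSchemeTheoreticallyDominant W₁.ι ∧ IsProper φ₁ ∧ l₁ ≫ W₁.ι = k ∧ l₁ ≫ φ₁ = j₁ ∧
        IsClosed (Set.range (fun w => (Limits.pullback.lift W₁.ι φ₁ hφ₁) w))) ∧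
      (∃ (W₂ : X.Opens) (φ₂ : (↑W₂ : Scheme.{u}) ⟶ X₂) (hφ₂ : W₂.ι ≫ p = φ₂ ≫ p₂) (l₂ : U ⟶ ↑W₂),
        IsSchemeTheoreticallyDominant W₂.ι ∧ IsProper φ₂ ∧ l₂ ≫ W₂.ι = k ∧ l₂ ≫ φ₂ = j₂ ∧
        IsClosed (Set.range (fun w => (Limits.pullback.lift W₂.ι φ₂ hφ₂) w))) := by
  obtain ⟨Y₁, a₁, g₁, ha₁, -, hg₁, e₁⟩ := exists_compactification p₁
  obtain ⟨Y₂, a₂, g₂, ha₂, -, hg₂, e₂⟩ := exists_compactification p₂
  haveI : IsLocallyNoetherian Y₁ := LocallyOfFiniteType.isLocallyNoetherian g₁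
  haveI : CompactSpace Y₁ := QuasiCompact.compactSpace_of_compactSpace g₁
  haveI : IsNoetherian Y₁ := {}
  let t : U ⟶ pullback g₁ g₂ := pullback.lift (j₁ ≫ a₁) (j₂ ≫ a₂)
    (by rw [Category.assoc, e₁, Category.assoc, e₂, hj])
  haveI : QuasiCompact (j₁ ≫ a₁) := inferInstance
  obtain ⟨hto, -⟩ := closure_graph (pullback.fst g₁ g₂) (j₁ ≫ a₁) t (pullback.lift_fst _ _ _)
  haveI := hto
  haveI : QuasiCompact t := by
    haveI : QuasiCompact (t ≫ pullback.fst g₁ g₂) := by rw [pullback.lift_fst]; infer_instance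
    exact QuasiCompact.of_comp t (pullback.fst g₁ g₂)
  haveI := Groth.Agent.Triage.SchDense.isSchemeTheoreticallyDominant_toImage t
  haveI : QuasiCompact t.toImage := by
    haveI : QuasiCompact (t.toImage ≫ t.imageι) := by rwa [t.toImage_imageι]
    exact QuasiCompact.of_comp t.toImage t.imageι
  let C₀ : DComp (j₁ ≫ p₁) :=
    { pt := t.image, j := t.toImage, g := t.imageι ≫ pullback.fst g₁ g₂ ≫ g₁,
      fac := by rw [Scheme.Hom.toImage_imageι_assoc, pullback.lift_fst_assoc, Category.assoc, e₁] }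
  obtain ⟨C, ⟨E', hE', hiso⟩, -, b, I, -, -, hbg, hbj⟩ := exists_step C₀ E hE
  have key : ∀ {X₀ Y : Scheme.{u}} (a : X₀ ⟶ Y) (g : Y ⟶ S) (p₀ : X₀ ⟶ S) (j : U ⟶ X₀) (m : C.pt ⟶ Y)
      [IsOpenImmersion a] [IsProper g], a ≫ g = p₀ → m ≫ g = C.g → C.j ≫ m = j ≫ a →
      ∃ (W : C.pt.Opens) (φ : (↑W : Scheme.{u}) ⟶ X₀) (hφ : W.ι ≫ C.g = φ ≫ p₀) (l : U ⟶ ↑W),
        IsSchemeTheoreticallyDominant W.ι ∧ IsProper φ ∧ l ≫ W.ι = C.j ∧ l ≫ φ = j ∧
        IsClosed (Set.range (fun w => (Limits.pullback.lift W.ι φ hφ) w)) := by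
    intro X₀ Y a g p₀ j m _ _ hag hmg hjm
    subst hag
    haveI : IsProper (m ≫ g) := hmg ▸ inferInstance
    haveI : IsProper m := IsProper.of_comp m g
    let W := m ⁻¹ᵁ a.opensRange
    let φ : (W : Scheme.{u}) ⟶ X₀ := m ∣_ a.opensRange ≫ a.isoOpensRange.inv
    have hφa : φ ≫ a = W.ι ≫ m := by
      simp only [φ, Category.assoc, Scheme.Hom.isoOpensRange_inv_comp, morphismRestrict_ι]
      rfl
    have hφ : W.ι ≫ C.g = φ ≫ a ≫ g := by rw [← hmg, ← Category.assoc φ, hφa, Category.assoc]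
    let l : U ⟶ (W : Scheme.{u}) := IsOpenImmersion.lift W.ι C.j (by
      rw [Scheme.Opens.range_ι]
      rintro _ ⟨x, rfl⟩
      show m (C.j x) ∈ Set.range a
      exact ⟨j x, by rw [← Scheme.Hom.comp_apply, ← Scheme.Hom.comp_apply, hjm]⟩)
    have hl : l ≫ W.ι = C.j := IsOpenImmersion.lift_fac _ _ _
    refine ⟨W, φ, hφ, l, ⟨le_bot_iff.1 ?_⟩, inferInstance, hl, ?_,
      isClosed_graph C.g g m hmg a W le_rfl φ hφa hφ⟩
    · rw [← C.j.ker_eq_bot, ← hl]
      exact Scheme.Hom.le_ker_comp _ _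
    · rw [← cancel_mono a, Category.assoc, hφa, reassoc_of% hl, hjm]
  refine ⟨C.pt, C.g, C.j, E', inferInstance, inferInstance, inferInstance, inferInstance, inferInstance,
    inferInstance, C.fac, hE', hiso, ?_, ?_⟩
  · refine key a₁ g₁ p₁ j₁ (b ≫ t.imageι ≫ pullback.fst g₁ g₂) e₁ ?_ ?_
    · rw [Category.assoc, Category.assoc]; exact hbg
    · rw [reassoc_of% hbj, Scheme.Hom.toImage_imageι_assoc, pullback.lift_fst]
  · refine key a₂ g₂ p₂ j₂ (b ≫ t.imageι ≫ pullback.snd g₁ g₂) e₂ ?_ ?_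
    · rw [Category.assoc, Category.assoc, ← pullback.condition]; exact hbg
    · rw [reassoc_of% hbj, Scheme.Hom.toImage_imageι_assoc, pullback.lift_snd]

end Groth.Agent.NagataLib.ExtendFree
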