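import Groth.Agent.NagataLib.ExtendFamily
import Groth.Agent.KFlatLib.Perfect.Top
import Groth.Agent.RGLib.Lim8Zero

/-!
# Extending a short exact sequence of finite locally free modules
-/

universe u

set_option autoImplicit false
set_option linter.style.haveILetI false
set_option backward.isDefEq.respectTransparency false
set_option backward.isDefEq.respectTransparency.types false

open CategoryTheory CategoryTheory.Limits AlgebraicGeometry TopologicalSpace Opposite
open Scheme (IdealSheafData)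

namespace Groth.Agent.NagataLib.ExtendFree

open Groth.Agent.QCoh

theorem preservesFiniteLimits_pullback {A B : Scheme.{u}} (v : A ⟶ B) [IsOpenImmersion v] :
    PreservesFiniteLimits (Scheme.Modules.pullback v) :=
  haveI := QCoh.restrict_preservesFiniteLimits v
  preservesFiniteLimits_of_natIso (Scheme.Modules.restrictFunctorIsoPullback v)

/-- A short exact sequence of finite locally free modules extends to a compactification. -/
theorem exists_extension_shortExact {S X : Scheme.{u}} [IsNoetherian S] (f : X ⟶ S) [IsSeparated f]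
    [QuasiCompact f] [LocallyOfFiniteType f]
    (Q : ShortComplex X.Modules) (hQ : Q.ShortExact)
    (h₁ : FlatMod.IsFinLocFree Q.X₁) (h₂ : FlatMod.IsFinLocFree Q.X₂) (h₃ : FlatMod.IsFinLocFree Q.X₃) :
    ∃ (Xb : Scheme.{u}) (j : X ⟶ Xb) (g : Xb ⟶ S) (E : Xb.IdealSheafData),
      IsOpenImmersion j ∧ IsProper g ∧ j ≫ g = f ∧
      BlowUp.IsEffCartierIdeal E ∧ (E.support : Set Xb) = (Set.range j.base)ᶜ ∧
      ∃ (T : ShortComplex Xb.Modules), T.ShortExact ∧
        FlatMod.IsFinLocFree T.X₁ ∧ FlatMod.IsFinLocFree T.X₂ ∧ FlatMod.IsFinLocFree T.X₃ ∧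
        ∃ (e₁ : (Scheme.Modules.pullback j).obj T.X₁ ≅ Q.X₁) (e₂ : (Scheme.Modules.pullback j).obj T.X₂ ≅ Q.X₂)
          (e₃ : (Scheme.Modules.pullback j).obj T.X₃ ≅ Q.X₃),
          (Scheme.Modules.pullback j).map T.f ≫ e₂.hom = e₁.hom ≫ Q.f ∧
          (Scheme.Modules.pullback j).map T.g ≫ e₃.hom = e₂.hom ≫ Q.g := by
  haveI := hQ.mono_f
  haveI := hQ.epi_g
  obtain ⟨C₀⟩ := nonempty_dComp f
  obtain ⟨C, ⟨E₂, hE₂, ⟨e⟩⟩, -⟩ := exists_step C₀ Q.X₂ h₂
  haveI : IsLocallyNoetherian C.pt := LocallyOfFiniteType.isLocallyNoetherian C.g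
  haveI : CompactSpace C.pt := QuasiCompact.compactSpace_of_compactSpace C.g
  haveI : IsNoetherian C.pt := {}
  let Rj := Scheme.Modules.restrictFunctor C.j
  let adj := Scheme.Modules.restrictAdjunction C.j
  let a : Rj.obj E₂ ⟶ Q.X₃ :=
    (Scheme.Modules.restrictFunctorIsoPullback C.j).hom.app E₂ ≫ e.hom ≫ Q.g
  haveI : Epi a := inferInstance
  let u := adj.homEquiv E₂ Q.X₃ a
  let F := Abelian.coimage u
  let πF : E₂ ⟶ F := Abelian.coimage.π u
  let c : Rj.obj F ⟶ Q.X₃ := Rj.map (Abelian.factorThruCoimage u) ≫ adj.counit.app Q.X₃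
  have hc : Rj.map πF ≫ c = a := by
    simp only [c]
    rw [← Category.assoc, ← Functor.map_comp, Abelian.coimage.fac]
    exact (Adjunction.homEquiv_counit (adj := adj) (g := u)).symm.trans ((adj.homEquiv _ _).symm_apply_apply a)
  haveI := QCoh.restrict_preservesFiniteLimits C.j
  haveI : Mono c := inferInstance
  haveI : Epi (Rj.map πF ≫ c) := by rw [hc]; infer_instance
  haveI : Epi c := epi_of_epi (Rj.map πF) c
  haveI : IsIso c := isIso_of_mono_of_epi c
  have hE₂q := isQCoh_of_isFinLocFree hE₂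
  have hP : Coh.IsQCoh ((Scheme.Modules.pushforward C.j).obj Q.X₃) :=
    isQCoh_pushforward C.j (isQCoh_of_isFinLocFree h₃)
  have hF : Coh.IsQCoh F := isQCoh_cokernel (isQCoh_kernel hE₂q hP u) hE₂q _
  have hft : CohB1.IsFT F :=
    RGLib.Lim8.isFT_of_epi πF hE₂q hF (isFT_of_isFP (isFP_of_isFinLocFree hE₂))
  let U := C.j.opensRange
  let φ := C.j.isoOpensRange
  have hU : FlatMod.IsFinLocFree (F.restrict U.ι) :=
    isFinLocFree_of_iso'
      ((Scheme.Modules.pullback φ.inv).mapIso ((asIso c).symm ≪≫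
          (Scheme.Modules.restrictFunctorIsoPullback C.j).app F) ≪≫
        (Scheme.Modules.pullbackComp φ.inv C.j).app F ≪≫
        (Scheme.Modules.pullbackCongr (Scheme.Hom.isoOpensRange_inv_comp C.j)).app F ≪≫
        ((Scheme.Modules.restrictFunctorIsoPullback U.ι).app F).symm)
      (KFlatLib.isFinLocFree_pullback φ.inv h₃)
  obtain ⟨K, G, π, hG, hπe, hπ⟩ := exists_blowUp_quotient U F hF hft hU
  haveI := hπe
  haveI := hπ
  let w := φ.hom ≫ inv (K.π ∣_ U)
  let v := w ≫ (K.π ⁻¹ᵁ U).ι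
  have hv : v ≫ K.π = C.j := by
    simp only [v, w, φ, Category.assoc, ← morphismRestrict_ι, IsIso.inv_hom_id_assoc,
      Scheme.Hom.isoOpensRange_hom_ι]
    exact Scheme.Hom.isoOpensRange_hom_ι C.j
  haveI : IsOpenImmersion v := inferInstance
  have hvr : v.opensRange = K.π ⁻¹ᵁ U := by
    simp only [v, w]
    rw [Scheme.Hom.opensRange_comp_of_isIso, Scheme.Opens.opensRange_ι]
  let Fv := Scheme.Modules.pullback v
  let B := Scheme.Modules.pullback K.π
  haveI : IsIso (Fv.map π) :=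
    haveI : IsIso ((Scheme.Modules.pullback (K.π ⁻¹ᵁ U).ι).map π) :=
      (NatIso.isIso_map_iff (Scheme.Modules.restrictFunctorIsoPullback (K.π ⁻¹ᵁ U).ι) π).1 hπ
    (NatIso.isIso_map_iff (Scheme.Modules.pullbackComp w (K.π ⁻¹ᵁ U).ι) π).1
      (inferInstanceAs (IsIso ((Scheme.Modules.pullback w).map
        ((Scheme.Modules.pullback (K.π ⁻¹ᵁ U).ι).map π))))
  haveI : B.PreservesEpimorphisms :=
    Functor.preservesEpimorphisms_of_adjunction (Scheme.Modules.pullbackPushforwardAdjunction K.π)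
  let p : B.obj E₂ ⟶ G := B.map πF ≫ π
  haveI : Epi p := inferInstance
  let T : ShortComplex K.obj.Modules := ShortComplex.mk (kernel.ι p) p (kernel.condition p)
  have hT : T.ShortExact :=
    { exact := ShortComplex.exact_kernel p, mono_f := inferInstance, epi_g := inferInstance }
  let κ : B ⋙ Fv ≅ Scheme.Modules.pullback C.j :=
    Scheme.Modules.pullbackComp v K.π ≪≫ Scheme.Modules.pullbackCongr hv
  let e₂ : Fv.obj (B.obj E₂) ≅ Q.X₂ := κ.app E₂ ≪≫ e
  let e₃ : Fv.obj G ≅ Q.X₃ := (asIso (Fv.map π)).symm ≪≫ κ.app F ≪≫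
    ((Scheme.Modules.restrictFunctorIsoPullback C.j).app F).symm ≪≫ asIso c
  have hg : Fv.map p ≫ e₃.hom = e₂.hom ≫ Q.g := by
    have h1 : Fv.map (B.map πF) ≫ κ.hom.app F = κ.hom.app E₂ ≫ (Scheme.Modules.pullback C.j).map πF :=
      κ.hom.naturality πF
    have h2 : (Scheme.Modules.pullback C.j).map πF ≫
        (Scheme.Modules.restrictFunctorIsoPullback C.j).inv.app F =
        (Scheme.Modules.restrictFunctorIsoPullback C.j).inv.app E₂ ≫ Rj.map πF :=
      (Scheme.Modules.restrictFunctorIsoPullback C.j).inv.naturality πF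
    simp only [e₂, e₃, p, Iso.trans_hom, Iso.symm_hom, asIso_inv, asIso_hom, Iso.app_hom, Iso.app_inv,
      Functor.map_comp, Category.assoc, IsIso.hom_inv_id_assoc]
    rw [reassoc_of% h1, reassoc_of% h2, hc]
    simp [a]
  haveI := preservesFiniteLimits_pullback v
  let k₁ : Fv.obj (kernel p) ≅ kernel Q.g :=
    PreservesKernel.iso Fv p ≪≫ kernel.mapIso (Fv.map p) Q.g e₂ e₃ hg
  let k₂ : Q.X₁ ≅ kernel Q.g :=
    hQ.fIsKernel.conePointUniqueUpToIso (limit.isLimit (parallelPair Q.g 0))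
  have hk₂ : k₂.hom ≫ kernel.ι Q.g = Q.f :=
    IsLimit.conePointUniqueUpToIso_hom_comp _ _ WalkingParallelPair.zero
  refine ⟨K.obj, v, K.π ≫ C.g, K.1.comap K.π, inferInstance, inferInstance,
    by rw [reassoc_of% hv, C.fac], K.isBlowUp.1, ?_, T, hT,
    KFlatLib.isFinLocFree_kernel p (KFlatLib.isFinLocFree_pullback _ hE₂) hG,
    KFlatLib.isFinLocFree_pullback _ hE₂, hG, k₁ ≪≫ k₂.symm, e₂, e₃, ?_, hg⟩
  · rw [IdealSheafData.support_comap, Closeds.coe_preimage, K.2.2]
    show _ = (Set.range v)ᶜ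
    rw [← Scheme.Hom.coe_opensRange, hvr]
    rfl
  · simp only [Iso.trans_hom, Iso.symm_hom, Category.assoc]
    rw [show k₂.inv ≫ Q.f = kernel.ι Q.g by rw [Iso.inv_comp_eq, hk₂]]
    simp [k₁, T, Fv, kernel.mapIso, kernel.map]

end Groth.Agent.NagataLib.ExtendFree
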