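import Groth.Agent.NagataLib.ExtendFree
import Groth.Agent.NagataLib.General
import Groth.Agent.KFlatLib.Perfect.LocFree
import Groth.Agent.Triage.SchDense

/-!
# Dense compactifications extending finite families of finite locally free modules
-/

universe u v

set_option autoImplicit false
set_option linter.style.haveILetI false
set_option backward.isDefEq.respectTransparency false
set_option backward.isDefEq.respectTransparency.types false

open CategoryTheory CategoryTheory.Limits AlgebraicGeometry TopologicalSpace Opposite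
open Scheme (IdealSheafData)

namespace Groth.Agent.NagataLib.ExtendFree

open Groth.Agent.QCoh

variable {S X : Scheme.{u}}

/-- A dense compactification. -/
structure DComp (f : X ⟶ S) where
  pt : Scheme.{u}
  j : X ⟶ pt
  g : pt ⟶ S
  [isOI : IsOpenImmersion j]
  [qc : QuasiCompact j]
  [dom : IsSchemeTheoreticallyDominant j]
  [proper : IsProper g]
  fac : j ≫ g = f

attribute [instance] DComp.isOI DComp.qc DComp.dom DComp.proper

/-- `E` extends to the compactification. -/
def DComp.Extends {f : X ⟶ S} (C : DComp f) (E : X.Modules) : Prop :=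
  ∃ E' : C.pt.Modules, FlatMod.IsFinLocFree E' ∧ Nonempty ((Scheme.Modules.pullback C.j).obj E' ≅ E)

theorem isFinLocFree_of_iso' {M N : X.Modules} (e : M ≅ N) (h : FlatMod.IsFinLocFree M) :
    FlatMod.IsFinLocFree N := fun x => by
  obtain ⟨U, n, hx, ⟨e'⟩⟩ := h x
  exact ⟨U, n, hx, ⟨(Scheme.Modules.restrictFunctor U.ι).mapIso e.symm ≪≫ e'⟩⟩

theorem nonempty_dComp [IsNoetherian S] (f : X ⟶ S) [IsSeparated f] [QuasiCompact f]
    [LocallyOfFiniteType f] : Nonempty (DComp f) := by
  obtain ⟨Y, j, p, hj, hqc, hp, e⟩ := exists_compactification f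
  haveI := Groth.Agent.Triage.SchDense.isSchemeTheoreticallyDominant_toImage j
  haveI : QuasiCompact j.toImage := by
    haveI : QuasiCompact (j.toImage ≫ j.imageι) := by rwa [j.toImage_imageι]
    exact QuasiCompact.of_comp j.toImage j.imageι
  exact ⟨{ pt := j.image, j := j.toImage, g := j.imageι ≫ p,
           fac := by rw [← Category.assoc, j.toImage_imageι, e] }⟩

/-- Extend one more module. -/
theorem exists_step [IsNoetherian S] {f : X ⟶ S} (C : DComp f) (E : X.Modules)
    (hE : FlatMod.IsFinLocFree E) :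
    ∃ C' : DComp f, C'.Extends E ∧ (∀ E₁, C.Extends E₁ → C'.Extends E₁) ∧
      ∃ (b : C'.pt ⟶ C.pt) (I : C.pt.IdealSheafData),
        BlowUp.IsBlowUp b I ∧ BlowUp.IsFiniteTypeIdeal I ∧ b ≫ C.g = C'.g ∧ C'.j ≫ b = C.j := by
  haveI : IsLocallyNoetherian C.pt := LocallyOfFiniteType.isLocallyNoetherian C.g
  haveI : CompactSpace C.pt := QuasiCompact.compactSpace_of_compactSpace C.g
  haveI : IsNoetherian C.pt := {}
  let U := C.j.opensRange
  let φ := C.j.isoOpensRange
  have hφ : φ.hom ≫ U.ι = C.j := Scheme.Hom.isoOpensRange_hom_ι C.j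
  let G₀ := (Scheme.Modules.pullback φ.inv).obj E
  have hG₀ : FlatMod.IsFinLocFree G₀ := KFlatLib.isFinLocFree_pullback _ hE
  obtain ⟨F, hF, hft, ⟨eF⟩⟩ := exists_extension_abs (extStep_qcqs (U := U) (NoetherianSpace.isCompact _))
    G₀ (isQCoh_of_isFinLocFree hG₀) (isFT_of_isFP (isFP_of_isFinLocFree hG₀))
  obtain ⟨K, G, hG, ⟨eG⟩⟩ := exists_blowUp_extension U F hF hft (isFinLocFree_of_iso' eF.symm hG₀)
  let w := φ.hom ≫ inv (K.π ∣_ U)
  let v := w ≫ (K.π ⁻¹ᵁ U).ι
  have hv : v ≫ K.π = C.j := by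
    simp only [v, w, Category.assoc, ← morphismRestrict_ι, IsIso.inv_hom_id_assoc]
    exact hφ
  haveI : IsOpenImmersion v := inferInstance
  haveI : IsSchemeTheoreticallyDominant v := inferInstance
  haveI : QuasiCompact v := inferInstance
  let C' : DComp f := { pt := K.obj, j := v, g := K.π ≫ C.g,
                        fac := by rw [← Category.assoc, hv, C.fac] }
  refine ⟨C', ⟨G, hG, ⟨?_⟩⟩, fun E₁ ⟨E', hE', ⟨e'⟩⟩ =>
    ⟨(Scheme.Modules.pullback K.π).obj E', KFlatLib.isFinLocFree_pullback _ hE', ⟨?_⟩⟩,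
    K.π, K.1, K.isBlowUp, K.2.1, rfl, hv⟩
  · refine ((Scheme.Modules.pullbackComp w (K.π ⁻¹ᵁ U).ι).symm.app G) ≪≫
      (Scheme.Modules.pullback w).mapIso
        (((Scheme.Modules.restrictFunctorIsoPullback _).app G).symm ≪≫ eG ≪≫
          (Scheme.Modules.restrictFunctorIsoPullback _).app _ ≪≫
          (Scheme.Modules.pullbackComp _ _).app F) ≪≫
      (Scheme.Modules.pullbackComp _ _).app F ≪≫
      (Scheme.Modules.pullbackCongr
        (show w ≫ (K.π ⁻¹ᵁ U).ι ≫ K.π = φ.hom ≫ U.ι by rw [← Category.assoc]; exact hv.trans hφ.symm)).app F ≪≫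
      (Scheme.Modules.pullbackComp φ.hom U.ι).symm.app F ≪≫
      (Scheme.Modules.pullback φ.hom).mapIso
        (((Scheme.Modules.restrictFunctorIsoPullback U.ι).app F).symm ≪≫ eF) ≪≫
      (Scheme.Modules.pullbackComp φ.hom φ.inv).app E ≪≫
      (Scheme.Modules.pullbackCongr φ.hom_inv_id).app E ≪≫ (Scheme.Modules.pullbackId X).app E
  · exact (Scheme.Modules.pullbackComp v K.π).app E' ≪≫ (Scheme.Modules.pullbackCongr hv).app E' ≪≫ e'

/-- A finite family extends, keeping a property stable under blowing up. -/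
theorem exists_dComp_extending_of [IsNoetherian S] {f : X ⟶ S} (C₀ : DComp f) (P : DComp f → Prop)
    (h₀ : P C₀)
    (hP : ∀ (C C' : DComp f), P C → ∀ (b : C'.pt ⟶ C.pt) (I : C.pt.IdealSheafData),
      BlowUp.IsBlowUp b I → BlowUp.IsFiniteTypeIdeal I → b ≫ C.g = C'.g → P C')
    {ι : Type v} [Finite ι] (E : ι → X.Modules)
    (hE : ∀ i, FlatMod.IsFinLocFree (E i)) : ∃ C : DComp f, P C ∧ ∀ i, C.Extends (E i) := by
  classical
  haveI := Fintype.ofFinite ι
  suffices h : ∀ s : Finset ι, ∃ C : DComp f, P C ∧ ∀ i ∈ s, C.Extends (E i) by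
    obtain ⟨C, hC₀, hC⟩ := h Finset.univ
    exact ⟨C, hC₀, fun i => hC i (Finset.mem_univ i)⟩
  intro s
  induction s using Finset.induction with
  | empty => exact ⟨C₀, h₀, by simp⟩
  | insert a s _ ih =>
    obtain ⟨C, hC₀, hC⟩ := ih
    obtain ⟨C', h1, h2, b, I, hb, hI, e, -⟩ := exists_step C (E a) (hE a)
    exact ⟨C', hP C C' hC₀ b I hb hI e,
      fun i hi => (Finset.mem_insert.1 hi).elim (fun h => h ▸ h1) fun h => h2 _ (hC i h)⟩

/-- A finite family extends to a single dense compactification. -/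
theorem exists_dComp_extending [IsNoetherian S] (f : X ⟶ S) [IsSeparated f] [QuasiCompact f]
    [LocallyOfFiniteType f] {ι : Type v} [Finite ι] (E : ι → X.Modules)
    (hE : ∀ i, FlatMod.IsFinLocFree (E i)) : ∃ C : DComp f, ∀ i, C.Extends (E i) := by
  obtain ⟨C₀⟩ := nonempty_dComp f
  obtain ⟨C, -, hC⟩ := exists_dComp_extending_of C₀ (fun _ => True) trivial
    (fun _ _ _ _ _ _ _ _ => trivial) E hE
  exact ⟨C, hC⟩

end Groth.Agent.NagataLib.ExtendFree
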