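import Groth.Agent.NagataLib.ExtendFamily
import Groth.Agent.BlowUpX.Projective
import Groth.Agent.S9708
import Groth.Agent.SymX.AmplePower
import Groth.Agent.SymX.ProjectiveStable
import Groth.Agent.Triage.SchDense

/-!
# Dense projective compactifications of quasi-projective morphisms
-/

universe u v

set_option autoImplicit false
set_option linter.style.haveILetI false
set_option backward.isDefEq.respectTransparency false
set_option backward.isDefEq.respectTransparency.types false

open CategoryTheory CategoryTheory.Limits AlgebraicGeometry TopologicalSpace Opposite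

namespace Groth.Agent.NagataLib.ExtendFree

/-- A quasi-projective morphism has a projective compactification with dense image. -/
theorem exists_dComp_projective {X S : Scheme.{u}} [CompactSpace S] [QuasiSeparatedSpace S] (f : X ⟶ S)
    (hf : RelProj.IsQuasiProjective f) : ∃ C : DComp f, RelProj.IsProjective C.g := by
  obtain ⟨hlft, hqc, L, hL⟩ := hf
  haveI := hlft
  haveI := hqc
  have hLi := AmpleX.isInvertible_of_isRelAmple hL
  obtain ⟨n₀, -, h⟩ := SymX.eventually_isRelVeryAmple_pow hLi hL
  obtain ⟨E, A, i, hE, hft, hi, hif, -⟩ := SymX.exists_ft_immersion'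
    (fun V hV => QCoh.extStep_qcqs hV.isCompact) f (InvX.isInvertible_tensorPow hLi n₀) (h n₀ le_rfl)
  haveI := hi
  haveI : IsSeparated A.p := Proj16.isSeparated A.isRelProj
  haveI : QuasiCompact (i ≫ A.p) := hif ▸ hqc
  haveI : QuasiCompact i := QuasiCompact.of_comp i A.p
  haveI := Groth.Agent.Triage.SchDense.isSchemeTheoreticallyDominant_toImage i
  haveI : QuasiCompact i.toImage := by
    haveI : QuasiCompact (i.toImage ≫ i.imageι) := by rwa [i.toImage_imageι]
    exact QuasiCompact.of_comp i.toImage i.imageι
  have hp : RelProj.IsProjective (i.imageι ≫ A.p) :=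
    SymX.isProjective_of_bundle A hE hft i.imageι rfl
  haveI : IsProper (i.imageι ≫ A.p) := (Groth.Agent.S4418.result _ hp).2
  exact ⟨{ pt := i.image, j := i.toImage, g := i.imageι ≫ A.p,
           fac := by rw [← Category.assoc, i.toImage_imageι, hif] }, hp⟩

/-- A finite family extends to a dense projective compactification. -/
theorem exists_dComp_projective_extending {X S : Scheme.{u}} [IsNoetherian S] (f : X ⟶ S)
    (hf : RelProj.IsQuasiProjective f) {ι : Type v} [Finite ι] (E : ι → X.Modules)
    (hE : ∀ i, FlatMod.IsFinLocFree (E i)) :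
    ∃ C : DComp f, RelProj.IsProjective C.g ∧ ∀ i, C.Extends (E i) := by
  obtain ⟨C₀, h₀⟩ := exists_dComp_projective f hf
  exact exists_dComp_extending_of C₀ (fun C => RelProj.IsProjective C.g) h₀
    (fun C C' hC b I hb hI e => e ▸ Groth.Agent.S9708.result b C.g
      (BlowUpX.isProjective_of_isBlowUp hb hI) hC) E hE

end Groth.Agent.NagataLib.ExtendFree
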