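import Groth.Agent.NagataLib.Basic
import Groth.Agent.S1281
import Groth.Agent.S1694

/-!
# Finitely many schemes glued after admissible blow-ups
-/

universe u

set_option autoImplicit false
set_option linter.style.haveILetI false
set_option backward.isDefEq.respectTransparency false
set_option backward.isDefEq.respectTransparency.types false

open CategoryTheory CategoryTheory.Limits AlgebraicGeometry TopologicalSpace

namespace Groth.Agent.NagataLib

/-- A blow-up of one of the schemes embedded in the common one. -/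
structure Piece {U S X Xc : Scheme.{u}} (j : U ⟶ X) [IsOpenImmersion j] (g : X ⟶ S) (q : Xc ⟶ S)
    (j₀ : U ⟶ Xc) where
  I : X.IdealSheafData
  X' : Scheme.{u}
  b : X' ⟶ X
  o : X' ⟶ Xc
  u : U ⟶ X'
  isBlowUp : BlowUp.IsBlowUp b I
  adm : BlowUp.IsAdmissibleFor j.opensRange I
  openImm : IsOpenImmersion o
  overS : o ≫ q = b ≫ g
  hlift : u ≫ b = j
  hagree : u ≫ o = j₀

/-- Injectivity over an open over which a morphism is an isomorphism. -/
theorem eq_of_isIso_restrict {X Y : Scheme.{u}} (f : X ⟶ Y) (V : Y.Opens) [IsIso (f ∣_ V)] {x y : X}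
    (hx : f x ∈ V) (h : f x = f y) : x = y := by
  have hi : Function.Injective (f ∣_ V) := (asIso (f ∣_ V)).schemeIsoToHomeo.injective
  have hy : f y ∈ V := h ▸ hx
  exact congrArg Subtype.val (hi (a₁ := ⟨x, hx⟩) (a₂ := ⟨y, hy⟩)
    ((ZRLim.restrict_eq f V ⟨x, hx⟩ ⟨f x, hx⟩ rfl).trans
      (ZRLim.restrict_eq f V ⟨y, hy⟩ ⟨f x, hx⟩ h.symm).symm))

theorem Piece.mem_range_congr {U S X Xc : Scheme.{u}} {j : U ⟶ X} [IsOpenImmersion j] {g : X ⟶ S}
    {q : Xc ⟶ S} {j₀ : U ⟶ Xc} {p₁ p₂ : Piece j g q j₀} (h : p₁ = p₂) {z : Xc}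
    (hz : z ∈ Set.range p₂.o) : z ∈ Set.range p₁.o := by
  subst h; exact hz

/-- Blowing up the common scheme refines a piece. -/
theorem Piece.refine_piece {U S X Xc Xd Xn : Scheme.{u}} [CompactSpace X] [QuasiSeparatedSpace X]
    {j : U ⟶ X} [IsOpenImmersion j]
    {g : X ⟶ S} {q : Xc ⟶ S} {j₀ : U ⟶ Xc} [IsOpenImmersion j₀] (p : Piece j g q j₀)
    {qn : Xn ⟶ S} {J : Xc.IdealSheafData} (hJ : BlowUp.IsAdmissibleFor j₀.opensRange J)
    {bc : Xd ⟶ Xc} (hbc : BlowUp.IsBlowUp bc J) (oc : Xd ⟶ Xn) [IsOpenImmersion oc]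
    (hoc : oc ≫ qn = bc ≫ q) (uc : U ⟶ Xd) (huc : uc ≫ bc = j₀) :
    ∃ p' : Piece j g qn (uc ≫ oc),
      oc '' (bc ⁻¹' Set.range p.o) ⊆ Set.range p'.o := by
  haveI := p.openImm
  haveI : IsProper p.b := BlowUpLib.isProper_of_isBlowUp _ p.isBlowUp p.adm.1
  haveI : CompactSpace p.X' := QuasiCompact.compactSpace_of_compactSpace p.b
  haveI : QuasiSeparatedSpace p.X' := quasiSeparatedSpace_of_quasiSeparated p.b
  let R := p.o.opensRange
  let C := J.comap p.o
  have hC : BlowUp.IsFiniteTypeIdeal C := MorLib.IdealFG.isFG_comap hJ.1 p.o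
  have hb' : BlowUp.IsBlowUp ((bc ∣_ R) ≫ p.o.isoOpensRange.inv) C := by
    refine BlowUpLib.isBlowUp_comp_iso _ ?_
    have := isBlowUp_restrict hbc R
    rwa [← Scheme.IdealSheafData.comap_comp, Scheme.Hom.isoOpensRange_inv_comp]
  obtain ⟨K, hK, hKs, hKb⟩ := S1694.result X p.I p.adm.1 p.b p.isBlowUp C hC _ hb'
  haveI : IsIso (p.b ∣_ j.opensRange) := isIso_restrict_of_disjoint p.isBlowUp _ p.adm.2
  have hr : Set.range uc ⊆ Set.range (bc ⁻¹ᵁ R).ι := by
    rintro _ ⟨x, rfl⟩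
    rw [Scheme.Opens.range_ι]
    exact ⟨p.u x, by rw [← Scheme.Hom.comp_apply, p.hagree, ← huc]; rfl⟩
  let u' := IsOpenImmersion.lift (bc ⁻¹ᵁ R).ι uc hr
  have hu' : u' ≫ (bc ⁻¹ᵁ R).ι = uc := IsOpenImmersion.lift_fac _ _ _
  refine ⟨⟨K, _, ((bc ∣_ R) ≫ p.o.isoOpensRange.inv) ≫ p.b, (bc ⁻¹ᵁ R).ι ≫ oc, u', hKb, ⟨hK, ?_⟩,
    inferInstance, ?_, ?_, by rw [reassoc_of% hu']⟩, ?_⟩
  · rw [Set.disjoint_left]
    intro x hx hxj
    rw [hKs] at hx
    rcases hx with hx | ⟨w, hw, rfl⟩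
    · exact Set.disjoint_left.1 p.adm.2 hx hxj
    · obtain ⟨v, hv⟩ := hxj
      have e : w = p.u v := eq_of_isIso_restrict p.b j.opensRange ⟨v, hv⟩ (by
        show p.b w = p.b (p.u v)
        rw [← Scheme.Hom.comp_apply p.u, p.hlift]
        exact hv.symm)
      rw [Scheme.IdealSheafData.support_comap] at hw
      refine Set.disjoint_left.1 hJ.2 (show p.o w ∈ (J.support : Set Xc) from hw) ⟨v, ?_⟩
      rw [e, ← Scheme.Hom.comp_apply, p.hagree]
  · rw [Category.assoc, hoc, Category.assoc, Category.assoc, ← p.overS,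
      Scheme.Hom.isoOpensRange_inv_comp_assoc]
    exact (morphismRestrict_ι_assoc bc R q).symm
  · have e : u' ≫ (bc ∣_ R) ≫ p.o.isoOpensRange.inv = p.u := by
      rw [← cancel_mono p.o]
      simp only [Category.assoc, Scheme.Hom.isoOpensRange_inv_comp, p.hagree]
      rw [morphismRestrict_ι, reassoc_of% hu', huc]
    rw [← Category.assoc, e, p.hlift]
  · rintro _ ⟨x, hx, rfl⟩
    exact ⟨⟨x, hx⟩, rfl⟩

/-- Finitely many schemes containing `U` are opens of one after admissible blow-ups. -/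
theorem exists_multi {S U : Scheme.{u}} [CompactSpace S] [QuasiSeparatedSpace S]
    (gU : U ⟶ S) [IsSeparated gU] [QuasiCompact gU] [LocallyOfFiniteType gU] (n : ℕ)
    (X : Fin (n + 1) → Scheme.{u}) (g : ∀ i, X i ⟶ S)
    [∀ i, IsSeparated (g i)] [∀ i, QuasiCompact (g i)] [∀ i, LocallyOfFiniteType (g i)]
    (j : ∀ i, U ⟶ X i) [∀ i, IsOpenImmersion (j i)] (hj : ∀ i, j i ≫ g i = gU) :
    ∃ (Xc : Scheme.{u}) (q : Xc ⟶ S) (j₀ : U ⟶ Xc), IsSeparated q ∧ QuasiCompact q ∧
      LocallyOfFiniteType q ∧ IsOpenImmersion j₀ ∧ j₀ ≫ q = gU ∧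
      ∃ p : ∀ i, Piece (j i) (g i) q j₀, ∀ z, ∃ i, z ∈ Set.range (p i).o := by
  haveI : CompactSpace U := QuasiCompact.compactSpace_of_compactSpace gU
  induction n with
  | zero =>
    haveI : CompactSpace (X 0) := QuasiCompact.compactSpace_of_compactSpace (g 0)
    haveI : QuasiSeparatedSpace (X 0) := quasiSeparatedSpace_of_quasiSeparated (g 0)
    obtain ⟨K⟩ := ZRLim.Adm.nonempty (U := (j 0).opensRange) (isCompact_range (j 0).continuous)
    obtain ⟨u, hu⟩ := S1281.exists_lift (j 0) K.π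
    haveI : IsOpenImmersion u := by
      have e : u = (j 0).isoOpensRange.hom ≫ inv (K.π ∣_ (j 0).opensRange) ≫
          (K.π ⁻¹ᵁ (j 0).opensRange).ι := by
        refine BlowUpLib.isBlowUp_hom_ext K.isBlowUp ?_ ?_
        · simp only [Category.assoc, hu, ← morphismRestrict_ι, IsIso.inv_hom_id_assoc,
            Scheme.Hom.isoOpensRange_hom_ι]
        · simp only [Category.assoc, ← morphismRestrict_ι, IsIso.inv_hom_id_assoc,
            Scheme.Hom.isoOpensRange_hom_ι]
          exact BlowUpX.isEffCartier_comap_of_avoid K.1 (j 0) fun y hy =>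
            Set.disjoint_left.1 K.isAdmissible.2 hy ⟨y, rfl⟩
      rw [e]; infer_instance
    refine ⟨K.obj, K.π ≫ g 0, u, inferInstance, inferInstance, inferInstance, inferInstance,
      by rw [reassoc_of% hu, hj], fun i => ?_, fun z => ⟨0, ?_⟩⟩
    · exact Fin.cases ⟨K.1, K.obj, K.π, 𝟙 _, u, K.isBlowUp, K.isAdmissible, inferInstance,
        Category.id_comp _, hu, Category.comp_id _⟩ (fun k => k.elim0) i
    · exact ⟨z, rfl⟩
  | succ n ih =>
    obtain ⟨Xc, q, j₀, hqs, hqq, hqf, hj₀, hj₀q, p, hp⟩ :=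
      ih (fun i => X i.castSucc) (fun i => g i.castSucc) (fun i => j i.castSucc)
        (fun i => hj i.castSucc)
    haveI := hqs
    haveI := hqq
    haveI := hqf
    haveI := hj₀
    obtain ⟨Xn, qn, hns, hnf, hnq, J, J₂, Xd, X₂', bc, b₂, oc, o₂, uc, u₂, hbc, hJ, hb₂, hJ₂,
      hoc, ho₂, woc, wo₂, huc, hu₂, hagree⟩ :=
      S1281.result gU q (g (Fin.last (n + 1))) j₀ (j (Fin.last (n + 1))) hj₀q (hj _)
    haveI := hoc
    haveI := ho₂
    haveI := hns
    haveI := hnf
    haveI := hnq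
    haveI : CompactSpace Xc := QuasiCompact.compactSpace_of_compactSpace q
    haveI : QuasiSeparatedSpace Xc := quasiSeparatedSpace_of_quasiSeparated q
    haveI : CompactSpace (X (Fin.last (n + 1))) :=
      QuasiCompact.compactSpace_of_compactSpace (g _)
    haveI : IsProper bc := BlowUpLib.isProper_of_isBlowUp _ hbc hJ.1
    haveI : IsProper b₂ := BlowUpLib.isProper_of_isBlowUp _ hb₂ hJ₂.1
    haveI : CompactSpace Xd := QuasiCompact.compactSpace_of_compactSpace bc
    haveI : CompactSpace X₂' := QuasiCompact.compactSpace_of_compactSpace b₂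
    let T : Xn.Opens := oc.opensRange ⊔ o₂.opensRange
    haveI : CompactSpace (T : Scheme.{u}) := isCompact_iff_compactSpace.mp
      ((isCompact_range oc.continuous).union (isCompact_range o₂.continuous))
    haveI : QuasiCompact (T.ι ≫ qn) := quasiCompact_of_compactSpace _
    let oc' := IsOpenImmersion.lift T.ι oc (by rw [Scheme.Opens.range_ι]; exact fun _ h => Or.inl h)
    let o₂' := IsOpenImmersion.lift T.ι o₂ (by rw [Scheme.Opens.range_ι]; exact fun _ h => Or.inr h)
    have eoc : oc' ≫ T.ι = oc := IsOpenImmersion.lift_fac _ _ _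
    have eo₂ : o₂' ≫ T.ι = o₂ := IsOpenImmersion.lift_fac _ _ _
    haveI : IsOpenImmersion oc' := by
      haveI : IsOpenImmersion (oc' ≫ T.ι) := by rw [eoc]; infer_instance
      exact IsOpenImmersion.of_comp (f := oc') (g := T.ι)
    haveI : IsOpenImmersion o₂' := by
      haveI : IsOpenImmersion (o₂' ≫ T.ι) := by rw [eo₂]; infer_instance
      exact IsOpenImmersion.of_comp (f := o₂') (g := T.ι)
    have hagree' : uc ≫ oc' = u₂ ≫ o₂' := by
      rw [← cancel_mono T.ι, Category.assoc, eoc, Category.assoc, eo₂, hagree]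
    haveI : IsOpenImmersion uc := by
      haveI : IsIso (bc ∣_ j₀.opensRange) := isIso_restrict_of_disjoint hbc _ hJ.2
      have e : uc = j₀.isoOpensRange.hom ≫ inv (bc ∣_ j₀.opensRange) ≫
          (bc ⁻¹ᵁ j₀.opensRange).ι := by
        refine BlowUpLib.isBlowUp_hom_ext hbc ?_ ?_
        · simp only [Category.assoc, huc, ← morphismRestrict_ι, IsIso.inv_hom_id_assoc,
            Scheme.Hom.isoOpensRange_hom_ι]
        · simp only [Category.assoc, ← morphismRestrict_ι, IsIso.inv_hom_id_assoc,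
            Scheme.Hom.isoOpensRange_hom_ι]
          exact BlowUpX.isEffCartier_comap_of_avoid J j₀ fun y hy =>
            Set.disjoint_left.1 hJ.2 hy ⟨y, rfl⟩
      rw [e]; infer_instance
    have hall : ∀ i : Fin (n + 1), ∃ p' : Piece (j i.castSucc) (g i.castSucc) (T.ι ≫ qn) (uc ≫ oc'),
        oc' '' (bc ⁻¹' Set.range (p i).o) ⊆ Set.range p'.o := fun i => by
      haveI : CompactSpace (X i.castSucc) := QuasiCompact.compactSpace_of_compactSpace (g _)
      haveI : QuasiSeparatedSpace (X i.castSucc) := quasiSeparatedSpace_of_quasiSeparated (g _)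
      exact (p i).refine_piece hJ hbc oc' (by rw [reassoc_of% eoc, woc]) uc huc
    choose p' hp' using hall
    refine ⟨T, T.ι ≫ qn, uc ≫ oc', inferInstance, inferInstance, inferInstance, inferInstance,
      by rw [Category.assoc, reassoc_of% eoc, woc, reassoc_of% huc, hj₀q], fun i => ?_, fun z => ?_⟩
    · exact Fin.lastCases ⟨J₂, X₂', b₂, o₂', u₂, hb₂, hJ₂, inferInstance,
        by rw [reassoc_of% eo₂, wo₂], hu₂, hagree'.symm⟩ p' i
    · rcases z.2 with ⟨x, hx⟩ | ⟨x, hx⟩
      · have hz : oc' x = z := T.ι.isOpenEmbedding.injective (by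
          rw [← Scheme.Hom.comp_apply, eoc]; exact hx)
        obtain ⟨i, hi⟩ := hp (bc x)
        refine ⟨i.castSucc, ?_⟩
        exact Piece.mem_range_congr (Fin.lastCases_castSucc i) (hp' i ⟨x, hi, hz⟩)
      · refine ⟨Fin.last (n + 1), ?_⟩
        refine Piece.mem_range_congr Fin.lastCases_last ?_
        exact ⟨x, T.ι.isOpenEmbedding.injective
          ((congrArg (fun m : X₂' ⟶ Xn => m x) eo₂).trans hx)⟩

end Groth.Agent.NagataLib
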