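import Groth.Agent.NagataLib.Union
import Groth.Agent.PnCoh.Chow.Proper
import Groth.Agent.ModPairLib.Closure
import Groth.Prelude.Def_CohB1

/-!
# Compactifications over a Noetherian base
-/

universe u

set_option autoImplicit false
set_option linter.style.haveILetI false
set_option backward.isDefEq.respectTransparency false
set_option backward.isDefEq.respectTransparency.types false

open CategoryTheory CategoryTheory.Limits AlgebraicGeometry TopologicalSpace HomogeneousLocalization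

namespace Groth.Agent.NagataLib

/-- Existence of a compactification. -/
def HasComp {U S : Scheme.{u}} (g : U ⟶ S) : Prop :=
  ∃ (Y : Scheme.{u}) (j : U ⟶ Y) (p : Y ⟶ S), IsOpenImmersion j ∧ IsProper p ∧ j ≫ p = g

variable {U S : Scheme.{u}}

theorem HasComp.comp {g : U ⟶ S} (h : HasComp g) {U' : Scheme.{u}} (e : U' ⟶ U)
    [IsOpenImmersion e] : HasComp (e ≫ g) := by
  obtain ⟨Y, j, p, hj, hp, rfl⟩ := h
  exact ⟨Y, e ≫ j, p, inferInstance, hp, Category.assoc _ _ _⟩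

/-- Scheme theoretic closure in a proper scheme. -/
theorem hasComp_of_closedImmersion [IsNoetherian S] {P O : Scheme.{u}} (p : P ⟶ S) [IsProper p]
    (o : O ⟶ P) [IsOpenImmersion o] (c : U ⟶ O) [IsClosedImmersion c] : HasComp (c ≫ o ≫ p) := by
  haveI : IsLocallyNoetherian P := LocallyOfFiniteType.isLocallyNoetherian p
  let O' : P.Opens := o.opensRange
  let c' : U ⟶ (O' : Scheme.{u}) := c ≫ o.isoOpensRange.hom
  haveI : IsClosedImmersion c' := MorphismProperty.comp_mem _ _ _ ‹_› inferInstance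
  haveI : QuasiCompact O'.ι := inferInstance
  obtain ⟨h, -⟩ := ModPairLib.isOpenImmersion_toImage O' c'
  refine ⟨_, (c' ≫ O'.ι).toImage, (c' ≫ O'.ι).imageι ≫ p, h, inferInstance, ?_⟩
  rw [Scheme.Hom.toImage_imageι_assoc]
  simp only [c', O', Category.assoc, Scheme.Hom.isoOpensRange_hom_ι_assoc]

theorem exists_gens_appTop {W : Scheme.{u}} [IsAffine U] [IsAffine W] (g : U ⟶ W)
    [LocallyOfFiniteType g] : ∃ (n : ℕ) (s : Fin n → Γ(U, ⊤)),
      Function.Surjective (MvPolynomial.eval₂Hom g.appTop.hom s) := by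
  have h : g.appTop.hom.FiniteType :=
    (HasRingHomProperty.iff_of_isAffine (P := @LocallyOfFiniteType)).1 ‹_›
  letI := g.appTop.hom.toAlgebra
  obtain ⟨n, φ, hφ⟩ :=
    Algebra.FiniteType.iff_quotient_mvPolynomial''.1 (show Algebra.FiniteType Γ(W, ⊤) Γ(U, ⊤) from h)
  refine ⟨n, fun a => φ (MvPolynomial.X a), ?_⟩
  have : MvPolynomial.eval₂Hom g.appTop.hom (fun a => φ (MvPolynomial.X a)) = φ.toRingHom :=
    MvPolynomial.ringHom_ext (fun c => by rw [MvPolynomial.eval₂Hom_C]; exact (φ.commutes c).symm)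
      (fun a => by rw [MvPolynomial.eval₂Hom_X']; rfl)
  rw [this]
  exact hφ

/-- Values on the standard chart of projective space. -/
theorem exists_away_hom {R : Type u} [CommRing R] {n : ℕ} {B : Type u} [CommRing B] (r : R →+* B)
    (s : Fin n → B) :
    ∃ φ : Away (CohB1.polyGrading n R) (MvPolynomial.X (R := R) (0 : Fin (n + 1))) →+* B,
      ∀ i, ∃ a, φ a = s i := by
  let f₀ : MvPolynomial (Fin (n + 1)) R := MvPolynomial.X 0
  let c := MvPolynomial.eval₂Hom r (Fin.cons 1 s : Fin (n + 1) → B)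
  have hc : IsUnit (c f₀) := by simp [c, f₀]
  let ψ : Localization.Away f₀ →+* B := IsLocalization.Away.lift f₀ hc
  refine ⟨ψ.comp (algebraMap _ (Localization.Away f₀)), fun i => ?_⟩
  refine ⟨Away.mk _ (f := f₀) (d := 1) ((MvPolynomial.mem_homogeneousSubmodule 1 _).2
    (MvPolynomial.isHomogeneous_X R 0)) 1 (MvPolynomial.X i.succ)
    ((MvPolynomial.mem_homogeneousSubmodule _ _).2
      (by rw [one_smul]; exact MvPolynomial.isHomogeneous_X R i.succ)), ?_⟩
  rw [RingHom.comp_apply, HomogeneousLocalization.algebraMap_apply, Away.val_mk]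
  rw [Localization.mk_eq_mk']
  show IsLocalization.lift (M := Submonoid.powers f₀) _ _ = _
  rw [IsLocalization.lift_mk'_spec]
  simp [c, f₀]

/-- An affine open of `U` over an affine open of `S` has a compactification. -/
theorem hasComp_affine [IsNoetherian S] [IsAffine U] {W : S.Opens} (hW : IsAffineOpen W)
    (g' : U ⟶ (W : Scheme.{u})) [LocallyOfFiniteType g'] : HasComp (g' ≫ W.ι) := by
  haveI : IsAffine (W : Scheme.{u}) := hW
  obtain ⟨n, s, hs⟩ := exists_gens_appTop g'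
  let Z : Type u := ULift.{u} ℤ
  let rZ : Z →+* Γ(U, ⊤) := (Int.castRingHom _).comp ULift.ringEquiv.toRingHom
  obtain ⟨φ, hφ⟩ := exists_away_hom rZ s
  let 𝒜 := CohB1.polyGrading n Z
  have hd : (MvPolynomial.X (0 : Fin (n + 1)) : MvPolynomial (Fin (n + 1)) Z) ∈ 𝒜 1 :=
    (MvPolynomial.mem_homogeneousSubmodule 1 _).2 (MvPolynomial.isHomogeneous_X Z 0)
  let A := Spec (CommRingCat.of (Away 𝒜 (MvPolynomial.X (0 : Fin (n + 1)))))
  let aw : A ⟶ CohB1.ProjSpace n Z := Proj.awayι 𝒜 _ hd one_pos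
  haveI : IsOpenImmersion aw := inferInstanceAs (IsOpenImmersion (Proj.awayι 𝒜 _ hd one_pos))
  let u : U ⟶ A := U.toSpecΓ ≫ Spec.map (CommRingCat.ofHom φ)
  let tA := specULiftZIsTerminal.from A
  let tW := specULiftZIsTerminal.from (W : Scheme.{u})
  let toA : U ⟶ pullback tA tW := pullback.lift u g' (specULiftZIsTerminal.hom_ext _ _)
  haveI : IsAffine (pullback tA tW) := inferInstance
  haveI : IsClosedImmersion toA := by
    refine IsClosedImmersion.of_surjective_of_isAffine _ ?_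
    let K : Subring Γ(U, ⊤) := toA.appTop.hom.range
    have hg : ∀ x, g'.appTop.hom x ∈ K := fun x =>
      ⟨(pullback.snd tA tW).appTop.hom x, by
        have e : toA ≫ pullback.snd tA tW = g' := pullback.lift_snd _ _ _
        conv_rhs => rw [← e]
        rfl⟩
    have hu : ∀ a, φ a ∈ K := fun a =>
      ⟨(pullback.fst tA tW).appTop.hom ((Scheme.ΓSpecIso _).inv.hom a), by
        have e : toA ≫ pullback.fst tA tW = u := pullback.lift_fst _ _ _
        show (toA ≫ pullback.fst tA tW).appTop.hom ((Scheme.ΓSpecIso _).inv.hom a) = φ a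
        rw [e]
        show ((Scheme.ΓSpecIso _).inv ≫ (U.toSpecΓ ≫ Spec.map (CommRingCat.ofHom φ)).appTop) a = φ a
        rw [Scheme.Hom.comp_appTop, Scheme.toSpecΓ_appTop, ← Scheme.ΓSpecIso_inv_naturality_assoc,
          Iso.inv_hom_id]
        rfl⟩
    intro b
    obtain ⟨q, rfl⟩ := hs b
    show _ ∈ K
    induction q using MvPolynomial.induction_on with
    | C a => rw [MvPolynomial.eval₂Hom_C]; exact hg a
    | add p q hp hq => rw [map_add]; exact add_mem hp hq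
    | mul_X p i hp =>
      rw [map_mul, MvPolynomial.eval₂Hom_X']
      obtain ⟨a, ha⟩ := hφ i
      exact mul_mem hp (ha ▸ hu a)
  haveI : IsProper (CohB1.ProjSpace.toSpec n Z) := PnCoh.Chow.isProper_toSpec n Z
  let tS := specULiftZIsTerminal.from S
  let o : pullback tA tW ⟶ pullback (CohB1.ProjSpace.toSpec n Z) tS :=
    pullback.map _ _ _ _ aw W.ι (𝟙 _) (specULiftZIsTerminal.hom_ext _ _)
      (specULiftZIsTerminal.hom_ext _ _)
  haveI : IsOpenImmersion o := inferInstance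
  haveI : IsProper (pullback.snd (CohB1.ProjSpace.toSpec n Z) tS) :=
    MorphismProperty.pullback_snd _ _ inferInstance
  have h := hasComp_of_closedImmersion (pullback.snd (CohB1.ProjSpace.toSpec n Z) tS) o toA
  have e : toA ≫ o ≫ pullback.snd (CohB1.ProjSpace.toSpec n Z) tS = g' ≫ W.ι := by
    simp only [o, toA, pullback.lift_snd, pullback.lift_snd_assoc]
  rwa [e] at h

theorem HasComp.of_range_subset {g : U ⟶ S} {U₁ : U.Opens} (h : HasComp (U₁.ι ≫ g))
    {T : Scheme.{u}} (e : T ⟶ U) [IsOpenImmersion e] (he : Set.range e ⊆ (U₁ : Set U)) :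
    HasComp (e ≫ g) := by
  let l := IsOpenImmersion.lift U₁.ι e (by rw [Scheme.Opens.range_ι]; exact he)
  have hl : l ≫ U₁.ι = e := IsOpenImmersion.lift_fac _ _ _
  haveI : IsOpenImmersion l := by
    haveI : IsOpenImmersion (l ≫ U₁.ι) := by rw [hl]; infer_instance
    exact IsOpenImmersion.of_comp (f := l) (g := U₁.ι)
  have := h.comp l
  rwa [reassoc_of% hl] at this

/-- A disjoint union. -/
theorem hasComp_disjoint (g : U ⟶ S) (W₁ W₂ : U.Opens) (hcov : W₁ ⊔ W₂ = ⊤) (hd : W₁ ⊓ W₂ = ⊥)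
    (h₁ : HasComp (W₁.ι ≫ g)) (h₂ : HasComp (W₂.ι ≫ g)) : HasComp g := by
  obtain ⟨Y₁, j₁, p₁, hj₁, hp₁, e₁⟩ := h₁
  obtain ⟨Y₂, j₂, p₂, hj₂, hp₂, e₂⟩ := h₂
  haveI := hj₁
  haveI := hj₂
  haveI : IsEmpty ↥((W₁ ⊓ W₂ : U.Opens) : Scheme.{u}) := ⟨fun x => by
    have : x.1 ∈ (⊥ : U.Opens) := hd ▸ x.2
    exact this⟩
  obtain ⟨j, hjA, hjB⟩ := AlgGlue.exists_glue_two W₁ W₂ hcov (j₁ ≫ coprod.inl) (j₂ ≫ coprod.inr)
    (isInitialOfIsEmpty.hom_ext _ _)
  have hcv : ∀ x : U, x ∈ W₁ ∨ x ∈ W₂ := fun x => hcov.ge (trivial : x ∈ (⊤ : U.Opens))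
  have hp : IsProper (coprod.desc p₁ p₂) := by
    rw [show coprod.desc p₁ p₂ = coprod.map p₁ p₂ ≫ coprod.desc (𝟙 S) (𝟙 S) by simp]
    haveI : IsProper (coprod.map p₁ p₂) :=
      IsZariskiLocalAtTarget.coprodMap (P := @IsProper) _ _ hp₁ hp₂
    haveI : IsFinite (coprod.desc (𝟙 S) (𝟙 S)) := inferInstance
    exact MorphismProperty.comp_mem @IsProper _ _ inferInstance inferInstance
  refine ⟨Y₁ ⨿ Y₂, j, coprod.desc p₁ p₂, ?_, hp, ?_⟩
  · refine isOpenImmersion_of_injective j (fun i : Bool => if i then W₁ else W₂)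
      (fun x => (hcv x).elim (fun h => ⟨true, h⟩) fun h => ⟨false, h⟩) (fun i => ?_) ?_
    · cases i
      · show IsOpenImmersion (W₂.ι ≫ j); rw [hjB]; infer_instance
      · show IsOpenImmersion (W₁.ι ≫ j); rw [hjA]; infer_instance
    · have eA : ∀ x : W₁, j x.1 = coprod.inl (C := Scheme.{u}) (Y := Y₂) (j₁ x) := fun x =>
        congrArg (fun m : (W₁ : Scheme.{u}) ⟶ Y₁ ⨿ Y₂ => m x) hjA
      have eB : ∀ x : W₂, j x.1 = coprod.inr (C := Scheme.{u}) (X := Y₁) (j₂ x) := fun x =>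
        congrArg (fun m : (W₂ : Scheme.{u}) ⟶ Y₁ ⨿ Y₂ => m x) hjB
      have key : ∀ (x : W₁) (y : W₂), j x.1 ≠ j y.1 := fun x y e => by
        rw [eA, eB] at e
        exact Set.disjoint_left.1 (isCompl_range_inl_inr Y₁ Y₂).disjoint ⟨_, rfl⟩ ⟨_, e.symm⟩
      intro x y hxy
      rcases hcv x with hx | hx <;> rcases hcv y with hy | hy
      · exact congrArg Subtype.val ((j₁ ≫ coprod.inl (Y := Y₂)).isOpenEmbedding.injective
          (a₁ := ⟨x, hx⟩) (a₂ := ⟨y, hy⟩) ((eA ⟨x, hx⟩).symm.trans (hxy.trans (eA ⟨y, hy⟩))))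
      · exact absurd hxy (key ⟨x, hx⟩ ⟨y, hy⟩)
      · exact absurd hxy.symm (key ⟨y, hy⟩ ⟨x, hx⟩)
      · exact congrArg Subtype.val ((j₂ ≫ coprod.inr (X := Y₁)).isOpenEmbedding.injective
          (a₁ := ⟨x, hx⟩) (a₂ := ⟨y, hy⟩) ((eB ⟨x, hx⟩).symm.trans (hxy.trans (eB ⟨y, hy⟩))))
  · refine Scheme.Cover.hom_ext (U.openCoverOfIsOpenCover
      (fun i : Bool => if i then W₁ else W₂) (by
        show (⨆ i : Bool, if i then W₁ else W₂) = ⊤
        rw [iSup_bool_eq]; simpa using hcov)) _ _ fun i => ?_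
    rcases i with _ | _
    · show W₂.ι ≫ j ≫ coprod.desc p₁ p₂ = W₂.ι ≫ g
      rw [reassoc_of% hjB, coprod.inr_desc, e₂]
    · show W₁.ι ≫ j ≫ coprod.desc p₁ p₂ = W₁.ι ≫ g
      rw [reassoc_of% hjA, coprod.inl_desc, e₁]

/-- Enlarging an open to a dense one. -/
theorem hasComp_dense_open (g : U ⟶ S) {U₁ U₂ : U.Opens} (hcov : U₁ ⊔ U₂ = ⊤)
    (h₁ : HasComp (U₁.ι ≫ g)) (h₂ : HasComp (U₂.ι ≫ g)) :
    ∃ V : U.Opens, U₁ ≤ V ∧ Dense (V : Set U) ∧ HasComp (V.ι ≫ g) := by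
  let D : U.Opens := ⟨(closure (U₁ : Set U))ᶜ, isClosed_closure.isOpen_compl⟩
  have hD : D ≤ U₂ := fun x hx =>
    (hcov.ge (trivial : x ∈ (⊤ : U.Opens))).resolve_left fun h => hx (subset_closure h)
  refine ⟨U₁ ⊔ D, le_sup_left, fun x => ?_, ?_⟩
  · rw [Opens.coe_sup, closure_union]
    by_cases hx : x ∈ closure (U₁ : Set U)
    · exact Or.inl hx
    · exact Or.inr (subset_closure hx)
  · set V := U₁ ⊔ D
    refine hasComp_disjoint _ (V.ι ⁻¹ᵁ U₁) (V.ι ⁻¹ᵁ D) (eq_top_iff.2 fun x _ => x.2) ?_ ?_ ?_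
    · refine eq_bot_iff.2 fun x hx => ?_
      exact (show V.ι x ∈ D from hx.2) (subset_closure (show V.ι x ∈ U₁ from hx.1)) |>.elim
    · rw [← Category.assoc]
      refine h₁.of_range_subset _ ?_
      rintro _ ⟨x, rfl⟩
      exact x.2
    · rw [← Category.assoc]
      refine h₂.of_range_subset _ ?_
      rintro _ ⟨x, rfl⟩
      exact hD x.2

/-- Two compactifiable opens. -/
theorem hasComp_union [IsNoetherian S] (g : U ⟶ S) [IsSeparated g] [LocallyOfFiniteType g]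
    [QuasiCompact g] {U₁ U₂ : U.Opens} (hcov : U₁ ⊔ U₂ = ⊤)
    (h₁ : HasComp (U₁.ι ≫ g)) (h₂ : HasComp (U₂.ι ≫ g)) : HasComp g := by
  obtain ⟨V₁, le₁, d₁, c₁⟩ := hasComp_dense_open g hcov h₁ h₂
  obtain ⟨V₂, le₂, d₂, c₂⟩ := hasComp_dense_open g (sup_comm U₁ U₂ ▸ hcov) h₂ h₁
  obtain ⟨Y₁, j₁, p₁, hj₁, hp₁, e₁⟩ := c₁
  obtain ⟨Y₂, j₂, p₂, hj₂, hp₂, e₂⟩ := c₂
  haveI := hj₁
  haveI := hp₁
  haveI := hj₂
  haveI := hp₂
  exact exists_compactification_union g (eq_top_iff.2 (hcov.ge.trans (sup_le_sup le₁ le₂)))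
    (d₁.inter_of_isOpen_left d₂ V₁.2) j₁ p₁ e₁ j₂ p₂ e₂

/-- Nagata compactification over a Noetherian scheme. -/
theorem hasComp [IsNoetherian S] (g : U ⟶ S) [IsSeparated g] [LocallyOfFiniteType g]
    [QuasiCompact g] : HasComp g := by
  classical
  haveI : IsLocallyNoetherian U := LocallyOfFiniteType.isLocallyNoetherian g
  haveI : CompactSpace U := QuasiCompact.compactSpace_of_compactSpace g
  have hx : ∀ x : U, ∃ V : U.Opens, x ∈ V ∧ HasComp (V.ι ≫ g) := fun x => by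
    obtain ⟨_, ⟨(W : S.Opens), hW, rfl⟩, hxW, -⟩ :=
      S.isBasis_affineOpens.exists_subset_of_mem_open (Set.mem_univ (g x)) isOpen_univ
    obtain ⟨_, ⟨(V : U.Opens), hV, rfl⟩, hxV, hVW⟩ :=
      U.isBasis_affineOpens.exists_subset_of_mem_open (show x ∈ g ⁻¹' (W : Set S) from hxW)
        (g ⁻¹ᵁ W).2
    refine ⟨V, hxV, ?_⟩
    haveI : IsAffine (V : Scheme.{u}) := hV
    let g' := IsOpenImmersion.lift W.ι (V.ι ≫ g) (by
      rintro _ ⟨y, rfl⟩
      rw [Scheme.Opens.range_ι]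
      exact hVW y.2)
    have e : g' ≫ W.ι = V.ι ≫ g := IsOpenImmersion.lift_fac _ _ _
    haveI : LocallyOfFiniteType g' := by
      haveI : LocallyOfFiniteType (g' ≫ W.ι) := by rw [e]; infer_instance
      exact locallyOfFiniteType_of_comp g' W.ι
    exact e ▸ hasComp_affine hW g'
  choose V hxV hV using hx
  obtain ⟨t, ht⟩ := isCompact_univ.elim_finite_subcover (fun x => (V x : Set U))
    (fun x => (V x).2) (fun x _ => Set.mem_iUnion.2 ⟨x, hxV x⟩)
  have H : ∀ t : Finset U, HasComp ((t.sup V).ι ≫ g) := fun t => by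
    induction t using Finset.induction_on with
    | empty =>
      rw [Finset.sup_empty]
      haveI : IsEmpty ↥((⊥ : U.Opens) : Scheme.{u}) := ⟨fun x => x.2⟩
      exact ⟨_, 𝟙 _, _, inferInstance, inferInstance, Category.id_comp _⟩
    | @insert a t _ ih =>
      rw [Finset.sup_insert]
      set O := V a ⊔ t.sup V
      refine hasComp_union _ (U₁ := O.ι ⁻¹ᵁ V a) (U₂ := O.ι ⁻¹ᵁ t.sup V)
        (eq_top_iff.2 fun x _ => x.2) ?_ ?_
      · rw [← Category.assoc]
        refine (hV a).of_range_subset _ ?_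
        rintro _ ⟨x, rfl⟩
        exact x.2
      · rw [← Category.assoc]
        refine ih.of_range_subset _ ?_
        rintro _ ⟨x, rfl⟩
        exact x.2
  have htop : t.sup V = ⊤ := eq_top_iff.2 fun x _ => by
    obtain ⟨a, ha, hxa⟩ := Set.mem_iUnion₂.1 (ht (Set.mem_univ x))
    exact Finset.le_sup (f := V) ha hxa
  obtain ⟨Y, j, p, hj, hp, e⟩ := H t
  haveI := hj
  haveI : IsIso (t.sup V).ι := by rw [htop]; exact (Scheme.topIso U).isIso_hom
  exact ⟨Y, inv (t.sup V).ι ≫ j, p, inferInstance, hp, by rw [Category.assoc, e, IsIso.inv_hom_id_assoc]⟩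

end Groth.Agent.NagataLib
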