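import Groth.Agent.S1281

/-!
# Two quasi-dominating opens in one separated scheme
-/

universe u

set_option autoImplicit false
set_option linter.style.haveILetI false
set_option backward.isDefEq.respectTransparency false
set_option backward.isDefEq.respectTransparency.types false

open CategoryTheory CategoryTheory.Limits AlgebraicGeometry TopologicalSpace

namespace Groth.Agent.NagataLib

variable {S U X₁ X₂ : Scheme.{u}}

/-- The common blow-up of two schemes containing `U`. -/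
theorem exists_pair [CompactSpace S] [QuasiSeparatedSpace S]
    (gU : U ⟶ S) (g₁ : X₁ ⟶ S) (g₂ : X₂ ⟶ S)
    [IsSeparated gU] [LocallyOfFiniteType gU] [QuasiCompact gU]
    [IsSeparated g₁] [LocallyOfFiniteType g₁] [QuasiCompact g₁]
    [IsSeparated g₂] [LocallyOfFiniteType g₂] [QuasiCompact g₂]
    (j₁ : U ⟶ X₁) (j₂ : U ⟶ X₂) [IsOpenImmersion j₁] [IsOpenImmersion j₂] (hj₁ : j₁ ≫ g₁ = gU)
    (hj₂ : j₂ ≫ g₂ = gU) :
    ∃ (P₁ : ZRLim.Adm j₁.opensRange) (P₂ : ZRLim.Adm j₂.opensRange) (A A' : Scheme.{u})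
      (b : A' ⟶ A) (ι : A ⟶ pullback g₁ g₂) (o₁ : A' ⟶ P₁.obj) (o₂ : A' ⟶ P₂.obj) (u : U ⟶ A'),
      IsProper b ∧ IsClosedImmersion ι ∧ IsOpenImmersion o₁ ∧ IsOpenImmersion o₂ ∧
      o₁ ≫ P₁.π = b ≫ ι ≫ pullback.fst g₁ g₂ ∧ o₂ ≫ P₂.π = b ≫ ι ≫ pullback.snd g₁ g₂ ∧
      (u ≫ o₁) ≫ P₁.π = j₁ ∧ (u ≫ o₂) ≫ P₂.π = j₂ := by
  haveI : CompactSpace X₁ := QuasiCompact.compactSpace_of_compactSpace g₁
  haveI : CompactSpace X₂ := QuasiCompact.compactSpace_of_compactSpace g₂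
  haveI : QuasiSeparatedSpace X₁ := quasiSeparatedSpace_of_quasiSeparated g₁
  haveI : QuasiSeparatedSpace X₂ := quasiSeparatedSpace_of_quasiSeparated g₂
  haveI : CompactSpace U := QuasiCompact.compactSpace_of_compactSpace gU
  haveI : QuasiCompact j₁ := quasiCompact_of_compactSpace j₁
  haveI : QuasiCompact j₂ := quasiCompact_of_compactSpace j₂
  let t : U ⟶ pullback g₁ g₂ := pullback.lift j₁ j₂ (hj₁.trans hj₂.symm)
  have ht₁ : t ≫ pullback.fst g₁ g₂ = j₁ := pullback.lift_fst _ _ _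
  have ht₂ : t ≫ pullback.snd g₁ g₂ = j₂ := pullback.lift_snd _ _ _
  haveI : QuasiCompact t := by
    haveI : QuasiCompact (t ≫ pullback.fst g₁ g₂) := by rw [ht₁]; infer_instance
    exact QuasiCompact.of_comp t (pullback.fst g₁ g₂)
  obtain ⟨h, h₁⟩ := closure_graph (pullback.fst g₁ g₂) j₁ t ht₁
  obtain ⟨-, h₂⟩ := closure_graph (pullback.snd g₁ g₂) j₂ t ht₂
  haveI := h
  haveI := h₁
  haveI := h₂
  let φ₁ : t.image ⟶ X₁ := t.imageι ≫ pullback.fst g₁ g₂
  let φ₂ : t.image ⟶ X₂ := t.imageι ≫ pullback.snd g₁ g₂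
  haveI : CompactSpace t.image := QuasiCompact.compactSpace_of_compactSpace φ₁
  have hc₁ : IsCompact (j₁.opensRange : Set X₁) := isCompact_range j₁.continuous
  have hc₂ : IsCompact (j₂.opensRange : Set X₂) := isCompact_range j₂.continuous
  have hpre : ∀ {Y : Scheme.{u}} (φ : t.image ⟶ Y) (j : U ⟶ Y) [IsOpenImmersion j]
      [IsIso (φ ∣_ j.opensRange)], t.toImage ≫ φ = j → φ ⁻¹ᵁ j.opensRange = t.toImage.opensRange := by
    intro Y φ j _ _ e
    refine TopologicalSpace.Opens.ext (Set.ext fun x => ⟨fun hx => ?_, ?_⟩)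
    · obtain ⟨u, hu⟩ := hx
      have hu' : φ (t.toImage u) = φ x := by rw [← Scheme.Hom.comp_apply, e]; exact hu
      have hi : Function.Injective (φ ∣_ j.opensRange) :=
        (asIso (φ ∣_ j.opensRange)).schemeIsoToHomeo.injective
      have h' : t.toImage u ∈ φ ⁻¹ᵁ j.opensRange := ⟨u, hu.trans hu'.symm⟩
      have := hi (a₁ := ⟨t.toImage u, h'⟩) (a₂ := ⟨x, ⟨u, hu⟩⟩)
        (ZRLim.restrict_eq φ j.opensRange ⟨t.toImage u, h'⟩
          ((φ ∣_ j.opensRange) ⟨x, ⟨u, hu⟩⟩) (hu'.trans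
          (congrArg (fun m => m (⟨x, ⟨u, hu⟩⟩ : φ ⁻¹ᵁ j.opensRange))
            (morphismRestrict_ι φ j.opensRange)).symm))
      exact ⟨u, congrArg Subtype.val this⟩
    · rintro ⟨u, rfl⟩
      exact ⟨u, by rw [← Scheme.Hom.comp_apply, e]⟩
  have e₁ : t.toImage ≫ φ₁ = j₁ := by simp only [φ₁, Scheme.Hom.toImage_imageι_assoc, ht₁]
  have e₂ : t.toImage ≫ φ₂ = j₂ := by simp only [φ₂, Scheme.Hom.toImage_imageι_assoc, ht₂]
  obtain ⟨I, A', b, P₁, P₂, o₁, o₂, hb, hbI, hbp, ho₁, ho₂, w₁, w₂⟩ :=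
    exists_two_openImmersions φ₁ φ₂ j₁.opensRange j₂.opensRange hc₁ hc₂
      t.toImage.opensRange (hpre φ₁ j₁ e₁) (hpre φ₂ j₂ e₂)
  haveI := ho₁
  haveI := ho₂
  haveI := hbp
  have w : o₁ ≫ (P₁.π ≫ g₁) = o₂ ≫ (P₂.π ≫ g₂) := by
    rw [reassoc_of% w₁, reassoc_of% w₂]
    simp only [φ₁, φ₂, Category.assoc, pullback.condition]
  clear w
  haveI : IsIso (b ∣_ t.toImage.opensRange) := isIso_restrict_of_disjoint hb _ hbI.2
  obtain ⟨u, hu⟩ := S1281.exists_lift t.toImage b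
  exact ⟨P₁, P₂, t.image, A', b, t.imageι, o₁, o₂, u, hbp, inferInstance, ho₁, ho₂, w₁, w₂,
    by rw [Category.assoc, w₁, reassoc_of% hu, e₁], by rw [Category.assoc, w₂, reassoc_of% hu, e₂]⟩

/-- A lift of an open immersion to an admissible blow-up is the standard one. -/
theorem lift_adm {Y : Scheme.{u}} (j : U ⟶ Y) [IsOpenImmersion j] (K : ZRLim.Adm j.opensRange)
    (v : U ⟶ K.obj) (hv : v ≫ K.π = j) :
    IsOpenImmersion v ∧ IsSchemeTheoreticallyDominant v := by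
  have e : v = j.isoOpensRange.hom ≫ inv (K.π ∣_ j.opensRange) ≫ (K.π ⁻¹ᵁ j.opensRange).ι := by
    refine BlowUpLib.isBlowUp_hom_ext K.isBlowUp ?_ ?_
    · simp only [Category.assoc, hv, ← morphismRestrict_ι, IsIso.inv_hom_id_assoc,
        Scheme.Hom.isoOpensRange_hom_ι]
    · simp only [Category.assoc, ← morphismRestrict_ι, IsIso.inv_hom_id_assoc,
        Scheme.Hom.isoOpensRange_hom_ι]
      exact BlowUpX.isEffCartier_comap_of_avoid K.1 j fun y hy =>
        Set.disjoint_left.1 K.isAdmissible.2 hy ⟨y, rfl⟩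
  rw [e]
  exact ⟨inferInstance, inferInstance⟩

/-- Sections vanishing on an open cover by two pieces vanish. -/
theorem eq_zero_of_cover {G A B : Scheme.{u}} (i : A ⟶ G) (k : B ⟶ G) [IsOpenImmersion i]
    [IsOpenImmersion k] (hcov : ∀ z, z ∈ Set.range i ∨ z ∈ Set.range k) {W : G.Opens} (a : Γ(G, W))
    (hi : i.app W a = 0) (hk : k.app W a = 0) : a = 0 := by
  refine TopCat.Presheaf.section_ext G.sheaf W a 0 fun x hx => ?_
  have key : ∀ {C : Scheme.{u}} (c : C ⟶ G) [IsOpenImmersion c] (y : C) (hy : c y ∈ W),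
      c.app W a = 0 → G.presheaf.germ W (c y) hy a = 0 := by
    intro C c _ y hy h
    refine (ConcreteCategory.bijective_of_isIso (c.stalkMap y)).1 ?_
    rw [Scheme.Hom.germ_stalkMap_apply, h, map_zero, map_zero]
  rw [map_zero]
  rcases hcov x with ⟨y, rfl⟩ | ⟨y, rfl⟩
  · exact key i y hx hi
  · exact key k y hx hk

/-- Schematic density can be checked on a cover by two opens. -/
theorem dominant_of_cover {G A B : Scheme.{u}} (i : A ⟶ G) (k : B ⟶ G) [IsOpenImmersion i]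
    [IsOpenImmersion k] (hcov : ∀ z, z ∈ Set.range i ∨ z ∈ Set.range k) (j : U ⟶ G) [QuasiCompact j]
    (a : U ⟶ A) (c : U ⟶ B) [QuasiCompact a] [QuasiCompact c] [IsSchemeTheoreticallyDominant a]
    [IsSchemeTheoreticallyDominant c] (ha : a ≫ i = j) (hc : c ≫ k = j) :
    IsSchemeTheoreticallyDominant j := by
  refine ⟨le_bot_iff.1 fun W x hx => ?_⟩
  rw [Scheme.Hom.ker_apply, RingHom.mem_ker] at hx
  rw [Scheme.IdealSheafData.ideal_bot, Pi.bot_apply, Ideal.mem_bot]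
  refine eq_zero_of_cover i k hcov x ?_ ?_
  · refine a.app_injective _ ?_
    rw [map_zero]
    subst ha
    rw [Scheme.Hom.comp_app] at hx
    exact hx
  · refine c.app_injective _ ?_
    rw [map_zero]
    subst hc
    rw [Scheme.Hom.comp_app] at hx
    exact hx

/-- A proper morphism on one of two glued opens has closed graph. -/
theorem isClosed_graph_glued {G A B V X : Scheme.{u}} (q : G ⟶ S) [IsSeparated q] (g : X ⟶ S)
    [IsSeparated g] (i : A ⟶ G) (k : B ⟶ G) [IsOpenImmersion i] [IsOpenImmersion k]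
    (hcov : ∀ z, z ∈ Set.range i ∨ z ∈ Set.range k)
    (a : V ⟶ A) (c : V ⟶ B) (hw : a ≫ i = c ≫ k)
    (hint : ∀ x y, i x = k y → ∃ v, a v = x ∧ c v = y)
    (p : (i.opensRange : Scheme.{u}) ⟶ X) (hp : i.opensRange.ι ≫ q = p ≫ g)
    (d : V ⟶ pullback (k ≫ q) g) (hd : IsClosed (Set.range d))
    (hd₁ : d ≫ pullback.fst _ _ = c) (hd₂ : d ≫ pullback.snd _ _ = a ≫ i.isoOpensRange.hom ≫ p) :
    IsClosed (Set.range (fun x => pullback.lift (f := q) (g := g) i.opensRange.ι p hp x)) := by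
  let R := i.opensRange
  let l := pullback.lift (f := q) (g := g) R.ι p hp
  let Ω : (pullback q g).Opens := pullback.fst q g ⁻¹ᵁ R
  show IsClosed (Set.range l)
  rw [← isOpen_compl_iff, isOpen_iff_forall_mem_open]
  intro ζ hζ
  rcases hcov (pullback.fst q g ζ) with hA | ⟨y, hy⟩
  · let l' : (R : Scheme.{u}) ⟶ (Ω : Scheme.{u}) := IsOpenImmersion.lift Ω.ι l (by
      rintro _ ⟨x, rfl⟩
      rw [Scheme.Opens.range_ι]
      show pullback.fst q g (l x) ∈ R
      rw [← Scheme.Hom.comp_apply, pullback.lift_fst]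
      exact x.2)
    have hl' : l' ≫ Ω.ι = l := IsOpenImmersion.lift_fac _ _ _
    have hsec : l' ≫ (pullback.fst q g ∣_ R) = 𝟙 _ := by
      rw [← cancel_mono R.ι, Category.assoc, morphismRestrict_ι, reassoc_of% hl', pullback.lift_fst,
        Category.id_comp]
    haveI : IsClosedImmersion l' := by
      haveI : IsClosedImmersion (l' ≫ (pullback.fst q g ∣_ R)) := by rw [hsec]; infer_instance
      exact IsClosedImmersion.of_comp l' (pullback.fst q g ∣_ R)
    refine ⟨Ω.ι '' (Set.range l')ᶜ, ?_,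
      Ω.ι.isOpenEmbedding.isOpenMap _ l'.isClosedEmbedding.isClosed_range.isOpen_compl,
      ⟨⟨ζ, hA⟩, fun ⟨x, hx⟩ => hζ ⟨x, by
        rw [← hl', Scheme.Hom.comp_apply, hx]; rfl⟩, rfl⟩⟩
    rintro _ ⟨z, hz, rfl⟩ ⟨x, hx⟩
    refine hz ⟨x, Ω.ι.isOpenEmbedding.injective ?_⟩
    rw [← hx, ← hl']
    rfl
  · let m : pullback (k ≫ q) g ⟶ pullback q g :=
      pullback.map _ _ _ _ k (𝟙 X) (𝟙 S) (by simp) (by simp)
    haveI : IsOpenImmersion m := inferInstance
    obtain ⟨w, hw'⟩ : ζ ∈ Set.range m := by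
      rw [Scheme.Pullback.range_map]
      exact ⟨⟨y, hy⟩, pullback.snd q g ζ, by simp⟩
    have he : d ≫ m = a ≫ i.isoOpensRange.hom ≫ l := by
      apply pullback.hom_ext
      · simp only [m, l, R, Category.assoc, pullback.lift_fst, Scheme.Hom.isoOpensRange_hom_ι]
        rw [reassoc_of% hd₁, ← hw]
      · simp only [m, l, R, Category.assoc, pullback.lift_snd, Category.comp_id]
        exact hd₂
    refine ⟨m '' (Set.range d)ᶜ, ?_, m.isOpenEmbedding.isOpenMap _ hd.isOpen_compl, w, ?_, hw'⟩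
    · rintro _ ⟨z, hz, rfl⟩ ⟨x, hx⟩
      have h₁ : R.ι x = k (pullback.fst (k ≫ q) g z) := by
        have e := congrArg (pullback.fst q g) hx
        rwa [← Scheme.Hom.comp_apply, ← Scheme.Hom.comp_apply, pullback.lift_fst,
          pullback.lift_fst] at e
      obtain ⟨a', ha'⟩ := x.2
      obtain ⟨v, hv₁, -⟩ := hint a' _ (ha'.trans h₁)
      have hx' : i.isoOpensRange.hom (a v) = x := Subtype.ext (by
        rw [hv₁]
        exact (congrArg (fun f : A ⟶ G => f a') i.isoOpensRange_hom_ι).trans ha')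
      refine hz ⟨v, m.isOpenEmbedding.injective ?_⟩
      rw [← Scheme.Hom.comp_apply, he, Scheme.Hom.comp_apply, Scheme.Hom.comp_apply, hx', hx]
    · rintro ⟨v, rfl⟩
      exact hζ ⟨i.isoOpensRange.hom (a v), by
        rw [← hw', ← Scheme.Hom.comp_apply d, he]; rfl⟩

end Groth.Agent.NagataLib
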