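import Groth.Agent.NagataLib.Basic

/-!
# A compactification of a modification
-/

universe u

set_option autoImplicit false
set_option linter.style.haveILetI false
set_option backward.isDefEq.respectTransparency false
set_option backward.isDefEq.respectTransparency.types false

open CategoryTheory CategoryTheory.Limits AlgebraicGeometry TopologicalSpace
open Scheme (IdealSheafData)

namespace Groth.Agent.NagataLib

variable {S U : Scheme.{u}} (g : U ⟶ S) (U₁ U₂ : U.Opens)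

/-- A proper `Y` containing `U₁` and a proper modification of `U₂`, glued over `U₁ ⊓ U₂`. -/
structure Pre where
  Y : Scheme.{u}
  gY : Y ⟶ S
  proper : IsProper gY
  A : Y.Opens
  P : Y.Opens
  πA : (A : Scheme.{u}) ⟶ (U₁ : Scheme.{u})
  isoA : IsIso πA
  πP : (P : Scheme.{u}) ⟶ (U₂ : Scheme.{u})
  properP : IsProper πP
  overA : πA ≫ U₁.ι ≫ g = A.ι ≫ gY
  overP : πP ≫ U₂.ι ≫ g = P.ι ≫ gY
  memP : ∀ a : A, (πA a).1 ∈ U₂ → a.1 ∈ P
  memA : ∀ p : P, (πP p).1 ∈ U₁ → p.1 ∈ A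
  agree : Y.homOfLE (inf_le_left : A ⊓ P ≤ A) ≫ πA ≫ U₁.ι =
    Y.homOfLE (inf_le_right : A ⊓ P ≤ P) ≫ πP ≫ U₂.ι
  dense : Dense ((A ⊓ P : Y.Opens) : Set Y)

variable {g U₁ U₂}

attribute [instance] Pre.proper Pre.isoA Pre.properP

namespace Pre

variable (D : Pre g U₁ U₂)

theorem isLocallyNoetherian [IsNoetherian S] : IsLocallyNoetherian D.Y :=
  LocallyOfFiniteType.isLocallyNoetherian D.gY

theorem isNoetherian [IsNoetherian S] : IsNoetherian D.Y := by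
  haveI := D.isLocallyNoetherian
  haveI : CompactSpace D.Y := QuasiCompact.compactSpace_of_compactSpace D.gY
  constructor

theorem agree_apply (x : D.Y) (hA : x ∈ D.A) (hP : x ∈ D.P) :
    (D.πA ⟨x, hA⟩).1 = (D.πP ⟨x, hP⟩).1 := by
  have h := congrArg (fun φ => φ ⟨x, hA, hP⟩) D.agree
  dsimp only at h
  have e1 : D.Y.homOfLE (inf_le_left : D.A ⊓ D.P ≤ D.A) ⟨x, hA, hP⟩ = ⟨x, hA⟩ :=
    Subtype.ext (Scheme.homOfLE_apply _ _)
  have e2 : D.Y.homOfLE (inf_le_right : D.A ⊓ D.P ≤ D.P) ⟨x, hA, hP⟩ = ⟨x, hP⟩ :=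
    Subtype.ext (Scheme.homOfLE_apply _ _)
  exact Eq.trans (congrArg (fun z => (D.πA z).1) e1.symm)
    (h.trans (congrArg (fun z => (D.πP z).1) e2))

/-- Admissible blow-up of the compactification. -/
noncomputable def blowUp [IsNoetherian S] {Y' : Scheme.{u}} (c : Y' ⟶ D.Y) (J : D.Y.IdealSheafData)
    (hc : BlowUp.IsBlowUp c J) (hA : Disjoint (J.support : Set D.Y) (D.A : Set D.Y))
    (hP : Disjoint (J.support : Set D.Y) (D.P : Set D.Y)) : Pre g U₁ U₂ where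
  Y := Y'
  gY := c ≫ D.gY
  proper := by
    haveI := D.isLocallyNoetherian
    haveI := BlowUpLib.isProper_of_isBlowUp J hc (ft_of_noetherian J)
    infer_instance
  A := c ⁻¹ᵁ D.A
  P := c ⁻¹ᵁ D.P
  πA := (c ∣_ D.A) ≫ D.πA
  isoA := by
    haveI := isIso_restrict_of_disjoint hc D.A hA
    infer_instance
  πP := (c ∣_ D.P) ≫ D.πP
  properP := by
    haveI := isIso_restrict_of_disjoint hc D.P hP
    infer_instance
  overA := by rw [Category.assoc, D.overA, morphismRestrict_ι_assoc]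
  overP := by rw [Category.assoc, D.overP, morphismRestrict_ι_assoc]
  memP a h := D.memP _ h |> fun h' => by
    have e := congrArg (fun φ => φ a) (morphismRestrict_ι c D.A)
    show c a.1 ∈ D.P
    exact e ▸ h'
  memA p h := D.memA _ h |> fun h' => by
    have e := congrArg (fun φ => φ p) (morphismRestrict_ι c D.P)
    show c p.1 ∈ D.A
    exact e ▸ h'
  agree := by
    have hr : (c ⁻¹ᵁ D.A ⊓ c ⁻¹ᵁ D.P : Y'.Opens) ≤ c ⁻¹ᵁ (D.A ⊓ D.P) := fun _ h => h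
    have e1 : Y'.homOfLE (inf_le_left : c ⁻¹ᵁ D.A ⊓ c ⁻¹ᵁ D.P ≤ c ⁻¹ᵁ D.A) ≫ (c ∣_ D.A) =
        c.resLE (D.A ⊓ D.P) _ hr ≫ D.Y.homOfLE inf_le_left := by
      rw [← cancel_mono D.A.ι]
      simp only [Category.assoc, morphismRestrict_ι, Scheme.homOfLE_ι, Scheme.homOfLE_ι_assoc,
        Scheme.Hom.resLE_comp_ι]
    have e2 : Y'.homOfLE (inf_le_right : c ⁻¹ᵁ D.A ⊓ c ⁻¹ᵁ D.P ≤ c ⁻¹ᵁ D.P) ≫ (c ∣_ D.P) =
        c.resLE (D.A ⊓ D.P) _ hr ≫ D.Y.homOfLE inf_le_right := by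
      rw [← cancel_mono D.P.ι]
      simp only [Category.assoc, morphismRestrict_ι, Scheme.homOfLE_ι, Scheme.homOfLE_ι_assoc,
        Scheme.Hom.resLE_comp_ι]
    simp only [Category.assoc, reassoc_of% e1, reassoc_of% e2, D.agree]
  dense := by
    haveI := BlowUpLib.isIso_restrict hc (ModPair.interior J) le_rfl
    have hd : Dense ((c ⁻¹ᵁ ModPair.interior J : Y'.Opens) : Set Y') := by
      have e : c ⁻¹ᵁ ModPair.interior J = ModPair.interior (J.comap c) := by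
        refine TopologicalSpace.Opens.ext (Set.ext fun w => ?_)
        show c w ∉ (J.support : Set D.Y) ↔ w ∉ ((J.comap c).support : Set Y')
        rw [IdealSheafData.support_comap]
        rfl
      rw [e]
      haveI := ModPairLib.isSchemeTheoreticallyDominant_interior hc.1
      haveI := ModPairLib.isAffineHom_interior (ModPairLib.isLocPrincipal_of_isEffCartier hc.1)
      have := dense_range_of_dom (ModPair.interior (J.comap c)).ι
      rwa [Scheme.Opens.range_ι] at this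
    exact dense_preimage c (ModPair.interior J) hd (D.A ⊓ D.P) D.dense

end Pre

/-- A modification of `U₂` mapping to the compactification of `U₁`. -/
theorem exists_mod [IsNoetherian S] [IsSeparated g] [LocallyOfFiniteType g] [QuasiCompact g]
    {Y₁ Y₂ : Scheme.{u}} (j₁ : (U₁ : Scheme.{u}) ⟶ Y₁) (p₁ : Y₁ ⟶ S) [IsOpenImmersion j₁]
    [IsProper p₁] (h₁ : j₁ ≫ p₁ = U₁.ι ≫ g)
    (j₂ : (U₂ : Scheme.{u}) ⟶ Y₂) (p₂ : Y₂ ⟶ S) [IsOpenImmersion j₂]
    [IsProper p₂] (h₂ : j₂ ≫ p₂ = U₂.ι ≫ g) :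
    ∃ (T : Scheme.{u}) (cT : T ⟶ (U₂ : Scheme.{u})) (hT : T ⟶ Y₁) (N : T.Opens)
      (b : (N : Scheme.{u}) ⟶ (U₁ : Scheme.{u})),
      IsProper cT ∧ IsOpenImmersion b ∧ N.ι ≫ hT = b ≫ j₁ ∧ N.ι ≫ cT ≫ U₂.ι = b ≫ U₁.ι ∧
      hT ≫ p₁ = cT ≫ U₂.ι ≫ g ∧ (∀ t, hT t ∈ j₁.opensRange → t ∈ N) ∧ Dense (N : Set T) ∧
      (∀ t, (cT t).1 ∈ U₁ → t ∈ N) ∧ (∀ w : U₁, w.1 ∈ U₂ → ∃ n, b n = w) := by
  haveI : IsLocallyNoetherian Y₂ := LocallyOfFiniteType.isLocallyNoetherian p₂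
  haveI : CompactSpace Y₂ := QuasiCompact.compactSpace_of_compactSpace p₂
  haveI : IsNoetherian Y₂ := by constructor
  haveI : IsLocallyNoetherian Y₁ := LocallyOfFiniteType.isLocallyNoetherian p₁
  haveI : CompactSpace Y₁ := QuasiCompact.compactSpace_of_compactSpace p₁
  haveI : IsNoetherian Y₁ := by constructor
  haveI : IsLocallyNoetherian U := LocallyOfFiniteType.isLocallyNoetherian g
  haveI : CompactSpace U := QuasiCompact.compactSpace_of_compactSpace g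
  haveI : IsNoetherian U := by constructor
  let V : U.Opens := U₁ ⊓ U₂
  let v₁ := U.homOfLE (inf_le_left : V ≤ U₁)
  let v₂ := U.homOfLE (inf_le_right : V ≤ U₂)
  let R₂ := j₂.opensRange
  let O₂ : Y₂.Opens := (v₂ ≫ j₂).opensRange
  have hO₂R : O₂ ≤ R₂ := by rintro _ ⟨w, rfl⟩; exact ⟨v₂ w, rfl⟩
  let s : (O₂ : Scheme.{u}) ⟶ Y₁ := (v₂ ≫ j₂).isoOpensRange.inv ≫ v₁ ≫ j₁
  have hs : s ≫ p₁ = O₂.ι ≫ p₂ := by
    rw [← Scheme.Hom.isoOpensRange_inv_comp (v₂ ≫ j₂)]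
    simp only [s, v₁, v₂, Category.assoc, h₁, h₂, Scheme.homOfLE_ι_assoc]
  obtain ⟨K, h, hK, hKs⟩ := exists_extend p₂ p₁ O₂ (NoetherianSpace.isCompact _) s hs
  let P₀ : K.obj.Opens := K.π ⁻¹ᵁ R₂
  let cP : (P₀ : Scheme.{u}) ⟶ (U₂ : Scheme.{u}) := (K.π ∣_ R₂) ≫ j₂.isoOpensRange.inv
  have hcP : cP ≫ j₂ = P₀.ι ≫ K.π := by
    rw [Category.assoc]
    erw [Scheme.Hom.isoOpensRange_inv_comp j₂, morphismRestrict_ι]
  let N : (P₀ : Scheme.{u}).Opens := P₀.ι ⁻¹ᵁ (K.π ⁻¹ᵁ O₂)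
  have hNle : K.π ⁻¹ᵁ O₂ ≤ P₀ := fun w hw => hO₂R hw
  have hNd : Dense (N : Set P₀) := by
    exact (dense_preimage_adm K).preimage P₀.ι.isOpenEmbedding.isOpenMap
  let e₀ : (N : Scheme.{u}) ⟶ ((K.π ⁻¹ᵁ O₂ : K.obj.Opens) : Scheme.{u}) :=
    P₀.ι.resLE (K.π ⁻¹ᵁ O₂) N le_rfl
  let bV : (N : Scheme.{u}) ⟶ (V : Scheme.{u}) :=
    e₀ ≫ (K.π ∣_ O₂) ≫ (v₂ ≫ j₂).isoOpensRange.inv
  haveI : IsOpenImmersion e₀ := by
    haveI : IsOpenImmersion (e₀ ≫ (K.π ⁻¹ᵁ O₂).ι) := by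
      simp only [e₀, Scheme.Hom.resLE_comp_ι]; infer_instance
    exact IsOpenImmersion.of_comp (f := e₀) (g := (K.π ⁻¹ᵁ O₂).ι)
  let b : (N : Scheme.{u}) ⟶ (U₁ : Scheme.{u}) := bV ≫ v₁
  have he₀ : e₀ ≫ (K.π ⁻¹ᵁ O₂).ι = N.ι ≫ P₀.ι := Scheme.Hom.resLE_comp_ι _ _
  have hbj : N.ι ≫ P₀.ι ≫ h = b ≫ j₁ := by
    rw [← reassoc_of% he₀, hKs]
    simp only [b, bV, s, Category.assoc]
  have hbV : bV ≫ v₂ ≫ j₂ = N.ι ≫ P₀.ι ≫ K.π := by
    rw [← reassoc_of% he₀, ← morphismRestrict_ι K.π O₂]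
    simp only [bV, Category.assoc]
    erw [Scheme.Hom.isoOpensRange_inv_comp (v₂ ≫ j₂)]
  have hbV₂ : bV ≫ v₂ = N.ι ≫ cP := by
    refine (cancel_mono j₂).1 ((Category.assoc _ _ _).trans (hbV.trans ?_))
    rw [Category.assoc, hcP]
  haveI : IsOpenImmersion b := by
    haveI := K.isIso_restrict
    infer_instance
  -- the part of `P₀` over `U₁`
  have hMN : ∀ t : P₀, h t.1 ∈ j₁.opensRange → t ∈ N := fun t ht => by
    let M : (P₀ : Scheme.{u}).Opens := (P₀.ι ≫ h) ⁻¹ᵁ j₁.opensRange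
    let m₁ : (M : Scheme.{u}) ⟶ U := ((P₀.ι ≫ h) ∣_ j₁.opensRange) ≫ j₁.isoOpensRange.inv ≫ U₁.ι
    let m₂ : (M : Scheme.{u}) ⟶ U := M.ι ≫ cP ≫ U₂.ι
    have hm : m₁ ≫ g = m₂ ≫ g := by
      simp only [m₁, m₂, Category.assoc, ← h₁, ← h₂, reassoc_of% hcP]
      rw [Scheme.Hom.isoOpensRange_inv_comp_assoc j₁, morphismRestrict_ι_assoc, Category.assoc, hK]
    have hNM : N ≤ M := fun w hw => by
      refine ⟨b ⟨w, hw⟩, ?_⟩
      exact (congrArg (fun φ => φ ⟨w, hw⟩) hbj).symm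
    let w : (N : Scheme.{u}) ⟶ (M : Scheme.{u}) := (P₀ : Scheme.{u}).homOfLE hNM
    have hw : w ≫ m₁ = w ≫ m₂ := by
      have e : w ≫ ((P₀.ι ≫ h) ∣_ j₁.opensRange) ≫ j₁.isoOpensRange.inv = b := by
        rw [← cancel_mono j₁]
        simp only [Category.assoc, Scheme.Hom.isoOpensRange_inv_comp j₁, morphismRestrict_ι, w]
        rw [Scheme.homOfLE_ι_assoc, hbj]
      simp only [m₁, m₂, reassoc_of% e, w, Scheme.homOfLE_ι_assoc, ← reassoc_of% hbV₂, b, v₁, v₂,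
        Category.assoc, Scheme.homOfLE_ι]
    have hcl : (⟨t, ht⟩ : M) ∈ closure (Set.range w) := by
      have : Dense (Set.range w) := by
        have e : Set.range w = M.ι ⁻¹' (N : Set P₀) := by
          refine subset_antisymm ?_ fun q hq => ⟨⟨q.1, hq⟩, Subtype.ext (Scheme.homOfLE_apply _ _)⟩
          rintro _ ⟨q, rfl⟩
          show (w q).1 ∈ N
          rw [show (w q).1 = q.1 from Scheme.homOfLE_apply _ _]
          exact q.2
        rw [e]
        exact hNd.preimage M.ι.isOpenEmbedding.isOpenMap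
      exact this _
    have e := apply_eq_of_closure g hm w hw hcl
    have h2 : (cP t).1 ∈ U₁ := by
      have e' : m₁ ⟨t, ht⟩ ∈ U₁ :=
        (j₁.isoOpensRange.inv (((P₀.ι ≫ h) ∣_ j₁.opensRange) ⟨t, ht⟩)).2
      rw [e] at e'
      exact e'
    refine ⟨⟨(cP t).1, h2, (cP t).2⟩, ?_⟩
    show (v₂ ≫ j₂) _ = K.π t.1
    rw [Scheme.Hom.comp_apply, show v₂ ⟨(cP t).1, h2, (cP t).2⟩ = cP t from
      Subtype.ext (Scheme.homOfLE_apply _ _), ← Scheme.Hom.comp_apply, hcP]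
    rfl
  haveI := BlowUpLib.isProper_of_isBlowUp K.1 K.isBlowUp K.2.1
  haveI := K.isIso_restrict
  refine ⟨(P₀ : Scheme.{u}), cP, P₀.ι ≫ h, N, b, inferInstance, inferInstance, hbj, ?_, ?_, hMN, hNd,
    fun t ht => ?_, fun w hw => ?_⟩
  · rw [← reassoc_of% hbV₂]
    simp only [b, v₁, v₂, Category.assoc, Scheme.homOfLE_ι]
  · rw [Category.assoc, hK, ← h₂, reassoc_of% hcP]
  · refine ⟨⟨(cP t).1, ht, (cP t).2⟩, ?_⟩
    show (v₂ ≫ j₂) _ = K.π t.1
    rw [Scheme.Hom.comp_apply, show v₂ ⟨(cP t).1, ht, (cP t).2⟩ = cP t from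
      Subtype.ext (Scheme.homOfLE_apply _ _), ← Scheme.Hom.comp_apply, hcP]
    rfl
  · haveI : IsIso e₀ := by
      haveI : Epi e₀.base := (TopCat.epi_iff_surjective _).2 fun x => by
        refine ⟨⟨⟨x.1, hNle x.2⟩, x.2⟩, Subtype.ext ?_⟩
        exact congrArg (fun φ : (N : Scheme.{u}) ⟶ K.obj => φ ⟨⟨x.1, hNle x.2⟩, x.2⟩) he₀
      exact IsOpenImmersion.isIso e₀
    obtain ⟨n, hn⟩ := bV.surjective ⟨w.1, w.2, hw⟩
    exact ⟨n, by rw [Scheme.Hom.comp_apply, hn]; exact Subtype.ext (Scheme.homOfLE_apply _ _)⟩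

/-- The open immersion of `U₁` and a modification of `U₂` into a proper scheme. -/
theorem exists_pre [IsNoetherian S] [IsSeparated g] [LocallyOfFiniteType g] [QuasiCompact g]
    (hd : Dense ((U₁ ⊓ U₂ : U.Opens) : Set U))
    {Y₁ Y₂ : Scheme.{u}} (j₁ : (U₁ : Scheme.{u}) ⟶ Y₁) (p₁ : Y₁ ⟶ S) [IsOpenImmersion j₁]
    [IsProper p₁] (h₁ : j₁ ≫ p₁ = U₁.ι ≫ g)
    (j₂ : (U₂ : Scheme.{u}) ⟶ Y₂) (p₂ : Y₂ ⟶ S) [IsOpenImmersion j₂]
    [IsProper p₂] (h₂ : j₂ ≫ p₂ = U₂.ι ≫ g) : Nonempty (Pre g U₁ U₂) := by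
  obtain ⟨T, cT, hT, N, b, hc, hb, hw, hwU, hTS, hMN, hNd, hcN, hbs⟩ :=
    exists_mod (g := g) j₁ p₁ h₁ j₂ p₂ h₂
  haveI : IsLocallyNoetherian Y₁ := LocallyOfFiniteType.isLocallyNoetherian p₁
  haveI : CompactSpace Y₁ := QuasiCompact.compactSpace_of_compactSpace p₁
  haveI : IsNoetherian Y₁ := by constructor
  haveI : IsLocallyNoetherian U := LocallyOfFiniteType.isLocallyNoetherian g
  haveI : CompactSpace U := QuasiCompact.compactSpace_of_compactSpace g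
  haveI : IsNoetherian U := by constructor
  haveI : IsSeparated hT := by
    haveI : IsSeparated (hT ≫ p₁) := by rw [hTS]; infer_instance
    exact IsSeparated.of_comp hT p₁
  haveI : LocallyOfFiniteType hT := by
    haveI : LocallyOfFiniteType (hT ≫ p₁) := by rw [hTS]; infer_instance
    exact locallyOfFiniteType_of_comp hT p₁
  let Xp := glue N.ι b
  let f : Xp ⟶ Y₁ := glueDesc hw
  haveI : IsSeparated f := isSeparated_glue hw (by
    have hsur : Set.range (pullback.lift N.ι b hw) = Set.univ := Set.eq_univ_of_forall fun z => by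
      let i := pullback.fst hT j₁
      have hz : i z ∈ N := hMN _ ⟨pullback.snd hT j₁ z, by
        rw [← Scheme.Hom.comp_apply, ← pullback.condition]; rfl⟩
      refine ⟨⟨i z, hz⟩, i.isOpenEmbedding.injective ?_⟩
      rw [← Scheme.Hom.comp_apply, pullback.lift_fst]
      rfl
    rw [hsur]
    exact isClosed_univ)
  haveI : LocallyOfFiniteType f := locallyOfFiniteType_glue hw
  haveI : CompactSpace T := QuasiCompact.compactSpace_of_compactSpace (cT ≫ U₂.ι)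
  haveI : CompactSpace (U₁ : Scheme.{u}) := isCompact_iff_compactSpace.mp (NoetherianSpace.isCompact _)
  haveI : CompactSpace Xp := compactSpace_glue
  haveI : QuasiCompact f := quasiCompact_of_compactSpace f
  have hinr : pushout.inr N.ι b ≫ f = j₁ := inr_glueDesc hw
  haveI : IsOpenImmersion (pushout.inr N.ι b ≫ f) := by rw [hinr]; infer_instance
  let R₁ := (pushout.inr N.ι b ≫ f).opensRange
  have hR₁ : R₁ = j₁.opensRange := by
    refine TopologicalSpace.Opens.ext ?_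
    show Set.range (pushout.inr N.ι b ≫ f) = Set.range j₁
    rw [hinr]
  have hpre : f ⁻¹ᵁ R₁ = (pushout.inr N.ι b).opensRange := by
    refine le_antisymm (fun x hx => ?_) ?_
    · rcases glue_cover N.ι b x with ⟨t, rfl⟩ | h
      · have ht : hT t ∈ j₁.opensRange := by
          rw [← hR₁]
          have e : f (pushout.inl N.ι b t) = hT t := by
            rw [← Scheme.Hom.comp_apply, inl_glueDesc]
          exact e ▸ hx
        refine ⟨b ⟨t, hMN t ht⟩, ?_⟩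
        rw [← Scheme.Hom.comp_apply, ← pushout.condition]
        rfl
      · exact h
    · rintro _ ⟨a, rfl⟩
      exact ⟨a, Scheme.Hom.comp_apply _ _ _⟩
  haveI : IsIso (f ∣_ R₁) := isIso_restrict_opensRange (pushout.inr N.ι b) f hpre
  obtain ⟨K₁, hK₁⟩ := ZRLim.Bir.exists_isOpenImmersion f (U := R₁) (NoetherianSpace.isCompact _)
  let B := ZRLim.Bir.pull f K₁
  let q := ZRLim.Bir.q f K₁
  haveI : IsOpenImmersion q := hK₁
  let π : Xp ⟶ U := glueDesc hwU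
  have hcond : ∀ n : N, pushout.inl N.ι b n.1 = pushout.inr N.ι b (b n) := fun n =>
    congrArg (fun φ : (N : Scheme.{u}) ⟶ Xp => φ n) (pushout.condition (f := N.ι) (g := b))
  let rA := (pushout.inr N.ι b).opensRange
  let rP := (pushout.inl N.ι b).opensRange
  let A' : B.obj.Opens := B.π ⁻¹ᵁ rA
  let P' : B.obj.Opens := B.π ⁻¹ᵁ rP
  haveI : IsIso (B.π ∣_ rA) := by
    refine isIso_restrict_of_disjoint B.isBlowUp _ ?_
    show Disjoint ((K₁.1.comap f).support : Set Xp) _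
    rw [IdealSheafData.support_comap, Set.disjoint_left]
    intro x hx hx'
    have h1 : f x ∈ (K₁.1.support : Set Y₁) := hx
    rw [K₁.2.2] at h1
    exact h1 (hpre.ge hx')
  haveI : IsLocallyNoetherian Xp := LocallyOfFiniteType.isLocallyNoetherian f
  haveI : IsProper B.π := BlowUpLib.isProper_of_isBlowUp _ B.isBlowUp B.2.1
  haveI : IsProper K₁.π := BlowUpLib.isProper_of_isBlowUp _ K₁.isBlowUp K₁.2.1
  have hfg : f ≫ p₁ = π ≫ g := by
    apply pushout.hom_ext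
    · simp only [f, π, inl_glueDesc_assoc, Category.assoc, hTS]
    · simp only [f, π, inr_glueDesc_assoc, Category.assoc, h₁]
  let πA : ((q ''ᵁ A' : K₁.obj.Opens) : Scheme.{u}) ⟶ (U₁ : Scheme.{u}) :=
    (q.isoImage A').inv ≫ (B.π ∣_ rA) ≫ (pushout.inr N.ι b).isoOpensRange.inv
  let πP : ((q ''ᵁ P' : K₁.obj.Opens) : Scheme.{u}) ⟶ (U₂ : Scheme.{u}) :=
    (q.isoImage P').inv ≫ (B.π ∣_ rP) ≫ (pushout.inl N.ι b).isoOpensRange.inv ≫ cT
  have hπA : πA ≫ U₁.ι = (q.isoImage A').inv ≫ A'.ι ≫ B.π ≫ π := by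
    simp only [πA, Category.assoc]
    congr 1
    rw [← morphismRestrict_ι_assoc B.π, ← Scheme.Hom.isoOpensRange_inv_comp_assoc (pushout.inr N.ι b)]
    simp only [π, inr_glueDesc]
  have hπP : πP ≫ U₂.ι = (q.isoImage P').inv ≫ P'.ι ≫ B.π ≫ π := by
    simp only [πP, Category.assoc]
    congr 1
    rw [← morphismRestrict_ι_assoc B.π, ← Scheme.Hom.isoOpensRange_inv_comp_assoc (pushout.inl N.ι b)]
    simp only [π, inl_glueDesc]
  have hpt : ∀ {O : B.obj.Opens} (x : (q ''ᵁ O : K₁.obj.Opens)),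
      q ((q.isoImage O).inv x).1 = x.1 := fun {O} x => by
    exact congrArg (fun φ => φ x) (q.isoImage_inv_ι O)
  have hqπ : q ≫ K₁.π = B.π ≫ f := ZRLim.Bir.q_π f K₁
  have hprA : IsIso πA := inferInstance
  have hprP : IsProper πP := inferInstance
  refine ⟨{ Y := K₁.obj, gY := K₁.π ≫ p₁, proper := inferInstance, A := q ''ᵁ A', P := q ''ᵁ P',
            πA := πA, isoA := hprA, πP := πP, properP := hprP,
            overA := ?_, overP := ?_, memP := ?_, memA := ?_, agree := ?_, dense := ?_ }⟩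
  · rw [reassoc_of% hπA, ← hfg, ← reassoc_of% hqπ, ← q.isoImage_inv_ι A']
    simp only [Category.assoc]
  · rw [reassoc_of% hπP, ← hfg, ← reassoc_of% hqπ, ← q.isoImage_inv_ι P']
    simp only [Category.assoc]
  · intro a ha
    let y := (q.isoImage A').inv a
    obtain ⟨u, hu⟩ := (y.2 : B.π y.1 ∈ rA)
    have e : (πA a).1 = u.1 := by
      show U₁.ι (πA a) = _
      rw [← Scheme.Hom.comp_apply, hπA]
      show π (B.π y.1) = _
      rw [← hu, ← Scheme.Hom.comp_apply, inr_glueDesc]; rfl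
    obtain ⟨n, hn⟩ := hbs u (e ▸ ha)
    refine ⟨y.1, ⟨n.1, ?_⟩, hpt a⟩
    rw [← hu, ← hn]
    exact hcond n
  · intro p hp
    let y := (q.isoImage P').inv p
    obtain ⟨t, ht⟩ := (y.2 : B.π y.1 ∈ rP)
    have e : (πP p).1 = (cT t).1 := by
      show U₂.ι (πP p) = _
      rw [← Scheme.Hom.comp_apply, hπP]
      show π (B.π y.1) = _
      rw [← ht, ← Scheme.Hom.comp_apply, inl_glueDesc]; rfl
    refine ⟨y.1, ⟨b ⟨t, hcN t (e ▸ hp)⟩, ?_⟩, hpt p⟩
    rw [← ht]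
    exact (hcond ⟨t, hcN t (e ▸ hp)⟩).symm
  · rw [hπA, hπP]
    simp only [← Category.assoc]
    congr 2
    rw [← cancel_mono q]
    simp only [Category.assoc, q.isoImage_inv_ι, Scheme.homOfLE_ι]
  · haveI := B.isIso_restrict
    let O : Xp.Opens := rA ⊓ rP
    have hO : Dense (O : Set Xp) := by
      intro x
      rcases glue_cover N.ι b x with ⟨t, rfl⟩ | ⟨u, rfl⟩
      · refine closure_mono ?_
          (image_closure_subset_closure_image (pushout.inl N.ι b).continuous ⟨t, hNd t, rfl⟩)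
        rintro _ ⟨n, hn, rfl⟩
        exact ⟨⟨b ⟨n, hn⟩, (hcond ⟨n, hn⟩).symm⟩, ⟨n, rfl⟩⟩
      · refine closure_mono ?_ (image_closure_subset_closure_image (pushout.inr N.ι b).continuous
          ⟨u, hd.preimage U₁.ι.isOpenEmbedding.isOpenMap u, rfl⟩)
        rintro _ ⟨w, hw, rfl⟩
        obtain ⟨n, rfl⟩ := hbs w hw.2
        exact ⟨⟨b n, rfl⟩, ⟨N.ι n, hcond n⟩⟩
    have hdB : Dense ((B.π ⁻¹ᵁ O : B.obj.Opens) : Set B.obj) :=
      dense_preimage B.π (f ⁻¹ᵁ R₁) (dense_preimage_adm B) O hO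
    have hqr : Dense (Set.range q) := (dense_preimage_adm K₁).mono fun w hw =>
      ZRLim.Bir.preimage_le_range (f := f) K₁ w hw
    refine (dense_image q hqr hdB).mono ?_
    rintro _ ⟨w, hw, rfl⟩
    exact ⟨⟨w, hw.1, rfl⟩, ⟨w, hw.2, rfl⟩⟩

end Groth.Agent.NagataLib
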