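import Groth.Agent.NagataLib.Pre
import Groth.Agent.BlowSep.Basic

/-!
# Separating the two boundaries
-/

universe u

set_option autoImplicit false
set_option linter.style.haveILetI false
set_option backward.isDefEq.respectTransparency false
set_option backward.isDefEq.respectTransparency.types false

open CategoryTheory CategoryTheory.Limits AlgebraicGeometry TopologicalSpace
open Scheme (IdealSheafData)

namespace Groth.Agent.NagataLib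

variable {S U : Scheme.{u}} {g : U ⟶ S} {U₁ U₂ : U.Opens}

theorem exists_ideal_compl {Y : Scheme.{u}} [IsLocallyNoetherian Y] (O : Y.Opens) :
    ∃ J : Y.IdealSheafData, (J.support : Set Y) = (O : Set Y)ᶜ :=
  ⟨IdealSheafData.vanishingIdeal ⟨(O : Set Y)ᶜ, O.2.isClosed_compl⟩, by simp⟩

namespace Pre

/-- `Y` is covered by two opens, one missing the boundary of each piece. -/
structure Sep (D : Pre g U₁ U₂) where
  B : D.Y.Opens
  Ω : D.Y.Opens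
  le_B : D.P ≤ B
  le_Ω : D.A ≤ Ω
  cover : B ⊔ Ω = ⊤
  inf_B : B ⊓ D.A ≤ D.P
  inf_Ω : Ω ⊓ D.P ≤ D.A

theorem exists_sep [IsNoetherian S] (D : Pre g U₁ U₂) :
    ∃ D' : Pre g U₁ U₂, Nonempty D'.Sep := by
  haveI := D.isLocallyNoetherian
  obtain ⟨J₁, hJ₁⟩ := exists_ideal_compl D.P
  obtain ⟨J₂, hJ₂⟩ := exists_ideal_compl D.A
  obtain ⟨Y', c, hc⟩ := BlowUpLib.exists_blowUp (C := J₁ ⊔ J₂)
  have hsupp : ∀ y, y ∈ ((J₁ ⊔ J₂).support : Set D.Y) → y ∉ D.P ∧ y ∉ D.A := fun y hy => by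
    rw [IdealSheafData.support_sup] at hy
    exact ⟨(hJ₁ ▸ hy.1 : y ∈ (D.P : Set D.Y)ᶜ), (hJ₂ ▸ hy.2 : y ∈ (D.A : Set D.Y)ᶜ)⟩
  have hA : Disjoint ((J₁ ⊔ J₂).support : Set D.Y) (D.A : Set D.Y) :=
    Set.disjoint_left.2 fun y hy hy' => (hsupp y hy).2 hy'
  have hP : Disjoint ((J₁ ⊔ J₂).support : Set D.Y) (D.P : Set D.Y) :=
    Set.disjoint_left.2 fun y hy hy' => (hsupp y hy).1 hy'
  have hsup : (J₁ ⊔ J₂).comap c = J₁.comap c ⊔ J₂.comap c :=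
    (IdealSheafData.map_gc c).l_sup
  let G : Y'.IdealSheafData → Y'.Opens := fun I =>
    ⟨{x | ∃ W : Y'.affineOpens, x ∈ W.1 ∧ I.ideal W = ((J₁ ⊔ J₂).comap c).ideal W},
      isOpen_iff_forall_mem_open.2 fun x ⟨W, hxW, hW⟩ =>
        ⟨W.1, fun y hy => ⟨W, hy, hW⟩, W.1.2, hxW⟩⟩
  have hmem : ∀ (I : D.Y.IdealSheafData) (O : D.Y.Opens), (I.support : Set D.Y) = (O : Set D.Y)ᶜ →
      Disjoint ((J₁ ⊔ J₂).support : Set D.Y) (O : Set D.Y) → c ⁻¹ᵁ O ≤ G (I.comap c) := by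
    intro I O hI hO x hx
    obtain ⟨W, hW, hxW⟩ := ZRLim.exists_affine_le hx
    refine ⟨W, hxW, ?_⟩
    rw [BlowSep.ideal_eq_top, BlowSep.ideal_eq_top]
    · intro y hy hy'
      rw [IdealSheafData.support_comap] at hy'
      exact Set.disjoint_left.1 hO hy' (hW hy)
    · intro y hy hy'
      rw [IdealSheafData.support_comap] at hy'
      have : c y ∈ (I.support : Set D.Y) := hy'
      rw [hI] at this
      exact this (hW hy)
  have hnot : ∀ (I : D.Y.IdealSheafData) (O O' : D.Y.Opens), (I.support : Set D.Y) = (O : Set D.Y)ᶜ →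
      Disjoint ((J₁ ⊔ J₂).support : Set D.Y) (O' : Set D.Y) → G (I.comap c) ⊓ c ⁻¹ᵁ O' ≤ c ⁻¹ᵁ O := by
    rintro I O O' hI hO' x ⟨⟨W, hxW, hW⟩, hx'⟩
    have h1 := (BlowSep.support_congr hW hxW)
    rw [IdealSheafData.support_comap, IdealSheafData.support_comap] at h1
    have h2 : c x ∉ (I.support : Set D.Y) := fun h =>
      Set.disjoint_left.1 hO' (h1.1 h) hx'
    rw [hI] at h2
    exact not_not.1 h2
  refine ⟨D.blowUp c _ hc hA hP, ⟨⟨G (J₁.comap c), G (J₂.comap c), hmem J₁ D.P hJ₁ hP,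
    hmem J₂ D.A hJ₂ hA, ?_, hnot J₁ D.P D.A hJ₁ hA, hnot J₂ D.A D.P hJ₂ hP⟩⟩⟩
  refine eq_top_iff.2 fun x _ => ?_
  obtain ⟨W, hxW, hW⟩ := BlowSep.exists_eq_of_sup_isEffCartier (J₁.comap c) (J₂.comap c)
    (hsup ▸ hc.1) x
  rw [← hsup] at hW
  exact hW.imp (fun h => ⟨W, hxW, h⟩) (fun h => ⟨W, hxW, h⟩)

/-- The map to the compactification of `U₂`, near the boundary of `U₂`. -/
theorem exists_sep_hom [IsNoetherian S] [IsSeparated g] (D : Pre g U₁ U₂) (sp : D.Sep)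
    {Y₂ : Scheme.{u}} (j₂ : (U₂ : Scheme.{u}) ⟶ Y₂) (p₂ : Y₂ ⟶ S) [IsOpenImmersion j₂]
    [IsProper p₂] (h₂ : j₂ ≫ p₂ = U₂.ι ≫ g) :
    ∃ (D' : Pre g U₁ U₂) (sp' : D'.Sep) (φ : (sp'.B : Scheme.{u}) ⟶ Y₂),
      φ ≫ p₂ = sp'.B.ι ≫ D'.gY ∧ D'.Y.homOfLE sp'.le_B ≫ φ = D'.πP ≫ j₂ := by
  haveI := D.isNoetherian
  obtain ⟨K, h, hK, hKs⟩ := exists_extend D.gY p₂ D.P (NoetherianSpace.isCompact _) (D.πP ≫ j₂)
    (by rw [Category.assoc, h₂, D.overP])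
  let J := (K.1.comap sp.B.ι).map sp.B.ι
  haveI : QuasiCompact sp.B.ι := inferInstance
  obtain ⟨Y', c, hc⟩ := BlowUpLib.exists_blowUp (C := J)
  have key : ∀ O : D.Y.Opens, sp.B ⊓ O ≤ D.P → Disjoint (J.support : Set D.Y) (O : Set D.Y) :=
    fun O hO => disjoint_support_map sp.B O _ fun x hx hx' => by
      rw [IdealSheafData.support_comap] at hx'
      have h1 : x.1 ∈ (K.1.support : Set D.Y) := hx'
      rw [K.2.2] at h1
      exact h1 (hO ⟨x.2, hx⟩)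
  have hA := key D.A sp.inf_B
  have hP := key D.P inf_le_right
  let B' : Y'.Opens := c ⁻¹ᵁ sp.B
  have hcart : BlowUp.IsEffCartierIdeal (K.1.comap (B'.ι ≫ c)) := by
    have h1 := (isBlowUp_restrict hc sp.B).1
    rw [show J.comap sp.B.ι = K.1.comap sp.B.ι from MorLib.IdealFG.comap_map_self _ _,
      ← IdealSheafData.comap_comp, morphismRestrict_ι] at h1
    exact h1
  obtain ⟨k, hk, -⟩ := K.isBlowUp.2 _ (B'.ι ≫ c) hcart
  change k ≫ K.π = B'.ι ≫ c at hk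
  let sp' : (D.blowUp c J hc hA hP).Sep :=
    ⟨B', c ⁻¹ᵁ sp.Ω, fun _ hx => sp.le_B hx, fun _ hx => sp.le_Ω hx,
      eq_top_iff.2 fun x _ => sp.cover.ge (trivial : c x ∈ (⊤ : D.Y.Opens)),
      fun _ hx => sp.inf_B hx, fun _ hx => sp.inf_Ω hx⟩
  refine ⟨D.blowUp c J hc hA hP, sp', k ≫ h, ?_, ?_⟩
  · show (k ≫ h) ≫ p₂ = B'.ι ≫ c ≫ D.gY
    rw [Category.assoc, hK, reassoc_of% hk]
  · show Y'.homOfLE (sp'.le_B : c ⁻¹ᵁ D.P ≤ B') ≫ k ≫ h = ((c ∣_ D.P) ≫ D.πP) ≫ j₂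
    have hle : (c ⁻¹ᵁ D.P) ≤ B' := sp'.le_B
    have hr : Set.range (Y'.homOfLE hle ≫ k) ⊆ Set.range (K.π ⁻¹ᵁ D.P).ι := by
      rintro _ ⟨x, rfl⟩
      rw [Scheme.Opens.range_ι]
      show K.π ((Y'.homOfLE hle ≫ k) x) ∈ D.P
      rw [← Scheme.Hom.comp_apply, Category.assoc, hk, Scheme.homOfLE_ι_assoc]
      exact x.2
    let l := IsOpenImmersion.lift (K.π ⁻¹ᵁ D.P).ι _ hr
    have hl : l ≫ (K.π ⁻¹ᵁ D.P).ι = Y'.homOfLE hle ≫ k := IsOpenImmersion.lift_fac _ _ _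
    have hl' : l ≫ (K.π ∣_ D.P) = c ∣_ D.P := by
      rw [← cancel_mono D.P.ι, Category.assoc, morphismRestrict_ι, reassoc_of% hl, hk,
        Scheme.homOfLE_ι_assoc, morphismRestrict_ι]
    rw [← reassoc_of% hl, hKs, reassoc_of% hl', Category.assoc]

end Pre

end Groth.Agent.NagataLib
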