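import Groth.Agent.NagataLib.Birat
import Groth.Agent.ModPairLib.Limit
import Groth.Prelude.Def_BlowUp2

/-!
# The strict transform of the source is its blow-up
-/

universe u

set_option autoImplicit false
set_option linter.style.haveILetI false
set_option backward.isDefEq.respectTransparency false
set_option backward.isDefEq.respectTransparency.types false

open CategoryTheory CategoryTheory.Limits AlgebraicGeometry TopologicalSpace
open Scheme (IdealSheafData)

namespace Groth.Agent.NagataLib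

variable {X' : Scheme.{u}}

/-- Sections killed by powers vanish where the ideal becomes effective Cartier. -/
theorem le_ker_of_killed {E 𝒥 : X'.IdealSheafData}
    (h𝒥 : ∀ (W : X'.affineOpens) (a : Γ(X', W.1)), a ∈ 𝒥.ideal W →
      BlowUp.KilledByPowerNear E (Coh.structureModule X') W a)
    {Z : Scheme.{u}} (h : Z ⟶ X') (hE : BlowUp.IsEffCartierIdeal (E.comap h)) : 𝒥 ≤ h.ker := by
  refine IdealSheafData.le_ofIdeals_iff.2 fun W a ha => ?_
  obtain ⟨n, hn⟩ := h𝒥 W a ha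
  rw [RingHom.mem_ker]
  have hloc : ∀ z : (h ⁻¹ᵁ W.1 : Z.Opens), ∃ V : Z.affineOpens, z.1 ∈ V.1 ∧ V.1 ≤ h ⁻¹ᵁ W.1 ∧
      ∃ τ, (E.comap h).ideal V = Ideal.span {τ} := fun z => by
    obtain ⟨U, hU, τ, -, hτ⟩ := hE z.1
    obtain ⟨r, hr, hzr⟩ := U.2.exists_basicOpen_le ⟨z.1, z.2⟩ hU
    refine ⟨⟨Z.basicOpen r, U.2.basicOpen r⟩, hzr, hr,
      Z.presheaf.map (homOfLE (Z.basicOpen_le r)).op τ, ?_⟩
    rw [← (E.comap h).map_ideal (show (⟨Z.basicOpen r, U.2.basicOpen r⟩ : Z.affineOpens) ≤ U from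
      Z.basicOpen_le r), hτ, Ideal.map_span, Set.image_singleton]
    rfl
  choose V hzV hVle τ hgen using hloc
  have key : ∀ (V : Z.affineOpens) (e : V.1 ≤ h ⁻¹ᵁ W.1) (τ : Γ(Z, V.1)),
      (E.comap h).ideal V = Ideal.span {τ} → (h.appLE W.1 V.1 e).hom a = 0 := by
    intro V e τ hgen
    let ρ := h.appLE W.1 V.1 e
    have hnzd := ModPairLib.generator_mem_nonZeroDivisors hE hgen
    rw [ModPairLib.ideal_comap E h W V e] at hgen
    have hpow : ∀ x ∈ ((E.ideal W).map ρ.hom) ^ n, x * ρ a = 0 := by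
      rw [← Ideal.map_pow]
      intro x hx
      induction hx using Submodule.span_induction with
      | mem x hx =>
        obtain ⟨b, hb, rfl⟩ := hx
        have := congrArg ρ.hom (show b * a = 0 from hn b (by rw [IdealSheafData.ideal_pow]; exact hb))
        rwa [map_mul, map_zero] at this
      | zero => rw [zero_mul]
      | add x y _ _ hx hy => rw [add_mul, hx, hy, add_zero]
      | smul r x _ hx => rw [smul_eq_mul, mul_assoc, hx, mul_zero]
    have h0 := hpow _ (by rw [hgen, Ideal.span_singleton_pow]; exact Ideal.mem_span_singleton_self _)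
    have hz : ρ a = 0 := mem_nonZeroDivisors_iff_left.1 (pow_mem hnzd n) _ h0
    exact hz
  refine Z.sheaf.eq_of_locally_eq' (fun z => (V z).1) _ (fun z => homOfLE (hVle z)) ?_ _ _ fun z => ?_
  · intro z hz
    exact Opens.mem_iSup.2 ⟨⟨z, hz⟩, hzV ⟨z, hz⟩⟩
  · rw [map_zero]
    exact key (V z) (hVle z) (τ z) (hgen z)

/-- The ideal becomes effective Cartier on the subscheme of sections killed by its powers. -/
theorem isEffCartier_killed {E 𝒥 : X'.IdealSheafData} (hE : ModPairLib.IsLocPrincipal E)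
    (h𝒥 : ∀ (W : X'.affineOpens) (a : Γ(X', W.1)), a ∈ 𝒥.ideal W ↔
      BlowUp.KilledByPowerNear E (Coh.structureModule X') W a) :
    BlowUp.IsEffCartierIdeal (E.comap 𝒥.subschemeι) := by
  intro x
  obtain ⟨W, hxW, t, ht⟩ := hE (𝒥.subschemeι x)
  let V : 𝒥.subscheme.affineOpens := ⟨𝒥.subschemeι ⁻¹ᵁ W.1, W.2.preimage 𝒥.subschemeι⟩
  refine ⟨V, hxW, (𝒥.subschemeι.app W.1).hom t, mem_nonZeroDivisors_iff_right.2 fun y hy => ?_, ?_⟩
  · obtain ⟨a, rfl⟩ := 𝒥.subschemeι_app_surjective W y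
    have key : ∀ b, (𝒥.subschemeι.app W.1).hom b = 0 ↔ b ∈ 𝒥.ideal W := fun b => by
      rw [𝒥.subschemeι_app W]
      show (𝒥.subschemeObjIso W).inv.hom (Ideal.Quotient.mk (𝒥.ideal W) b) = 0 ↔ _
      rw [map_eq_zero_iff _ (ConcreteCategory.bijective_of_isIso (𝒥.subschemeObjIso W).inv).1,
        Ideal.Quotient.eq_zero_iff_mem]
    change (𝒥.subschemeι.app W.1).hom a * (𝒥.subschemeι.app W.1).hom t = 0 at hy
    rw [← map_mul, key, h𝒥] at hy
    obtain ⟨n, hn⟩ := hy
    refine (key a).2 ((h𝒥 W a).2 ⟨n + 1, fun c hc => ?_⟩)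
    rw [IdealSheafData.ideal_pow, Pi.pow_apply, ht, Ideal.span_singleton_pow,
      Ideal.mem_span_singleton] at hc
    obtain ⟨d, rfl⟩ := hc
    have hn' : t ^ n * (a * t) = 0 := hn _ (by
      rw [IdealSheafData.ideal_pow, Pi.pow_apply, ht, Ideal.span_singleton_pow]
      exact Ideal.mem_span_singleton_self _)
    show t ^ (n + 1) * d * a = 0
    calc t ^ (n + 1) * d * a = d * (t ^ n * (a * t)) := by ring
      _ = 0 := by rw [hn', mul_zero]
  · rw [ModPairLib.ideal_comap E 𝒥.subschemeι W V le_rfl, ht, Ideal.map_span, Set.image_singleton]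
    congr 2
    rw [Scheme.Hom.app_eq_appLE]

/-- A pullback of an effective Cartier ideal is locally principal. -/
theorem isLocPrincipal_comap {Y : Scheme.{u}} {J : Y.IdealSheafData}
    (hJ : BlowUp.IsEffCartierIdeal J) (f : X' ⟶ Y) : ModPairLib.IsLocPrincipal (J.comap f) := by
  intro x
  obtain ⟨U, hU, τ, -, hτ⟩ := hJ (f x)
  obtain ⟨_, ⟨(V : X'.Opens), hV, rfl⟩, hxV, hVU⟩ :=
    X'.isBasis_affineOpens.exists_subset_of_mem_open (show x ∈ f ⁻¹' (U.1 : Set Y) from hU) (f ⁻¹ᵁ U.1).2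
  exact ⟨⟨V, hV⟩, hxV, f.appLE U.1 V hVU τ, by
    rw [ModPairLib.ideal_comap J f U ⟨V, hV⟩ hVU, hτ, Ideal.map_span, Set.image_singleton]⟩

/-- The strict transform of `X` along a blow-up of `S` is a blow-up of `X`. -/
theorem isBlowUp_strictTransform {X S S' : Scheme.{u}} {φ : X ⟶ S} {I : S.IdealSheafData}
    {b : S' ⟶ S} (hb : BlowUp.IsBlowUp b I) {p₁ : X' ⟶ X} {p₂ : X' ⟶ S'}
    (hsq : IsPullback p₁ p₂ φ b) {𝒥 : X'.IdealSheafData}
    (h𝒥 : ∀ (W : X'.affineOpens) (a : Γ(X', W.1)), a ∈ 𝒥.ideal W ↔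
      BlowUp.KilledByPowerNear ((I.comap φ).comap p₁) (Coh.structureModule X') W a) :
    BlowUp.IsBlowUp (𝒥.subschemeι ≫ p₁) (I.comap φ) := by
  have eE : (I.comap φ).comap p₁ = (I.comap b).comap p₂ := by
    rw [← IdealSheafData.comap_comp, ← IdealSheafData.comap_comp, hsq.w]
  refine ⟨?_, fun Z g hg => ?_⟩
  · rw [IdealSheafData.comap_comp]
    exact isEffCartier_killed (by rw [eE]; exact isLocPrincipal_comap hb.1 p₂) h𝒥
  · have hg' : BlowUp.IsEffCartierIdeal (I.comap (g ≫ φ)) := by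
      rw [IdealSheafData.comap_comp]; exact hg
    obtain ⟨k, hk, -⟩ := hb.2 Z (g ≫ φ) hg'
    let l := hsq.lift g k hk.symm
    have hl : 𝒥 ≤ l.ker := le_ker_of_killed (fun W a ha => (h𝒥 W a).1 ha) l (by
      rw [← IdealSheafData.comap_comp, hsq.lift_fst]; exact hg)
    let m := IsClosedImmersion.lift 𝒥.subschemeι l (by rwa [IdealSheafData.ker_subschemeι])
    have hm : m ≫ 𝒥.subschemeι = l := IsClosedImmersion.lift_fac _ _ _
    refine ⟨m, by show m ≫ _ ≫ p₁ = g; rw [reassoc_of% hm, hsq.lift_fst], fun m' hm' => ?_⟩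
    change m' ≫ 𝒥.subschemeι ≫ p₁ = g at hm'
    rw [← cancel_mono 𝒥.subschemeι, hm]
    refine hsq.hom_ext (by rw [Category.assoc, hm', hsq.lift_fst]) ?_
    rw [hsq.lift_snd]
    refine BlowUpLib.isBlowUp_hom_ext hb ?_ (by rw [hk]; exact hg')
    simp only [Category.assoc, ← hsq.w]
    rw [reassoc_of% hm', hk]

end Groth.Agent.NagataLib
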