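import Groth.Agent.NagataLib.Contract

/-!
# The target of the contraction
-/

universe u

set_option autoImplicit false
set_option linter.style.haveILetI false
set_option backward.isDefEq.respectTransparency false
set_option backward.isDefEq.respectTransparency.types false

open CategoryTheory CategoryTheory.Limits AlgebraicGeometry TopologicalSpace
open Scheme (IdealSheafData)

namespace Groth.Agent.NagataLib

variable {S U : Scheme.{u}} {g : U ⟶ S} {U₁ U₂ : U.Opens} {Y₂ : Scheme.{u}}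
  (j₂ : (U₂ : Scheme.{u}) ⟶ Y₂) [IsOpenImmersion j₂]

/-- Lifts of an open immersion through a morphism which is an isomorphism over its range. -/
theorem exists_section {A Y Z : Scheme.{u}} (j : A ⟶ Y) [IsOpenImmersion j] (π : Z ⟶ Y)
    [IsIso (π ∣_ j.opensRange)] :
    ∃ k : A ⟶ Z, IsOpenImmersion k ∧ k ≫ π = j ∧ Set.range k = (π ⁻¹ᵁ j.opensRange : Set Z) := by
  let k := j.isoOpensRange.hom ≫ inv (π ∣_ j.opensRange) ≫ (π ⁻¹ᵁ j.opensRange).ι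
  refine ⟨k, inferInstance, ?_, ?_⟩
  · simp only [k, Category.assoc]
    rw [← morphismRestrict_ι, IsIso.inv_hom_id_assoc, Scheme.Hom.isoOpensRange_hom_ι]
  · have hs : Function.Surjective (j.isoOpensRange.hom ≫ inv (π ∣_ j.opensRange)) :=
      (j.isoOpensRange.hom ≫ inv (π ∣_ j.opensRange)).surjective
    rw [show k = (j.isoOpensRange.hom ≫ inv (π ∣_ j.opensRange)) ≫ (π ⁻¹ᵁ j.opensRange).ι from
        (Category.assoc _ _ _).symm, Scheme.Hom.comp_base, TopCat.coe_comp, Set.range_comp,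
      hs.range_eq, Set.image_univ]
    exact Scheme.Opens.range_ι _

/-- A closed set of an open subscheme lying over a closed set inside the open stays closed. -/
theorem isClosed_image_of_subset {A B : Scheme.{u}} (i : A ⟶ B) [IsOpenImmersion i] {T : Set A}
    (hT : IsClosed T) {F : Set B} (hF : IsClosed F) (hFi : F ⊆ Set.range i) (hTF : i '' T ⊆ F) :
    IsClosed (i '' T) := by
  obtain ⟨G, hG, rfl⟩ := i.isOpenEmbedding.isInducing.isClosed_iff.1 hT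
  have : i '' (i ⁻¹' G) = G ∩ F := by
    refine subset_antisymm ?_ ?_
    · rintro x hx
      obtain ⟨a, ha, rfl⟩ := hx
      exact ⟨ha, hTF ⟨a, ha, rfl⟩⟩
    · rintro x ⟨hxG, hxF⟩
      obtain ⟨a, rfl⟩ := hFi hxF
      exact ⟨a, hxG, rfl⟩
  rw [this]
  exact hG.inter hF

namespace Pre.Sep

theorem exists_target [IsNoetherian S] [IsSeparated g] (D : Pre g U₁ U₂) (sp : D.Sep) (p₂ : Y₂ ⟶ S)
    [IsProper p₂] (h₂ : j₂ ≫ p₂ = U₂.ι ≫ g)
    (φ : (sp.B : Scheme.{u}) ⟶ Y₂)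
    (hφ : φ ≫ p₂ = sp.B.ι ≫ D.gY) (hφP : D.Y.homOfLE sp.le_B ≫ φ = D.πP ≫ j₂) :
    Nonempty (Target g U₁ U₂) := by
  obtain ⟨r⟩ := exists_res j₂ D sp p₂ h₂ φ hφ hφP
  obtain ⟨L⟩ := exists_lifted j₂ hφP r
  haveI := D.isNoetherian
  haveI : IsLocallyNoetherian Y₂ := LocallyOfFiniteType.isLocallyNoetherian p₂
  haveI := L.open_inl
  haveI := L.open_inr
  haveI := L.openQ
  haveI := L.ft
  haveI := L.isoR
  haveI : IsLocallyNoetherian L.X := LocallyOfFiniteType.isLocallyNoetherian L.f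
  haveI : IsProper L.K₂.π := BlowUpLib.isProper_of_isBlowUp _ L.K₂.isBlowUp L.K₂.2.1
  haveI : IsProper r.K.π := BlowUpLib.isProper_of_isBlowUp _ r.K.isBlowUp r.K.2.1
  let Bl := ZRLim.Bir.pull L.f L.K₂
  haveI : IsProper Bl.π := BlowUpLib.isProper_of_isBlowUp _ Bl.isBlowUp Bl.2.1
  let q := ZRLim.Bir.q L.f L.K₂
  have hqπ : q ≫ L.K₂.π = Bl.π ≫ L.f := ZRLim.Bir.q_π L.f L.K₂
  haveI := L.K₂.isIso_restrict
  obtain ⟨k, hk, hkπ, hkr⟩ := exists_section j₂ L.K₂.π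
  -- the ideal on `Y`
  haveI : QuasiCompact sp.B.ι := inferInstance
  let J := (L.K₂.1.comap φ).map sp.B.ι
  have hJ : ∀ O : D.Y.Opens, sp.B ⊓ O ≤ D.P → Disjoint (J.support : Set D.Y) (O : Set D.Y) :=
    fun O hO => disjoint_support_map sp.B O _ fun x hx hx' => by
      rw [IdealSheafData.support_comap] at hx'
      have h1 : φ x ∈ (L.K₂.1.support : Set Y₂) := hx'
      rw [L.K₂.2.2] at h1
      refine h1 ⟨D.πP ⟨x.1, hO ⟨x.2, hx⟩⟩, ?_⟩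
      have e := congrArg (fun m => m ⟨x.1, hO ⟨x.2, hx⟩⟩) hφP
      dsimp only at e
      rw [Scheme.Hom.comp_apply, show D.Y.homOfLE sp.le_B ⟨x.1, hO ⟨x.2, hx⟩⟩ = x from
        Subtype.ext (Scheme.homOfLE_apply _ _)] at e
      exact e.symm
  obtain ⟨Y', c, hc⟩ := BlowUpLib.exists_blowUp (C := J)
  let D' := D.blowUp c J hc (hJ D.A sp.inf_B) (hJ D.P inf_le_right)
  let B' : Y'.Opens := c ⁻¹ᵁ sp.B
  let Ω' : Y'.Opens := c ⁻¹ᵁ sp.Ω
  let sp' : D'.Sep :=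
    ⟨B', Ω', fun _ hx => sp.le_B hx, fun _ hx => sp.le_Ω hx,
      eq_top_iff.2 fun x _ => sp.cover.ge (trivial : c x ∈ (⊤ : D.Y.Opens)),
      fun _ hx => sp.inf_B hx, fun _ hx => sp.inf_Ω hx⟩
  have hJB : J.comap sp.B.ι = L.K₂.1.comap φ := MorLib.IdealFG.comap_map_self _ _
  have hcartB : BlowUp.IsEffCartierIdeal (L.K₂.1.comap ((c ∣_ sp.B) ≫ φ)) := by
    rw [IdealSheafData.comap_comp, ← hJB]
    exact (isBlowUp_restrict hc sp.B).1
  obtain ⟨ψ, hψ, -⟩ := L.K₂.isBlowUp.2 _ ((c ∣_ sp.B) ≫ φ) hcartB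
  change ψ ≫ L.K₂.π = (c ∣_ sp.B) ≫ φ at hψ
  have hψP : Y'.homOfLE (sp'.le_B : c ⁻¹ᵁ D.P ≤ B') ≫ ψ = ((c ∣_ D.P) ≫ D.πP) ≫ k := by
    have ha : Y'.homOfLE (sp'.le_B : c ⁻¹ᵁ D.P ≤ B') ≫ (c ∣_ sp.B) =
        (c ∣_ D.P) ≫ D.Y.homOfLE sp.le_B := by
      rw [← cancel_mono sp.B.ι]
      simp only [Category.assoc, morphismRestrict_ι, Scheme.homOfLE_ι]
      exact Scheme.homOfLE_ι_assoc _ _ c
    refine ZRLim.eq_of_isBlowUp L.K₂.isBlowUp (g := Y'.homOfLE sp'.le_B ≫ (c ∣_ sp.B) ≫ φ) ?_ ?_ ?_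
    · rw [IdealSheafData.comap_comp]
      exact BlowUpLib.isEffCartier_comap_flat _ hcartB
    · rw [Category.assoc, hψ]
    · rw [reassoc_of% ha, hφP, Category.assoc, hkπ, Category.assoc]
  -- the open piece
  let ΩB : D.Y.Opens := sp.Ω ⊓ sp.B
  haveI : IsIso (r.K.π ∣_ ΩB) := isIso_restrict_of_disjoint r.K.isBlowUp ΩB (by
    rw [r.K.2.2]
    exact Set.disjoint_left.2 fun x hx hx' => hx hx'.2)
  let TΩ : r.K.obj.Opens := r.K.π ⁻¹ᵁ sp.Ω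
  let σ : (ΩB : Scheme.{u}) ⟶ (TΩ : Scheme.{u}) :=
    inv (r.K.π ∣_ ΩB) ≫ r.K.obj.homOfLE (fun _ hx => hx.1)
  have hσπ : σ ≫ TΩ.ι ≫ r.K.π = ΩB.ι := by
    simp only [σ, TΩ, Category.assoc, Scheme.homOfLE_ι_assoc]
    rw [← morphismRestrict_ι, IsIso.inv_hom_id_assoc]
  let e : (ΩB : Scheme.{u}) ⟶ L.X := σ ≫ L.inl
  have hef : e ≫ L.f = D.Y.homOfLE (inf_le_right : ΩB ≤ sp.B) ≫ φ := by
    let a : ((r.K.π ⁻¹ᵁ ΩB : r.K.obj.Opens) : Scheme.{u}) ⟶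
        ((r.K.π ⁻¹ᵁ sp.B : r.K.obj.Opens) : Scheme.{u}) := r.K.obj.homOfLE (fun _ hx => hx.2)
    have ha : a ≫ (r.K.π ∣_ sp.B) = (r.K.π ∣_ ΩB) ≫ D.Y.homOfLE inf_le_right := by
      rw [← cancel_mono sp.B.ι]
      simp only [a, Category.assoc, morphismRestrict_ι, Scheme.homOfLE_ι, Scheme.homOfLE_ι_assoc]
    simp only [e, σ, TΩ, Category.assoc, L.f_inl, Scheme.homOfLE_ι_assoc]
    rw [IsIso.inv_comp_eq, ← reassoc_of% ha, ← r.h_eq]
    simp only [a, Scheme.homOfLE_ι_assoc]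
  let cΩ := c ∣_ ΩB
  let nB : ((c ⁻¹ᵁ ΩB : Y'.Opens) : Scheme.{u}) ⟶ (B' : Scheme.{u}) :=
    Y'.homOfLE (fun _ hx => hx.2)
  have hn : nB ≫ (c ∣_ sp.B) = cΩ ≫ D.Y.homOfLE inf_le_right := by
    rw [← cancel_mono sp.B.ι]
    simp only [nB, cΩ, B', Category.assoc, morphismRestrict_ι, Scheme.homOfLE_ι, Scheme.homOfLE_ι_assoc]
  have hb₁ : BlowUp.IsBlowUp cΩ ((L.K₂.1.comap L.f).comap e) := by
    have h1 := isBlowUp_restrict hc ΩB
    rwa [← Scheme.homOfLE_ι D.Y (inf_le_right : ΩB ≤ sp.B), IdealSheafData.comap_comp, hJB,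
      ← IdealSheafData.comap_comp, ← hef, IdealSheafData.comap_comp] at h1
  have hb₂ : BlowUp.IsBlowUp (pullback.fst e Bl.π) ((L.K₂.1.comap L.f).comap e) :=
    BlowUpLib.isBlowUp_of_isPullback (IsPullback.of_hasPullback e Bl.π) Bl.isBlowUp
  obtain ⟨ε, hε⟩ := BlowUpLib.exists_iso hb₁ hb₂
  let m : ((c ⁻¹ᵁ ΩB : Y'.Opens) : Scheme.{u}) ⟶ Bl.obj := ε.hom ≫ pullback.snd e Bl.π
  haveI : IsOpenImmersion m := inferInstance
  have hm : m ≫ Bl.π = cΩ ≫ e := by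
    simp only [m, Category.assoc, ← pullback.condition, reassoc_of% hε]
  have hmq : m ≫ q = nB ≫ ψ := by
    refine ZRLim.eq_of_isBlowUp L.K₂.isBlowUp (g := nB ≫ (c ∣_ sp.B) ≫ φ) ?_ ?_ ?_
    · rw [IdealSheafData.comap_comp]
      exact BlowUpLib.isEffCartier_comap_flat _ hcartB
    · rw [Category.assoc, hqπ, reassoc_of% hm, hef, reassoc_of% hn]
    · rw [Category.assoc, hψ]
  -- the part of the blow-up over `Ω`
  let rP : L.X.Opens := L.inl.opensRange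
  let R : Bl.obj.Opens := Bl.π ⁻¹ᵁ rP
  let RΓ : (R : Scheme.{u}) ⟶ (sp.Ω : Scheme.{u}) :=
    (Bl.π ∣_ rP) ≫ L.inl.isoOpensRange.inv ≫ (r.K.π ∣_ sp.Ω)
  haveI : IsProper RΓ := inferInstance
  have hRq : (RΓ ≫ sp.Ω.ι) ≫ D.gY = (R.ι ≫ q) ≫ L.K₂.π ≫ p₂ := by
    rw [Category.assoc R.ι, reassoc_of% hqπ, ← morphismRestrict_ι_assoc Bl.π,
      ← Scheme.Hom.isoOpensRange_inv_comp_assoc L.inl, reassoc_of% L.f_inl, r.h_over]
    simp only [RΓ, Category.assoc]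
    rw [morphismRestrict_ι_assoc]
  let pZ := L.K₂.π ≫ p₂
  let mR : (R : Scheme.{u}) ⟶ pullback (sp.Ω.ι ≫ D.gY) pZ :=
    pullback.lift RΓ (R.ι ≫ q) (by rw [← Category.assoc]; exact hRq)
  haveI : IsProper mR := by
    haveI : IsProper (mR ≫ pullback.fst (sp.Ω.ι ≫ D.gY) pZ) := by
      rw [pullback.lift_fst]; infer_instance
    exact IsProper.of_comp mR (pullback.fst (sp.Ω.ι ≫ D.gY) pZ)
  let ι' : pullback (sp.Ω.ι ≫ D.gY) pZ ⟶ pullback D.gY pZ :=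
    pullback.map _ _ _ _ sp.Ω.ι (𝟙 _) (𝟙 _) (Category.comp_id _) (by simp)
  haveI : IsOpenImmersion ι' := inferInstance
  let bd : Set D.Y := (sp.B : Set D.Y)ᶜ
  let T : Set ↥(pullback (sp.Ω.ι ≫ D.gY) pZ) := mR '' ((RΓ ≫ sp.Ω.ι) ⁻¹' bd)
  have hι₁ : ∀ w, pullback.fst D.gY pZ (ι' w) = (pullback.fst (sp.Ω.ι ≫ D.gY) pZ w).1 := fun w => by
    rw [← Scheme.Hom.comp_apply, pullback.lift_fst]; rfl
  have hι₂ : ∀ w, pullback.snd D.gY pZ (ι' w) = pullback.snd (sp.Ω.ι ≫ D.gY) pZ w := fun w => by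
    rw [← Scheme.Hom.comp_apply, pullback.lift_snd, Category.comp_id]
  have hT₁ : ∀ ρ, pullback.fst D.gY pZ (ι' (mR ρ)) = (RΓ ≫ sp.Ω.ι) ρ := fun ρ => by
    rw [hι₁, ← Scheme.Hom.comp_apply, pullback.lift_fst]; rfl
  have hT₂ : ∀ ρ, pullback.snd D.gY pZ (ι' (mR ρ)) = q ρ.1 := fun ρ => by
    rw [hι₂, ← Scheme.Hom.comp_apply, pullback.lift_snd]; rfl
  have hcl : IsClosed (ι' '' T) := by
    refine isClosed_image_of_subset ι'
      (mR.isClosedMap _ (sp.B.2.isClosed_compl.preimage (RΓ ≫ sp.Ω.ι).continuous))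
      (sp.B.2.isClosed_compl.preimage (pullback.fst D.gY pZ).continuous) (fun w hw => ?_) ?_
    · rw [Scheme.Pullback.range_map]
      refine ⟨?_, pullback.snd D.gY pZ w, rfl⟩
      have hcov : pullback.fst D.gY pZ w ∈ sp.B ⊔ sp.Ω := by rw [sp.cover]; trivial
      rw [Scheme.Opens.range_ι]
      exact hcov.resolve_left hw
    · rintro _ ⟨_, ⟨ρ, hρ, rfl⟩, rfl⟩
      show pullback.fst D.gY pZ (ι' (mR ρ)) ∈ bd
      rw [hT₁]
      exact hρ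
  haveI : IsProper pZ := inferInstance
  haveI : IsProper D.gY := D.proper
  let C : Set L.K₂.obj := pullback.snd D.gY pZ '' (ι' '' T)
  have hC : IsClosed C := (pullback.snd D.gY pZ).isClosedMap _ hcl
  let O₂ : L.K₂.obj.Opens := ⟨Cᶜ, hC.isOpen_compl⟩
  refine ⟨⟨D', sp', L.K₂.obj, pZ, inferInstance, k, hk, ?_, ?_, ψ, ?_, hψP, ?_, O₂, ?_, ?_, ?_⟩⟩
  · simp only [pZ, reassoc_of% hkπ, h₂]
  · have e : Set.range k = L.K₂.π ⁻¹' Set.range j₂ := hkr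
    rw [e]
    exact dense_preimage_adm L.K₂
  · show ψ ≫ pZ = B'.ι ≫ c ≫ D.gY
    simp only [pZ, reassoc_of% hψ, hφ, morphismRestrict_ι_assoc, B']
  · show IsOpenImmersion (Y'.homOfLE (inf_le_right : Ω' ⊓ B' ≤ B') ≫ ψ)
    have : Y'.homOfLE (inf_le_right : Ω' ⊓ B' ≤ B') ≫ ψ = m ≫ q := hmq.symm
    rw [this]
    exact inferInstanceAs (IsOpenImmersion (m ≫ q))
  · rintro _ ⟨u, rfl⟩ ⟨_, ⟨_, ⟨ρ, hρ, rfl⟩, rfl⟩, hρu⟩
    rw [hT₂] at hρu
    have h1 : L.f (Bl.π ρ.1) ∈ j₂.opensRange := by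
      rw [← Scheme.Hom.comp_apply, ← hqπ, Scheme.Hom.comp_apply, hρu, ← Scheme.Hom.comp_apply, hkπ]
      exact ⟨u, rfl⟩
    let t := L.inl.isoOpensRange.inv ((Bl.π ∣_ rP) ρ)
    have ht : L.inl t = Bl.π ρ.1 := by
      rw [← Scheme.Hom.comp_apply, Scheme.Hom.isoOpensRange_inv_comp]
      exact congrArg (fun φ => φ ρ) (morphismRestrict_ι Bl.π rP)
    have h2 : r.K.π t.1 ∈ D.P := L.inter t (L.pre.le (show L.f (L.inl t) ∈ j₂.opensRange by rw [ht]; exact h1))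
    refine hρ (sp.le_B ?_)
    have e : (RΓ ≫ sp.Ω.ι) ρ = r.K.π t.1 :=
      congrArg (fun φ => φ t) (morphismRestrict_ι r.K.π sp.Ω)
    exact e ▸ h2
  · rintro z hz ⟨_, ⟨_, ⟨ρ, -, rfl⟩, rfl⟩, hρz⟩
    rw [hT₂] at hρz
    refine hz ?_
    let i := R.ι ≫ q
    let M : (B' : Scheme.{u}).Opens := ψ ⁻¹ᵁ i.opensRange
    have hzM : z ∈ M := ⟨ρ, hρz⟩
    let l : (M : Scheme.{u}) ⟶ (R : Scheme.{u}) := IsOpenImmersion.lift i (M.ι ≫ ψ) (by
      rintro _ ⟨x, rfl⟩; exact x.2)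
    have hl : l ≫ i = M.ι ≫ ψ := IsOpenImmersion.lift_fac _ _ _
    let N₀ : (M : Scheme.{u}).Opens := M.ι ⁻¹ᵁ (B'.ι ⁻¹ᵁ (c ⁻¹ᵁ ΩB))
    let n₀ : (N₀ : Scheme.{u}) ⟶ ((c ⁻¹ᵁ ΩB : Y'.Opens) : Scheme.{u}) :=
      (M.ι ≫ B'.ι).resLE (c ⁻¹ᵁ ΩB) N₀ le_rfl
    have hn₀ : n₀ ≫ nB = N₀.ι ≫ M.ι := by
      rw [← cancel_mono B'.ι]
      simp only [n₀, nB, Category.assoc, Scheme.homOfLE_ι, Scheme.Hom.resLE_comp_ι]
    have hlm : N₀.ι ≫ l ≫ R.ι = n₀ ≫ m := by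
      rw [← cancel_mono q]
      simp only [Category.assoc]
      rw [hl, hmq, reassoc_of% hn₀]
    have heq : N₀.ι ≫ l ≫ RΓ ≫ sp.Ω.ι = N₀.ι ≫ M.ι ≫ B'.ι ≫ c := by
      have e1 : (N₀.ι ≫ l ≫ (Bl.π ∣_ rP) ≫ L.inl.isoOpensRange.inv) ≫ L.inl =
          (n₀ ≫ cΩ ≫ σ) ≫ L.inl := by
        simp only [Category.assoc, Scheme.Hom.isoOpensRange_inv_comp]
        erw [morphismRestrict_ι Bl.π rP]
        rw [reassoc_of% hlm, hm]
      rw [cancel_mono] at e1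
      simp only [RΓ, Category.assoc, morphismRestrict_ι]
      rw [reassoc_of% e1, hσπ]
      simp only [cΩ, morphismRestrict_ι]
      rw [← reassoc_of% hn₀]
      simp only [nB, Scheme.homOfLE_ι_assoc]
    have hover : (l ≫ RΓ ≫ sp.Ω.ι) ≫ D.gY = (M.ι ≫ B'.ι ≫ c) ≫ D.gY := by
      rw [Category.assoc, hRq]
      show l ≫ (R.ι ≫ q) ≫ pZ = _
      rw [← Category.assoc l, hl]
      simp only [pZ, Category.assoc, reassoc_of% hψ, hφ, morphismRestrict_ι_assoc, B']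
    have hd : Dense (Set.range N₀.ι) := by
      rw [Scheme.Opens.range_ι]
      show Dense (M.ι ⁻¹' (B'.ι ⁻¹' (c ⁻¹ᵁ ΩB : Set Y')))
      refine Dense.preimage (Dense.preimage ?_ B'.ι.isOpenEmbedding.isOpenMap)
        M.ι.isOpenEmbedding.isOpenMap
      exact D'.dense.mono fun x hx => ⟨sp.le_Ω hx.1, sp.le_B hx.2⟩
    have key := apply_eq_of_closure D.gY hover N₀.ι (t := ⟨z, hzM⟩) heq (hd _)
    show c z.1 ∈ sp.Ω
    have : (M.ι ≫ B'.ι ≫ c) ⟨z, hzM⟩ ∈ sp.Ω := by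
      rw [← key]
      exact (RΓ (l ⟨z, hzM⟩)).2
    exact this
  · intro h ζ hζ hζΩ hζB hζO
    refine hζO ?_
    let Φ : pullback (c ≫ D.gY) pZ ⟶ pullback D.gY pZ :=
      pullback.map _ _ _ _ c (𝟙 _) (𝟙 _) (Category.comp_id _) (by simp)
    let gr : ((Ω' ⊓ B' : Y'.Opens) : Scheme.{u}) ⟶ pullback (c ≫ D.gY) pZ := pullback.lift _ _ h
    have hmR : Bl.π ⁻¹ᵁ rP = R := rfl
    have hr : Set.range m ⊆ Set.range R.ι := by
      rintro _ ⟨x, rfl⟩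
      rw [Scheme.Opens.range_ι]
      refine ⟨σ (cΩ x), ?_⟩
      rw [← Scheme.Hom.comp_apply m, hm]
      rfl
    let mm := IsOpenImmersion.lift R.ι m hr
    have hmm : mm ≫ R.ι = m := IsOpenImmersion.lift_fac _ _ _
    have hΦ : gr ≫ Φ = mm ≫ mR ≫ ι' := by
      apply pullback.hom_ext
      · simp only [Φ, gr, ι', mR, Category.assoc, pullback.lift_fst, pullback.lift_fst_assoc]
        have e1 : (mm ≫ (Bl.π ∣_ rP) ≫ L.inl.isoOpensRange.inv) ≫ L.inl = (cΩ ≫ σ) ≫ L.inl := by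
          simp only [Category.assoc, Scheme.Hom.isoOpensRange_inv_comp]
          erw [morphismRestrict_ι Bl.π rP]
          rw [reassoc_of% hmm, hm]
        rw [cancel_mono] at e1
        simp only [RΓ, Category.assoc, morphismRestrict_ι]
        rw [reassoc_of% e1, hσπ]
        simp only [cΩ, morphismRestrict_ι]
        rfl
      · simp only [Φ, gr, ι', mR, Category.assoc, pullback.lift_snd, pullback.lift_snd_assoc,
          Category.comp_id]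
        rw [reassoc_of% hmm, hmq]
        rfl
    have h1 : Φ ζ ∈ closure (ι' '' Set.range mR) := by
      refine closure_mono ?_ (image_closure_subset_closure_image Φ.continuous ⟨ζ, hζ, rfl⟩)
      rintro _ ⟨_, ⟨x, rfl⟩, rfl⟩
      refine ⟨mR (mm x), ⟨_, rfl⟩, ?_⟩
      rw [← Scheme.Hom.comp_apply, ← Scheme.Hom.comp_apply, ← hΦ, Scheme.Hom.comp_apply]
      rfl
    have hfst : pullback.fst D.gY pZ (Φ ζ) = c (pullback.fst (c ≫ D.gY) pZ ζ) := by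
      rw [← Scheme.Hom.comp_apply, pullback.lift_fst, Scheme.Hom.comp_apply]
    have hsnd : pullback.snd D.gY pZ (Φ ζ) = pullback.snd (c ≫ D.gY) pZ ζ := by
      rw [← Scheme.Hom.comp_apply, pullback.lift_snd, Category.comp_id]
    obtain ⟨w, hw⟩ : Φ ζ ∈ Set.range ι' := by
      rw [Scheme.Pullback.range_map]
      refine ⟨?_, _, rfl⟩
      rw [Scheme.Opens.range_ι]
      show pullback.fst D.gY pZ (Φ ζ) ∈ sp.Ω
      rw [hfst]
      exact hζΩ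
    have h2 : w ∈ closure (Set.range mR) := by
      have := ι'.isOpenEmbedding.isOpenMap.preimage_closure_subset_closure_preimage
        (show w ∈ ι' ⁻¹' closure (ι' '' Set.range mR) from Set.mem_preimage.2 (hw.symm ▸ h1))
      rwa [Set.preimage_image_eq _ ι'.isOpenEmbedding.injective] at this
    rw [mR.isClosedMap.isClosed_range.closure_eq] at h2
    obtain ⟨ρ, rfl⟩ := h2
    refine ⟨ι' (mR ρ), ⟨_, ⟨ρ, ?_, rfl⟩, rfl⟩, ?_⟩
    · show (RΓ ≫ sp.Ω.ι) ρ ∉ sp.B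
      rw [← hT₁, hw, hfst]
      exact hζB
    · rw [hw, hsnd]
      rfl

end Pre.Sep

end Groth.Agent.NagataLib
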