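import Groth.Agent.NagataLib.Target
import Groth.Agent.AlgGlue.Absolute

/-!
# A compactification of the union
-/

universe u

set_option autoImplicit false
set_option linter.style.haveILetI false
set_option backward.isDefEq.respectTransparency false
set_option backward.isDefEq.respectTransparency.types false

open CategoryTheory CategoryTheory.Limits AlgebraicGeometry TopologicalSpace
open Scheme (IdealSheafData)

namespace Groth.Agent.NagataLib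

/-- A morphism which is injective and an open immersion on an open cover is an open immersion. -/
theorem isOpenImmersion_of_injective {X Y : Scheme.{u}} (f : X ⟶ Y) {ι : Type*} (V : ι → X.Opens)
    (hV : ∀ x, ∃ i, x ∈ V i) (h : ∀ i, IsOpenImmersion ((V i).ι ≫ f))
    (hf : Function.Injective f) : IsOpenImmersion f := by
  have hopen : IsOpenMap f := fun G hG => by
    have e : f '' G = ⋃ i, ((V i).ι ≫ f) '' ((V i).ι ⁻¹' G) := by
      refine subset_antisymm ?_ (Set.iUnion_subset fun i => ?_)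
      · rintro _ ⟨x, hx, rfl⟩
        obtain ⟨i, hi⟩ := hV x
        exact Set.mem_iUnion.2 ⟨i, ⟨x, hi⟩, hx, rfl⟩
      · rintro _ ⟨x, hx, rfl⟩
        exact ⟨(V i).ι x, hx, rfl⟩
    rw [e]
    exact isOpen_iUnion fun i =>
      (h i).1.isOpenMap _ (hG.preimage (V i).ι.continuous)
  haveI : ∀ x, IsIso (f.stalkMap x) := fun x => by
    obtain ⟨i, hi⟩ := hV x
    have h1 := ((IsOpenImmersion.iff_isIso_stalkMap).1 (h i)).2 ⟨x, hi⟩
    rw [Scheme.Hom.stalkMap_comp] at h1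
    haveI := h1
    exact IsIso.of_isIso_comp_right (f.stalkMap ((V i).ι ⟨x, hi⟩)) ((V i).ι.stalkMap ⟨x, hi⟩)
  exact IsOpenImmersion.of_isIso_stalkMap f
    (.of_continuous_injective_isOpenMap f.continuous hf hopen)

/-- The graph of a morphism out of an open subscheme is closed over that open subscheme. -/
theorem mem_range_graph {S M A B : Scheme.{u}} {pa : A ⟶ S} {pb : B ⟶ S} [IsSeparated pb]
    (α : M ⟶ A) (β : M ⟶ B) [IsOpenImmersion α] (w : α ≫ pa = β ≫ pb) {ζ : ↥(pullback pa pb)}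
    (hζ : ζ ∈ closure (Set.range (pullback.lift α β w)))
    (hα : pullback.fst pa pb ζ ∈ α.opensRange) : ζ ∈ Set.range (pullback.lift α β w) := by
  let O'' : (pullback pa pb).Opens := pullback.fst pa pb ⁻¹ᵁ α.opensRange
  have hlr'' : Set.range (pullback.lift α β w) ⊆ Set.range O''.ι := by
    rintro _ ⟨x, rfl⟩
    rw [Scheme.Opens.range_ι]
    exact ⟨x, (congrArg (fun m : M ⟶ A => m x) (pullback.lift_fst α β w)).symm⟩
  let l'' := IsOpenImmersion.lift O''.ι (pullback.lift α β w) hlr''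
  have hl'' : l'' ≫ O''.ι = pullback.lift α β w := IsOpenImmersion.lift_fac _ _ _
  let o : (O'' : Scheme.{u}) ⟶ M := (pullback.fst pa pb ∣_ α.opensRange) ≫ α.isoOpensRange.inv
  haveI : IsSeparated o := inferInstance
  haveI : IsClosedImmersion (l'' ≫ o) := by
    have : l'' ≫ o = 𝟙 _ := by
      rw [← cancel_mono α]
      simp only [o, Category.assoc, Category.id_comp, Scheme.Hom.isoOpensRange_inv_comp]
      erw [morphismRestrict_ι (pullback.fst pa pb) α.opensRange]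
      rw [reassoc_of% hl'', pullback.lift_fst]
    rw [this]; infer_instance
  haveI : IsClosedImmersion l'' := IsClosedImmersion.of_comp l'' o
  have hc : (⟨ζ, hα⟩ : O'') ∈ closure (Set.range l'') := by
    rw [O''.ι.isOpenEmbedding.isInducing.closure_eq_preimage_closure_image, Set.mem_preimage,
      ← Set.range_comp]
    have : Set.range (O''.ι ∘ l'') = Set.range (pullback.lift α β w) := by
      rw [← hl'']; rfl
    rw [this]
    exact hζ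
  rw [l''.isClosedEmbedding.isClosed_range.closure_eq] at hc
  obtain ⟨x, hx⟩ := hc
  exact ⟨x, by rw [← hl'', Scheme.Hom.comp_apply, hx]; rfl⟩

variable {S U : Scheme.{u}} {g : U ⟶ S} {U₁ U₂ : U.Opens}

section Final

variable {Y Z : Scheme.{u}} (gY : Y ⟶ S) (pZ : Z ⟶ S) (Ω B : Y.Opens) (ψ : (B : Scheme.{u}) ⟶ Z)
  (O₂ : Z.Opens)

/-- The morphism on the overlap. -/
noncomputable abbrev psiN : ((Ω ⊓ B : Y.Opens) : Scheme.{u}) ⟶ Z :=
  Y.homOfLE (inf_le_right : Ω ⊓ B ≤ B) ≫ ψ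

/-- The inclusion of the overlap. -/
noncomputable abbrev ovl : ((psiN Ω B ψ ⁻¹ᵁ O₂ : (Ω ⊓ B : Y.Opens).toScheme.Opens) : Scheme.{u}) ⟶
    (Ω : Scheme.{u}) :=
  (psiN Ω B ψ ⁻¹ᵁ O₂).ι ≫ Y.homOfLE (inf_le_left : Ω ⊓ B ≤ Ω)

variable {gY pZ Ω B ψ O₂}

theorem ovl_over (hψ : ψ ≫ pZ = B.ι ≫ gY) :
    ovl Ω B ψ O₂ ≫ (Ω.ι ≫ gY) = (psiN Ω B ψ ∣_ O₂) ≫ (O₂.ι ≫ pZ) := by
  rw [morphismRestrict_ι_assoc]
  simp only [Category.assoc, hψ, Scheme.homOfLE_ι_assoc]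

theorem opens_homOfLE_apply {N : Y.Opens} (h : N ≤ Ω) (M : N.toScheme.Opens)
    (m : ↥(M : Scheme.{u})) : (M.ι ≫ Y.homOfLE h) m = ⟨m.1.1, h m.1.2⟩ := by
  rw [Scheme.Hom.comp_apply]
  exact Subtype.ext (Scheme.homOfLE_apply _ _)

theorem morphismRestrict_val {N : Y.Opens} (f : N.toScheme ⟶ Z) (O : Z.Opens)
    (m : ↥((f ⁻¹ᵁ O : N.toScheme.Opens) : Scheme.{u})) : ((f ∣_ O) m).1 = f m.1 := by
  show ((f ∣_ O) ≫ O.ι) m = f m.1
  rw [morphismRestrict_ι]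
  rfl

theorem psiN_apply (z : ↥((Ω ⊓ B : Y.Opens) : Scheme.{u})) :
    psiN Ω B ψ z = ψ ⟨z.1, z.2.2⟩ := by
  rw [psiN, Scheme.Hom.comp_apply]
  exact congrArg ψ (Subtype.ext (Scheme.homOfLE_apply _ _))

theorem isClosed_graph [IsSeparated gY] [IsSeparated pZ] (hψ : ψ ≫ pZ = B.ι ≫ gY)
    [IsOpenImmersion (psiN Ω B ψ)]
    (hlim : ∀ (h : (Ω ⊓ B : Y.Opens).ι ≫ gY = psiN Ω B ψ ≫ pZ) (ζ : ↥(pullback gY pZ)),
      ζ ∈ closure (Set.range (pullback.lift _ _ h)) → pullback.fst gY pZ ζ ∈ Ω →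
      pullback.fst gY pZ ζ ∉ B → pullback.snd gY pZ ζ ∉ O₂) :
    IsClosed (Set.range (pullback.lift (ovl Ω B ψ O₂) (psiN Ω B ψ ∣_ O₂) (ovl_over hψ))) := by
  let N : Y.Opens := Ω ⊓ B
  let ψN : (N : Scheme.{u}) ⟶ Z := psiN Ω B ψ
  let M2 : (N : Scheme.{u}).Opens := ψN ⁻¹ᵁ O₂
  let α : (M2 : Scheme.{u}) ⟶ (Ω : Scheme.{u}) :=
    M2.ι ≫ Y.homOfLE (inf_le_left : Ω ⊓ B ≤ Ω)
  let β : (M2 : Scheme.{u}) ⟶ (O₂ : Scheme.{u}) := ψN ∣_ O₂
  haveI : IsOpenImmersion ψN := inferInstanceAs (IsOpenImmersion (psiN Ω B ψ))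
  have hβ : β ≫ O₂.ι = M2.ι ≫ ψN := morphismRestrict_ι ψN O₂
  have hψN : ψN ≫ pZ = N.ι ≫ gY := by
    simp only [ψN, psiN, Category.assoc, hψ]
    exact Scheme.homOfLE_ι_assoc _ _ _
  have w : α ≫ (Ω.ι ≫ gY) = β ≫ (O₂.ι ≫ pZ) := ovl_over hψ
  show IsClosed (Set.range (pullback.lift α β w))
  refine isClosed_of_closure_subset fun ζ hζ => ?_
  let p₁ := pullback.fst (Ω.ι ≫ gY) (O₂.ι ≫ pZ)
  let p₂ := pullback.snd (Ω.ι ≫ gY) (O₂.ι ≫ pZ)
  let Φ : pullback (Ω.ι ≫ gY) (O₂.ι ≫ pZ) ⟶ pullback gY pZ :=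
    pullback.map _ _ _ _ Ω.ι O₂.ι (𝟙 _) (Category.comp_id _) (Category.comp_id _)
  have hΦ₁ : pullback.fst gY pZ (Φ ζ) = (p₁ ζ).1 := by
    rw [← Scheme.Hom.comp_apply, pullback.lift_fst]; rfl
  have hΦ₂ : pullback.snd gY pZ (Φ ζ) = (p₂ ζ).1 := by
    rw [← Scheme.Hom.comp_apply, pullback.lift_snd]; rfl
  have hB : (p₁ ζ).1 ∈ B := by
    by_contra hne
    refine hlim hψN.symm (Φ ζ) ?_ (by rw [hΦ₁]; exact (p₁ ζ).2) (by rw [hΦ₁]; exact hne)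
      (by rw [hΦ₂]; exact (p₂ ζ).2)
    refine closure_mono ?_ (image_closure_subset_closure_image Φ.continuous ⟨ζ, hζ, rfl⟩)
    rintro _ ⟨_, ⟨x, rfl⟩, rfl⟩
    refine ⟨M2.ι x, ?_⟩
    rw [← Scheme.Hom.comp_apply, ← Scheme.Hom.comp_apply]
    refine congrArg (fun m : (M2 : Scheme.{u}) ⟶ pullback gY pZ => m x) ?_
    apply pullback.hom_ext
    · simp only [Φ, α, Category.assoc, pullback.lift_fst, pullback.lift_fst_assoc, Scheme.homOfLE_ι]
      rfl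
    · simp only [Φ, Category.assoc, pullback.lift_snd, pullback.lift_snd_assoc, hβ]
      rfl
  let O' : (pullback (Ω.ι ≫ gY) (O₂.ι ≫ pZ)).Opens := p₁ ⁻¹ᵁ (Ω.ι ⁻¹ᵁ B)
  let toN : (O' : Scheme.{u}) ⟶ (N : Scheme.{u}) :=
    IsOpenImmersion.lift N.ι (O'.ι ≫ p₁ ≫ Ω.ι) (by
      rintro _ ⟨x, rfl⟩
      rw [Scheme.Opens.range_ι]
      exact ⟨(p₁ x.1).2, x.2⟩)
  have htoN : toN ≫ N.ι = O'.ι ≫ p₁ ≫ Ω.ι := IsOpenImmersion.lift_fac _ _ _
  have hover : (O'.ι ≫ p₂ ≫ O₂.ι) ≫ pZ = (toN ≫ ψN) ≫ pZ := by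
    rw [Category.assoc toN, hψN, reassoc_of% htoN]
    simp only [Category.assoc, p₁, p₂]
    rw [← pullback.condition]
  have hlr : Set.range (pullback.lift α β w) ⊆ Set.range O'.ι := by
    rintro _ ⟨x, rfl⟩
    rw [Scheme.Opens.range_ι]
    show (p₁ (pullback.lift α β w x)).1 ∈ B
    have e : p₁ (pullback.lift α β w x) = α x :=
      congrArg (fun m : (M2 : Scheme.{u}) ⟶ (Ω : Scheme.{u}) => m x) (pullback.lift_fst α β w)
    rw [e, show α x = _ from opens_homOfLE_apply _ _ x]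
    exact x.1.2.2
  let l' := IsOpenImmersion.lift O'.ι (pullback.lift α β w) hlr
  have hl' : l' ≫ O'.ι = pullback.lift α β w := IsOpenImmersion.lift_fac _ _ _
  have hl'N : l' ≫ toN = M2.ι := by
    rw [← cancel_mono N.ι, Category.assoc, htoN, reassoc_of% hl']
    simp only [α, p₁, pullback.lift_fst_assoc, Category.assoc, Scheme.homOfLE_ι]
  have hmem : ψN (toN ⟨ζ, hB⟩) ∈ O₂ := by
    have hc : (⟨ζ, hB⟩ : O') ∈ closure (Set.range l') := by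
      rw [O'.ι.isOpenEmbedding.isInducing.closure_eq_preimage_closure_image, Set.mem_preimage,
        ← Set.range_comp]
      have : Set.range (O'.ι ∘ l') = Set.range (pullback.lift α β w) := by
        rw [← hl']; rfl
      rw [this]
      exact hζ
    have e := apply_eq_of_closure pZ hover l' (by
      simp only [← Category.assoc, hl'N, hl']
      simp only [p₂, pullback.lift_snd, hβ]) hc
    have e' : ψN (toN ⟨ζ, hB⟩) = (p₂ ζ).1 := by
      rw [← Scheme.Hom.comp_apply]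
      exact e.symm
    rw [e']
    exact (p₂ ζ).2
  refine mem_range_graph α β w hζ ⟨⟨toN ⟨ζ, hB⟩, hmem⟩,
    (opens_homOfLE_apply (inf_le_left : Ω ⊓ B ≤ Ω) M2 _).trans (Subtype.ext ?_)⟩
  exact congrArg (fun m : (O' : Scheme.{u}) ⟶ Y => m ⟨ζ, hB⟩) htoN

/-- Gluing an open of `Y` with an open of `Z` along their common part gives a proper scheme. -/
theorem exists_proper_glue [IsProper gY] [IsSeparated pZ] [LocallyOfFiniteType pZ]
    (hψ : ψ ≫ pZ = B.ι ≫ gY) [IsOpenImmersion (psiN Ω B ψ)] (hcov : B ⊔ Ω = ⊤)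
    (hbd : ∀ z : B, z.1 ∉ Ω → ψ z ∈ O₂)
    (hdense : ∀ o ∈ O₂, o ∈ closure (Set.range ψ))
    (hlim : ∀ (h : (Ω ⊓ B : Y.Opens).ι ≫ gY = psiN Ω B ψ ≫ pZ) (ζ : ↥(pullback gY pZ)),
      ζ ∈ closure (Set.range (pullback.lift _ _ h)) → pullback.fst gY pZ ζ ∈ Ω →
      pullback.fst gY pZ ζ ∉ B → pullback.snd gY pZ ζ ∉ O₂) :
    ∃ (X : Scheme.{u}) (gX : X ⟶ S) (inl : (Ω : Scheme.{u}) ⟶ X) (inr : (O₂ : Scheme.{u}) ⟶ X),
      IsProper gX ∧ IsOpenImmersion inl ∧ IsOpenImmersion inr ∧ inl ≫ gX = Ω.ι ≫ gY ∧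
      inr ≫ gX = O₂.ι ≫ pZ ∧
      (∀ {Q : Scheme.{u}} (n : Q ⟶ ((Ω ⊓ B : Y.Opens) : Scheme.{u})) (y : Q ⟶ (O₂ : Scheme.{u})),
        y ≫ O₂.ι = n ≫ psiN Ω B ψ → n ≫ Y.homOfLE inf_le_left ≫ inl = y ≫ inr) ∧
      (∀ (x : Ω) (o : O₂), inl x = inr o → ∃ h : x.1 ∈ B, ψ ⟨x.1, h⟩ = o.1) := by
  let N : Y.Opens := Ω ⊓ B
  let ψN : (N : Scheme.{u}) ⟶ Z := psiN Ω B ψ
  let M2 : (N : Scheme.{u}).Opens := ψN ⁻¹ᵁ O₂
  let α : (M2 : Scheme.{u}) ⟶ (Ω : Scheme.{u}) :=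
    M2.ι ≫ Y.homOfLE (inf_le_left : Ω ⊓ B ≤ Ω)
  let β : (M2 : Scheme.{u}) ⟶ (O₂ : Scheme.{u}) := ψN ∣_ O₂
  haveI : IsOpenImmersion ψN := inferInstanceAs (IsOpenImmersion (psiN Ω B ψ))
  have hβ : β ≫ O₂.ι = M2.ι ≫ ψN := morphismRestrict_ι ψN O₂
  have w : α ≫ (Ω.ι ≫ gY) = β ≫ (O₂.ι ≫ pZ) := ovl_over hψ
  let X := glue α β
  let gX : X ⟶ S := glueDesc w
  haveI : IsSeparated gX := isSeparated_glue w (isClosed_graph hψ hlim)
  haveI : LocallyOfFiniteType gX := locallyOfFiniteType_glue w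
  let inl := pushout.inl α β
  let inr := pushout.inr α β
  have hcompat : ∀ {Q : Scheme.{u}} (n : Q ⟶ (N : Scheme.{u})) (y : Q ⟶ (O₂ : Scheme.{u})),
      y ≫ O₂.ι = n ≫ ψN → n ≫ Y.homOfLE (inf_le_left : Ω ⊓ B ≤ Ω) ≫ inl = y ≫ inr := by
    intro Q n y h
    let l : Q ⟶ (M2 : Scheme.{u}) := IsOpenImmersion.lift M2.ι n (by
      rintro _ ⟨x, rfl⟩
      rw [Scheme.Opens.range_ι]
      show ψN (n x) ∈ O₂
      rw [← Scheme.Hom.comp_apply, ← h]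
      exact (y x).2)
    have hl : l ≫ M2.ι = n := IsOpenImmersion.lift_fac _ _ _
    have hy : l ≫ β = y := by rw [← cancel_mono O₂.ι, Category.assoc, hβ, reassoc_of% hl, h]
    have hn : l ≫ α = n ≫ Y.homOfLE (inf_le_left : Ω ⊓ B ≤ Ω) := by
      simp only [α, reassoc_of% hl]
    have hc : α ≫ inl = β ≫ inr := pushout.condition
    calc n ≫ Y.homOfLE (inf_le_left : Ω ⊓ B ≤ Ω) ≫ inl = (l ≫ α) ≫ inl := by
          rw [hn, Category.assoc]
      _ = l ≫ (β ≫ inr) := by rw [Category.assoc, hc]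
      _ = y ≫ inr := by rw [← Category.assoc, hy]
  -- the surjection from `Y`
  let B₀ : Y.Opens := B.ι ''ᵁ (ψ ⁻¹ᵁ O₂)
  have hB₀ : B₀ ≤ B := Scheme.Opens.ι_image_le _ _
  have hmemB₀ : ∀ x : B₀, ψ (Y.homOfLE hB₀ x) ∈ O₂ := fun x => by
    obtain ⟨y, hy, hyx⟩ := x.2
    have : Y.homOfLE hB₀ x = y := Subtype.ext ((Scheme.homOfLE_apply _ _).trans hyx.symm)
    rw [this]
    exact hy
  let b₀ : (B₀ : Scheme.{u}) ⟶ (O₂ : Scheme.{u}) :=
    IsOpenImmersion.lift O₂.ι (Y.homOfLE hB₀ ≫ ψ) (by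
      rintro _ ⟨x, rfl⟩
      rw [Scheme.Opens.range_ι]
      exact hmemB₀ x)
  have hb₀ : b₀ ≫ O₂.ι = Y.homOfLE hB₀ ≫ ψ := IsOpenImmersion.lift_fac _ _ _
  have hcovY : Ω ⊔ B₀ = ⊤ := by
    refine eq_top_iff.2 fun x _ => ?_
    by_cases hx : x ∈ Ω
    · exact Or.inl hx
    · have hxB : x ∈ B := ((hcov.ge (trivial : x ∈ (⊤ : Y.Opens))).resolve_right hx)
      exact Or.inr ⟨⟨x, hxB⟩, hbd ⟨x, hxB⟩ hx, rfl⟩
  obtain ⟨Ψ, hΨ₁, hΨ₂⟩ := AlgGlue.exists_glue_two Ω B₀ hcovY inl (b₀ ≫ inr) (by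
    have e := hcompat (Y.homOfLE (inf_le_inf_left Ω hB₀ : Ω ⊓ B₀ ≤ Ω ⊓ B))
      (Y.homOfLE (inf_le_right : Ω ⊓ B₀ ≤ B₀) ≫ b₀) (by
        rw [Category.assoc, hb₀]
        simp only [ψN, psiN, ← Category.assoc, Scheme.homOfLE_homOfLE])
    simp only [← Category.assoc, Scheme.homOfLE_homOfLE] at e
    simp only [← Category.assoc]
    exact e)
  have hΨg : Ψ ≫ gX = gY := by
    refine Scheme.Cover.hom_ext (Y.openCoverOfIsOpenCover
      (fun i : Bool => if i then Ω else B₀) (by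
        show (⨆ i : Bool, if i then Ω else B₀) = ⊤
        rw [iSup_bool_eq]; simpa using hcovY)) _ _ fun i => ?_
    rcases i with _ | _
    · show B₀.ι ≫ Ψ ≫ gX = B₀.ι ≫ gY
      rw [reassoc_of% hΨ₂]
      simp only [inr, gX, inr_glueDesc]
      rw [reassoc_of% hb₀, hψ, Scheme.homOfLE_ι_assoc]
    · show Ω.ι ≫ Ψ ≫ gX = Ω.ι ≫ gY
      rw [reassoc_of% hΨ₁]
      simp only [inl, gX, inl_glueDesc]
  haveI : IsProper Ψ := by
    haveI : IsProper (Ψ ≫ gX) := by rw [hΨg]; infer_instance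
    exact IsProper.of_comp Ψ gX
  haveI : Surjective Ψ := ⟨by
    rw [← Set.range_eq_univ, Set.eq_univ_iff_forall]
    intro x
    rcases glue_cover α β x with ⟨ω, rfl⟩ | ⟨o, rfl⟩
    · exact ⟨ω.1, congrArg (fun m : (Ω : Scheme.{u}) ⟶ X => m ω) hΨ₁⟩
    · have h0 : o ∈ closure (O₂.ι ⁻¹' Set.range ψ) := by
        rw [← O₂.ι.isOpenEmbedding.isOpenMap.preimage_closure_eq_closure_preimage O₂.ι.continuous]
        exact hdense o.1 o.2
      have h1 := image_closure_subset_closure_image inr.continuous ⟨o, h0, rfl⟩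
      rw [← Ψ.isClosedMap.isClosed_range.closure_eq]
      refine closure_mono ?_ h1
      rintro _ ⟨o', ⟨y, hy⟩, rfl⟩
      have hyB₀ : y.1 ∈ B₀ := ⟨y, show ψ y ∈ O₂ by rw [hy]; exact o'.2, rfl⟩
      refine ⟨y.1, ?_⟩
      rw [show Ψ y.1 = (b₀ ≫ inr) ⟨y.1, hyB₀⟩ from
        congrArg (fun m : (B₀ : Scheme.{u}) ⟶ X => m ⟨y.1, hyB₀⟩) hΨ₂]
      show inr (b₀ ⟨y.1, hyB₀⟩) = inr o'
      congr 1
      refine Subtype.ext (Eq.trans ?_ hy)
      show (b₀ ≫ O₂.ι) ⟨y.1, hyB₀⟩ = ψ y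
      rw [hb₀, Scheme.Hom.comp_apply]
      exact congrArg ψ (Subtype.ext (Scheme.homOfLE_apply _ _))⟩
  haveI : QuasiCompact gX := ⟨fun G hG hc => by
    have e : gX ⁻¹' G = Ψ '' (gY ⁻¹' G) := by
      rw [← hΨg, Scheme.Hom.comp_base, TopCat.coe_comp, Set.preimage_comp,
        Set.image_preimage_eq _ Ψ.surjective]
    rw [e]
    exact (gY.isCompact_preimage (U := ⟨G, hG⟩) hc).image Ψ.continuous⟩
  haveI : UniversallyClosed gX := by
    haveI : UniversallyClosed (Ψ ≫ gX) := by rw [hΨg]; infer_instance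
    exact UniversallyClosed.of_comp_surjective Ψ gX
  haveI : IsProper gX := ⟨⟩
  refine ⟨X, gX, inl, inr, inferInstance, inferInstance, inferInstance, inl_glueDesc w, inr_glueDesc w,
    hcompat, fun x o hxo => ?_⟩
  obtain ⟨m, hm₁, hm₂⟩ := glue_inter α β hxo
  subst hm₁ hm₂
  have e₁ : α m = _ := opens_homOfLE_apply _ _ m
  rw [e₁]
  exact ⟨m.1.2.2, ((morphismRestrict_val _ _ m).trans (psiN_apply m.1)).symm⟩

end Final

theorem Pre.Sep.Target.exists_compactification [IsNoetherian S] [IsSeparated g]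
    (T : Pre.Sep.Target g U₁ U₂) (hcov : U₁ ⊔ U₂ = ⊤) (hd : Dense ((U₁ ⊓ U₂ : U.Opens) : Set U)) :
    ∃ (Y : Scheme.{u}) (j : U ⟶ Y) (p : Y ⟶ S), IsOpenImmersion j ∧ IsProper p ∧ j ≫ p = g := by
  obtain ⟨D, sp, Z, pZ, properZ, k, openK, k_over, denseK, ψ, ψ_over, ψ_P, openN, O₂, k_le,
    boundary, limit⟩ := T
  haveI := openK
  haveI := properZ
  haveI : IsProper D.gY := D.proper
  haveI : IsOpenImmersion (psiN sp.Ω sp.B ψ) := openN
  have hV : ∀ u : U₂, u.1 ∈ U₁ → ∃ (a : D.A) (h : a.1 ∈ D.P), D.πP ⟨a.1, h⟩ = u := fun u hu => by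
    obtain ⟨a, ha⟩ := D.πA.surjective ⟨u.1, hu⟩
    have haP : a.1 ∈ D.P := D.memP a (by rw [ha]; exact u.2)
    exact ⟨a, haP, Subtype.ext ((D.agree_apply a.1 a.2 haP).symm.trans (congrArg Subtype.val ha))⟩
  have hψk : ∀ p : D.P, ψ ⟨p.1, sp.le_B p.2⟩ = k (D.πP p) := fun p =>
    (congrArg ψ (Subtype.ext (Scheme.homOfLE_apply (X := D.Y) sp.le_B p).symm)).trans
      (congrArg (fun m : (D.P : Scheme.{u}) ⟶ Z => m p) ψ_P)
  have hd2 : Dense (k '' (U₂.ι ⁻¹' (U₁ ⊓ U₂ : U.Opens))) :=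
    dense_image k denseK (hd.preimage U₂.ι.isOpenEmbedding.isOpenMap)
  obtain ⟨X, gX, inl, inr, hgX, hinl, hinr, hinlg, hinrg, hcompat, hinter⟩ :=
    exists_proper_glue (gY := D.gY) (pZ := pZ) (O₂ := O₂) ψ_over sp.cover boundary (fun o _ => by
      refine closure_mono ?_ (hd2 o)
      rintro _ ⟨u, hu, rfl⟩
      obtain ⟨a, haP, rfl⟩ := hV u hu.1
      exact ⟨_, hψk _⟩) limit
  let k' : (U₂ : Scheme.{u}) ⟶ (O₂ : Scheme.{u}) := IsOpenImmersion.lift O₂.ι k (by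
    rw [Scheme.Opens.range_ι]; exact k_le)
  have hk' : k' ≫ O₂.ι = k := IsOpenImmersion.lift_fac _ _ _
  haveI : IsOpenImmersion k' := by
    haveI : IsOpenImmersion (k' ≫ O₂.ι) := by rw [hk']; infer_instance
    exact IsOpenImmersion.of_comp (f := k') (g := O₂.ι)
  let a₁ : (U₁ : Scheme.{u}) ⟶ X := inv D.πA ≫ D.Y.homOfLE sp.le_Ω ≫ inl
  let a₂ : (U₂ : Scheme.{u}) ⟶ X := k' ≫ inr
  let v₁ := U.homOfLE (inf_le_left : U₁ ⊓ U₂ ≤ U₁)
  let v₂ := U.homOfLE (inf_le_right : U₁ ⊓ U₂ ≤ U₂)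
  let vA := v₁ ≫ inv D.πA
  have hrP : Set.range (vA ≫ D.A.ι) ⊆ Set.range (D.A ⊓ D.P).ι := by
    rintro _ ⟨x, rfl⟩
    rw [Scheme.Opens.range_ι]
    refine ⟨(vA x).2, D.memP (vA x) ?_⟩
    have : D.πA (vA x) = v₁ x := by
      rw [← Scheme.Hom.comp_apply, Category.assoc, IsIso.inv_hom_id, Category.comp_id]
    rw [this, show (v₁ x).1 = x.1 from Scheme.homOfLE_apply _ _]
    exact x.2.2
  let vAP := IsOpenImmersion.lift (D.A ⊓ D.P).ι (vA ≫ D.A.ι) hrP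
  have hvAP : vAP ≫ (D.A ⊓ D.P).ι = vA ≫ D.A.ι := IsOpenImmersion.lift_fac _ _ _
  have hvP : (vAP ≫ D.Y.homOfLE inf_le_right) ≫ D.πP = v₂ := by
    have hA : vAP ≫ D.Y.homOfLE inf_le_left = vA := by
      rw [← cancel_mono D.A.ι, Category.assoc, Scheme.homOfLE_ι, hvAP]
    rw [← cancel_mono U₂.ι]
    simp only [Category.assoc]
    rw [← D.agree, reassoc_of% hA]
    simp only [vA, v₁, v₂, Category.assoc, IsIso.inv_hom_id_assoc, Scheme.homOfLE_ι]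
  obtain ⟨j, hj₁, hj₂⟩ := AlgGlue.exists_glue_two U₁ U₂ hcov a₁ a₂ (by
    let n : ((U₁ ⊓ U₂ : U.Opens) : Scheme.{u}) ⟶ ((sp.Ω ⊓ sp.B : D.Y.Opens) : Scheme.{u}) :=
      vAP ≫ D.Y.homOfLE (inf_le_inf sp.le_Ω sp.le_B)
    have e := hcompat n (v₂ ≫ k') (by
      rw [Category.assoc, hk', ← hvP]
      simp only [n, psiN, Category.assoc, ← ψ_P]
      simp only [← Category.assoc, Scheme.homOfLE_homOfLE])
    have hA : vAP ≫ D.Y.homOfLE inf_le_left = vA := by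
      rw [← cancel_mono D.A.ι, Category.assoc, Scheme.homOfLE_ι, hvAP]
    simp only [n, Category.assoc] at e
    show v₁ ≫ (inv D.πA ≫ D.Y.homOfLE sp.le_Ω ≫ inl) = v₂ ≫ k' ≫ inr
    rw [← e, ← Category.assoc v₁, show v₁ ≫ inv D.πA = vA from rfl, ← hA]
    simp only [Category.assoc, Scheme.homOfLE_homOfLE_assoc])
  haveI : IsOpenImmersion a₁ := inferInstance
  haveI : IsOpenImmersion a₂ := inferInstance
  refine ⟨X, j, gX, ?_, hgX, ?_⟩
  · refine isOpenImmersion_of_injective j (fun i : Bool => if i then U₁ else U₂)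
      (fun x => (hcov.ge (trivial : x ∈ (⊤ : U.Opens))).elim (fun h => ⟨true, h⟩) fun h => ⟨false, h⟩)
      (fun i => ?_) ?_
    · cases i
      · show IsOpenImmersion (U₂.ι ≫ j); rw [hj₂]; infer_instance
      · show IsOpenImmersion (U₁.ι ≫ j); rw [hj₁]; infer_instance
    · have ej₁ : ∀ x : U₁, j x.1 = a₁ x := fun x => congrArg (fun m : (U₁ : Scheme.{u}) ⟶ X => m x) hj₁
      have ej₂ : ∀ x : U₂, j x.1 = a₂ x := fun x => congrArg (fun m : (U₂ : Scheme.{u}) ⟶ X => m x) hj₂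
      have key : ∀ (x : U₁) (y : U₂), j x.1 = j y.1 → x.1 = y.1 := fun x y hxy => by
        rw [ej₁, ej₂] at hxy
        obtain ⟨hB, hψy⟩ := hinter (D.Y.homOfLE sp.le_Ω (inv D.πA x)) (k' y) hxy
        let a := inv D.πA x
        have ha : (D.Y.homOfLE sp.le_Ω a).1 = a.1 := Scheme.homOfLE_apply _ _
        have haP : a.1 ∈ D.P := sp.inf_B ⟨ha ▸ hB, a.2⟩
        have h3 : k (D.πP ⟨a.1, haP⟩) = k y := by
          rw [← hψk, show k y = (k' y).1 from (congrArg (fun m : (U₂ : Scheme.{u}) ⟶ Z => m y) hk').symm,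
            ← hψy]
          exact congrArg ψ (Subtype.ext ha.symm)
        rw [← k.isOpenEmbedding.injective h3, ← D.agree_apply a.1 a.2 haP]
        have : D.πA a = x := by rw [← Scheme.Hom.comp_apply, IsIso.inv_hom_id]; rfl
        exact congrArg Subtype.val this.symm
      intro x y hxy
      rcases hcov.ge (trivial : x ∈ (⊤ : U.Opens)) with hx | hx <;>
        rcases hcov.ge (trivial : y ∈ (⊤ : U.Opens)) with hy | hy
      · exact congrArg Subtype.val (a₁.isOpenEmbedding.injective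
          (a₁ := ⟨x, hx⟩) (a₂ := ⟨y, hy⟩) (by rw [← ej₁, ← ej₁]; exact hxy))
      · exact key ⟨x, hx⟩ ⟨y, hy⟩ hxy
      · exact (key ⟨y, hy⟩ ⟨x, hx⟩ hxy.symm).symm
      · exact congrArg Subtype.val (a₂.isOpenEmbedding.injective
          (a₁ := ⟨x, hx⟩) (a₂ := ⟨y, hy⟩) (by rw [← ej₂, ← ej₂]; exact hxy))
  · refine Scheme.Cover.hom_ext (U.openCoverOfIsOpenCover
      (fun i : Bool => if i then U₁ else U₂) (by
        show (⨆ i : Bool, if i then U₁ else U₂) = ⊤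
        rw [iSup_bool_eq]; simpa using hcov)) _ _ fun i => ?_
    rcases i with _ | _
    · show U₂.ι ≫ j ≫ gX = U₂.ι ≫ g
      rw [reassoc_of% hj₂]
      simp only [a₂, Category.assoc, hinrg]
      rw [reassoc_of% hk', k_over]
    · show U₁.ι ≫ j ≫ gX = U₁.ι ≫ g
      rw [reassoc_of% hj₁]
      simp only [a₁, Category.assoc, hinlg]
      rw [Scheme.homOfLE_ι_assoc, IsIso.inv_comp_eq, D.overA]

/-- The union of two opens with compactifications, dense intersection, has a compactification. -/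
theorem exists_compactification_union [IsNoetherian S] (g : U ⟶ S) [IsSeparated g]
    [LocallyOfFiniteType g] [QuasiCompact g] (hcov : U₁ ⊔ U₂ = ⊤)
    (hd : Dense ((U₁ ⊓ U₂ : U.Opens) : Set U))
    {Y₁ Y₂ : Scheme.{u}} (j₁ : (U₁ : Scheme.{u}) ⟶ Y₁) (p₁ : Y₁ ⟶ S) [IsOpenImmersion j₁]
    [IsProper p₁] (h₁ : j₁ ≫ p₁ = U₁.ι ≫ g)
    (j₂ : (U₂ : Scheme.{u}) ⟶ Y₂) (p₂ : Y₂ ⟶ S) [IsOpenImmersion j₂]
    [IsProper p₂] (h₂ : j₂ ≫ p₂ = U₂.ι ≫ g) :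
    ∃ (Y : Scheme.{u}) (j : U ⟶ Y) (p : Y ⟶ S), IsOpenImmersion j ∧ IsProper p ∧ j ≫ p = g := by
  obtain ⟨D⟩ := exists_pre (g := g) hd j₁ p₁ h₁ j₂ p₂ h₂
  obtain ⟨D', ⟨sp⟩⟩ := D.exists_sep
  obtain ⟨D'', sp', φ, hφ, hφP⟩ := D'.exists_sep_hom sp j₂ p₂ h₂
  obtain ⟨T⟩ := Pre.Sep.exists_target j₂ D'' sp' p₂ h₂ φ hφ hφP
  exact T.exists_compactification hcov hd

end Groth.Agent.NagataLib
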